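import Groth.Agent.CycLib.Chern.Basic
import Groth.Agent.CycLib.GysinBC
import Groth.Agent.CycLib.Closed

/-! # Chern class caps and Gysin maps -/

set_option autoImplicit false
set_option backward.isDefEq.respectTransparency false
set_option linter.style.haveILetI false

universe u

open CategoryTheory CategoryTheory.Limits AlgebraicGeometry TopologicalSpace

noncomputable section

namespace Groth.Agent.CycLib

section Hom

variable {X D : Scheme.{u}} [IsLocallyNoetherian X] {δ : X → ℤ} {L : X.Modules}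

/-- The Gysin map as a homomorphism of cycles. -/
def gysinHom (hδ : Cyc.IsDimFun X δ) (hL : PicF.IsInvertible L) (i : D ⟶ X) [IsClosedImmersion i]
    (v : (ξ : X) → Cyc.secFibre L ξ) : AlgebraicCycle X ℤ →+ AlgebraicCycle D ℤ :=
  AddMonoidHom.mk' (fun a => restrictCycle i (c1Cycle hδ hL a v)) fun a b => by
    rw [PB.c1Cycle_add]
    rfl

end Hom

namespace PB.Setting

variable {X P D PD : Scheme.{u}} {p : P ⟶ X} {i : D ⟶ X} {i' : PD ⟶ P} {pD : PD ⟶ D}
  {δ : X → ℤ} {δP : P → ℤ} {O1 : P.Modules} {n : ℕ} (S : Setting p O1 δP δ n)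
  (S' : Setting pD ((Scheme.Modules.pullback i').obj O1) (fun z => δP (i' z)) (fun d => δ (i d)) n)
  [IsLocallyNoetherian P] [IsLocallyNoetherian PD] [IsLocallyNoetherian X] [IsLocallyNoetherian D]
  [IsClosedImmersion i] [IsClosedImmersion i'] (hsq : IsPullback i' pD p i)
  {L : X.Modules} (hL : PicF.IsInvertible L) {s : L.presheaf.obj (Opposite.op ⊤)}
  (hD : Cyc.IsZeroSchemeOf i L s) {w : (ξ : X) → Cyc.secFibre L ξ} (hw : ∀ ξ, w ξ ≠ 0)

/-- The Gysin map on the bundle. -/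
def gysinUp (S : Setting p O1 δP δ n) (hL : PicF.IsInvertible L) (s : L.presheaf.obj (Opposite.op ⊤))
    (w : (ξ : X) → Cyc.secFibre L ξ) : AlgebraicCycle P ℤ →+ AlgebraicCycle PD ℤ :=
  gysinHom S.hP.2.2 (AmpleLib.isInvertible_pullback p hL) i'
    (Cyc.gysinChoice _ (pullSec p L s) fun η => pullFib p L η (w (p η)))

include hsq hD hw in
/-- Iterated caps commute with Gysin maps. -/
theorem gysin_seq (t : ℕ → (ξ : P) → Cyc.secFibre O1 ξ) (ht : ∀ l ξ, t l ξ ≠ 0) {j : ℤ} {a : AlgebraicCycle X ℤ}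
    (ha : a ∈ Cyc.Zk X δ j) :
    ∀ m : ℕ, Cyc.RatEquiv (fun z => δP (i' z)) (j + n - m - 1) (S.gysinUp (i' := i') hL s w (S.seq t a m))
      (S'.seq (fun l η => pullFib i' O1 η (t l (i' η))) (gysinHom S.hX.2.2 hL i (Cyc.gysinChoice L s w) a) m)
  | 0 => by
    haveI := S.flat
    haveI := S.lft
    haveI := S'.lft
    have e : S.gysinUp (i' := i') hL s w (S.pullC a) = S'.pullC (gysinHom S.hX.2.2 hL i (Cyc.gysinChoice L s w) a) := by
      ext z
      show Cyc.c1CapFun δP ((Scheme.Modules.pullback p).obj L) ⇑(S.pullC a)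
          (Cyc.gysinChoice _ (pullSec p L s) fun η => pullFib p L η (w (p η))) (i' z) =
        Cyc.pullFun pD (fun z => δP (i' z)) (fun d => δ (i d)) n
          (fun d => Cyc.c1CapFun δ L ⇑a (Cyc.gysinChoice L s w) (i d)) z
      rw [show (Cyc.gysinChoice _ (pullSec p L s) fun η => pullFib p L η (w (p η))) =
        fun η => pullFib p L η (Cyc.gysinChoice L s w (p η)) from funext fun η => pullFib_gysinChoice p hL s w η,
        S'.pullFun_eq]
      refine (congrFun (pullFun_c1Cap S.isShift S.hP.2.2 S.hX.2.2 hL (Cyc.gysinChoice L s w) (gysinChoice_ne_zero hw) a)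
        (i' z)).symm.trans ?_
      rw [S.pullFun_eq]
      rw [show p (i' z) = i (pD z) by rw [← Scheme.Hom.comp_apply, hsq.w, Scheme.Hom.comp_apply]]
    show Cyc.RatEquivZero _ _ (S.gysinUp hL s w (S.pullC a) - S'.pullC _)
    rw [e, sub_self]
    exact ratEquivZero_zero
  | m + 1 => by
    have hw' : ∀ η, pullFib p L η (w (p η)) ≠ 0 := fun η => pullFib_ne_zero p L hL (hw _)
    have hL' := AmpleLib.isInvertible_pullback p hL
    have hD' := isZeroSchemeOf_of_isPullback p hL hD hsq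
    have hk : S.seq t a m ∈ Cyc.Zk P δP (j + n - (m + 1 : ℕ) - 1 + 2) := by
      rw [show j + n - ((m + 1 : ℕ) : ℤ) - 1 + 2 = j + n - m by push_cast; ring]
      exact S.seq_mem_Zk t ha m
    let t' : ℕ → (η : PD) → Cyc.secFibre ((Scheme.Modules.pullback i').obj O1) η :=
      fun l η => pullFib i' O1 η (t l (i' η))
    have ht' : ∀ l η, t' l η ≠ 0 := fun l η => pullFib_ne_zero _ _ S.inv (ht l _)
    have h1 : Cyc.RatEquiv (fun z => δP (i' z)) (j + n - (m + 1 : ℕ) - 1) (S.gysinUp (i' := i') hL s w (S.seq t a (m + 1)))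
        (c1Cycle S'.hP.2.2 S'.inv (S.gysinUp (i' := i') hL s w (S.seq t a m)) (t' m)) := by
      refine gysin_c1Cap_comm S.hP hL' S.inv hD' hw' hk (t m) (ht m) _ _ (fun _ => rfl) fun z => ?_
      exact (c1CapFun_closed i' S.hP.2.2 S.inv (Cyc.c1CapFun δP ((Scheme.Modules.pullback p).obj L) ⇑(S.seq t a m)
        (Cyc.gysinChoice _ (pullSec p L s) fun η => pullFib p L η (w (p η)))) (fun x hx => by
        obtain ⟨ξ, hξ⟩ := exists_ne_zero_finsum hx
        exact mem_range_of_gysin S.hP.2.2 hL' hD' (right_ne_zero_of_mul hξ)) (t m) z).symm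
    have h2 : Cyc.RatEquivZero (fun z => δP (i' z)) (j + n - (m + 1 : ℕ) - 1)
        (c1Cycle S'.hP.2.2 S'.inv (S.gysinUp (i' := i') hL s w (S.seq t a m) -
          S'.seq t' (gysinHom S.hX.2.2 hL i (Cyc.gysinChoice L s w) a) m) (t' m)) := by
      refine c1Cap_ratEquivZero S'.hP S'.inv ?_ (t' m) (ht' m) _ rfl
      rw [show j + n - ((m + 1 : ℕ) : ℤ) - 1 + 1 = j + n - m - 1 by push_cast; ring]
      exact gysin_seq t ht ha m
    have e : c1Cycle S'.hP.2.2 S'.inv (S.gysinUp (i' := i') hL s w (S.seq t a m) -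
          S'.seq t' (gysinHom S.hX.2.2 hL i (Cyc.gysinChoice L s w) a) m) (t' m) =
        c1Cycle S'.hP.2.2 S'.inv (S.gysinUp (i' := i') hL s w (S.seq t a m)) (t' m) -
          S'.seq t' (gysinHom S.hX.2.2 hL i (Cyc.gysinChoice L s w) a) (m + 1) := by
      rw [eq_sub_iff_add_eq]
      show _ + c1Cycle S'.hP.2.2 S'.inv (S'.seq t' (gysinHom S.hX.2.2 hL i (Cyc.gysinChoice L s w) a) m) (t' m) = _
      rw [← c1Cycle_add, sub_add_cancel]
    rw [e] at h2
    have h3 := ratEquivZero_add h1 h2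
    rwa [sub_add_sub_cancel] at h3

include S S' hsq hD hw in
/-- Chern caps commute with Gysin maps. -/
theorem chern_gysin {k : ℤ} {α : AlgebraicCycle X ℤ} {γ : Fin (n + 1 + 1) → AlgebraicCycle X ℤ}
    (hγ : Cyc.IsChernCap p δ δP O1 (n + 1) k α γ) :
    Cyc.IsChernCap pD (fun d => δ (i d)) (fun z => δP (i' z)) ((Scheme.Modules.pullback i').obj O1) (n + 1) (k - 1)
      (gysinHom S.hX.2.2 hL i (Cyc.gysinChoice L s w) α)
      fun l => gysinHom S.hX.2.2 hL i (Cyc.gysinChoice L s w) (γ l) := by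
  obtain ⟨t₀, ht₀⟩ := exists_secs S.inv
  let t : ℕ → (ξ : P) → Cyc.secFibre O1 ξ := fun _ => t₀
  have ht : ∀ l ξ, t l ξ ≠ 0 := fun _ => ht₀
  let t' : ℕ → (η : PD) → Cyc.secFibre ((Scheme.Modules.pullback i').obj O1) η :=
    fun l η => pullFib i' O1 η (t l (i' η))
  obtain ⟨h0, hd, hrel⟩ := (S.isChernCap_iff t ht).1 hγ
  refine (S'.isChernCap_iff t' fun l η => pullFib_ne_zero _ _ S.inv (ht l _)).2
    ⟨congrArg _ h0, fun l d hne => ?_, ?_⟩
  · exact c1CapFun_eq_zero_of_ne (k := k - 1 - ((l : ℕ) : ℤ)) (fun ξ hξ => hd l ξ (fun e => hξ (by omega))) _ hne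
  · have hw' : ∀ η, pullFib p L η (w (p η)) ≠ 0 := fun η => pullFib_ne_zero p L hL (hw _)
    have h1 : Cyc.RatEquivZero (fun z => δP (i' z)) (k - 1 - 1) (S.gysinUp (i' := i') hL s w (S.relSum t γ)) := by
      refine gysin_ratEquivZero S.hP (AmpleLib.isInvertible_pullback p hL) (isZeroSchemeOf_of_isPullback p hL hD hsq)
        hw' ?_ _ fun _ => rfl
      rwa [show k - 1 - 1 + 1 = k - 1 by ring]
    have h2 : Cyc.RatEquivZero (fun z => δP (i' z)) (k - 1 - 1) (S.gysinUp (i' := i') hL s w (S.relSum t γ) -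
        S'.relSum t' fun l => gysinHom S.hX.2.2 hL i (Cyc.gysinChoice L s w) (γ l)) := by
      rw [relSum, relSum, map_sum, ← Finset.sum_sub_distrib]
      refine (ratZero S'.hP.2.2 (k - 1 - 1)).sum_mem fun l _ => ?_
      rw [map_zsmul, ← smul_sub]
      refine ratEquivZero_zsmul S'.hP.2.2 ?_ _
      have := S.gysin_seq S' hsq hL hD hw t ht (hd (Fin.rev l)) (l : ℕ)
      rwa [show k - ((Fin.rev l : ℕ) : ℤ) + n - (l : ℕ) - 1 = k - 1 - 1 by rw [Fin.val_rev]; omega] at this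
    have h3 := ratEquivZero_sub S'.hP.2.2 h1 h2
    rwa [sub_sub_cancel] at h3

end PB.Setting

end Groth.Agent.CycLib
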