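import Mathlib.Algebra.Polynomial.BigOperators
import Mathlib.Algebra.Polynomial.Eval.Coeff
import Mathlib.Data.Nat.Choose.Sum
import Mathlib.Tactic

/-! # Identities for symmetric functions of roots -/

set_option autoImplicit false

open Polynomial

noncomputable section

namespace Groth.Agent.CycLib.PolyId

variable {R : Type*} [CommRing R]

/-- The polynomial with the given roots. -/
def rootPoly (r : ℕ) (x : ℕ → R) : R[X] := ∏ i ∈ Finset.range r, (1 + C (x i) * X)

theorem rootPoly_succ (r : ℕ) (x : ℕ → R) : rootPoly (r + 1) x = rootPoly r x * (1 + C (x r) * X) :=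
  Finset.prod_range_succ _ _

theorem coeff_mul_linear (p : R[X]) (a : R) (j : ℕ) :
    (p * (1 + C a * X)).coeff (j + 1) = p.coeff (j + 1) + a * p.coeff j := by
  rw [mul_add, mul_one, coeff_add, ← mul_assoc, coeff_mul_X, coeff_mul_C, mul_comm]

theorem coeff_zero_rootPoly : ∀ (r : ℕ) (x : ℕ → R), (rootPoly r x).coeff 0 = 1
  | 0, x => by simp [rootPoly]
  | r + 1, x => by rw [rootPoly_succ, mul_coeff_zero, coeff_zero_rootPoly r x]; simp

theorem coeff_rootPoly_eq_zero : ∀ (r : ℕ) (x : ℕ → R) (j : ℕ), r < j → (rootPoly r x).coeff j = 0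
  | 0, x, j, h => by simp [rootPoly, coeff_one, Nat.ne_of_gt h]
  | r + 1, x, 0, h => absurd h (Nat.not_lt_zero _)
  | r + 1, x, j + 1, h => by
    rw [rootPoly_succ, coeff_mul_linear, coeff_rootPoly_eq_zero r x (j + 1) (by omega),
      coeff_rootPoly_eq_zero r x j (by omega), mul_zero, add_zero]

theorem coeff_one_add (c : R) (n j : ℕ) : ((1 + C c * X) ^ n).coeff j = (n.choose j : R) * c ^ j := by
  have h : ((1 + X : R[X]) ^ n).comp (C c * X) = (1 + C c * X) ^ n := by simp [pow_comp]
  rw [← h, comp_C_mul_X_coeff, coeff_one_add_X_pow]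

/-- Shifting all roots. -/
theorem shift_poly : ∀ (r : ℕ) (x : ℕ → R) (c : R), rootPoly r (fun i => x i + c) =
    ∑ m ∈ Finset.range (r + 1), C ((rootPoly r x).coeff m) * X ^ m * (1 + C c * X) ^ (r - m)
  | 0, x, c => by simp [rootPoly]
  | r + 1, x, c => by
    rw [rootPoly_succ, shift_poly r x c, Finset.sum_range_succ' _ (r + 1), Finset.sum_mul]
    have e : ∀ m ∈ Finset.range (r + 1), C ((rootPoly r x).coeff m) * X ^ m * (1 + C c * X) ^ (r - m) *
        (1 + C (x r + c) * X) = C ((rootPoly r x).coeff m) * X ^ m * (1 + C c * X) ^ (r + 1 - m) +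
          C (x r * (rootPoly r x).coeff m) * X ^ (m + 1) * (1 + C c * X) ^ (r - m) := fun m hm => by
      rw [show r + 1 - m = r - m + 1 from Nat.succ_sub (Nat.lt_succ_iff.1 (Finset.mem_range.1 hm)), pow_succ, pow_succ,
        map_add, map_mul]
      ring
    rw [Finset.sum_congr rfl e, Finset.sum_add_distrib]
    have e' : ∀ m ∈ Finset.range (r + 1), C ((rootPoly (r + 1) x).coeff (m + 1)) * X ^ (m + 1) *
        (1 + C c * X) ^ (r + 1 - (m + 1)) = C ((rootPoly r x).coeff (m + 1)) * X ^ (m + 1) * (1 + C c * X) ^ (r - m) +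
          C (x r * (rootPoly r x).coeff m) * X ^ (m + 1) * (1 + C c * X) ^ (r - m) := fun m _ => by
      rw [rootPoly_succ, coeff_mul_linear, map_add, Nat.add_sub_add_right, add_mul, add_mul]
    rw [Finset.sum_congr rfl e', Finset.sum_add_distrib, add_right_comm]
    congr 1
    rw [Finset.sum_range_succ' _ r, Finset.sum_range_succ (fun m => C ((rootPoly r x).coeff (m + 1)) * X ^ (m + 1) *
      (1 + C c * X) ^ (r - m)) r, coeff_rootPoly_eq_zero r x (r + 1) (Nat.lt_succ_self r), map_zero, zero_mul,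
      zero_mul, add_zero, coeff_zero_rootPoly, coeff_zero_rootPoly]
    simp only [Nat.add_sub_add_right]

/-- The symmetric functions of shifted roots. -/
theorem coeff_shift {r i : ℕ} (hi : i ≤ r) (x : ℕ → R) (c : R) : (rootPoly r fun l => x l + c).coeff i =
    ∑ j ∈ Finset.range (i + 1), ((r - i + j).choose j : R) * c ^ j * (rootPoly r x).coeff (i - j) := by
  rw [shift_poly, finsetSum_coeff]
  simp only [mul_assoc, coeff_C_mul, coeff_X_pow_mul', coeff_one_add]
  rw [← Finset.sum_range_reflect (fun j => ((r - i + j).choose j : R) * (c ^ j * (rootPoly r x).coeff (i - j))) (i + 1)]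
  rw [← Finset.sum_subset (s₁ := Finset.range (i + 1)) (Finset.range_mono (by omega)) fun m _ hm => by
    rw [Finset.mem_range] at hm
    rw [if_neg (by omega), mul_zero]]
  refine Finset.sum_congr rfl fun m hm => ?_
  rw [Finset.mem_range] at hm
  rw [if_pos (by omega), show i + 1 - 1 - m = i - m by omega, show r - i + (i - m) = r - m by omega,
    show i - (i - m) = m by omega]
  ring

theorem pair_inner (a : R) : ∀ (s : ℕ) (y : ℕ → R),
    (rootPoly s fun l => a + y l).coeff 1 = (rootPoly s y).coeff 1 + (s : R) * a ∧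
      (rootPoly s fun l => a + y l).coeff 2 =
        (rootPoly s y).coeff 2 + ((s : R) - 1) * a * (rootPoly s y).coeff 1 + (s.choose 2 : R) * a ^ 2
  | 0, y => by simp [rootPoly, coeff_one]
  | s + 1, y => by
    obtain ⟨h1, h2⟩ := pair_inner a s y
    refine ⟨?_, ?_⟩
    · rw [rootPoly_succ, rootPoly_succ, coeff_mul_linear, coeff_mul_linear, h1, coeff_zero_rootPoly, coeff_zero_rootPoly]
      push_cast
      ring
    · rw [rootPoly_succ, rootPoly_succ, coeff_mul_linear, coeff_mul_linear, coeff_mul_linear, h1, h2, coeff_zero_rootPoly,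
        show (s + 1).choose 2 = s + s.choose 2 by rw [Nat.choose_succ_succ' s 1, Nat.choose_one_right]]
      push_cast
      ring

theorem coeff_mul_one (p q : R[X]) : (p * q).coeff 1 = p.coeff 0 * q.coeff 1 + p.coeff 1 * q.coeff 0 := by
  rw [coeff_mul, show Finset.HasAntidiagonal.antidiagonal 1 = {(0, 1), (1, 0)} from rfl]
  simp

theorem coeff_mul_two (p q : R[X]) :
    (p * q).coeff 2 = p.coeff 0 * q.coeff 2 + p.coeff 1 * q.coeff 1 + p.coeff 2 * q.coeff 0 := by
  rw [coeff_mul, show Finset.HasAntidiagonal.antidiagonal 2 = {(0, 2), (1, 1), (2, 0)} from rfl]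
  simp [add_assoc]

theorem two_mul_choose_two : ∀ s : ℕ, 2 * (s.choose 2 : R) = (s : R) * s - s
  | 0 => by simp
  | s + 1 => by
    rw [show (s + 1).choose 2 = s + s.choose 2 by rw [Nat.choose_succ_succ' s 1, Nat.choose_one_right]]
    push_cast
    linear_combination two_mul_choose_two s

/-- The first two symmetric functions of pairwise sums of roots. -/
theorem pairs (s : ℕ) (y : ℕ → R) : ∀ (r : ℕ) (x : ℕ → R),
    (∏ i ∈ Finset.range r, rootPoly s fun l => x i + y l).coeff 0 = 1 ∧
    (∏ i ∈ Finset.range r, rootPoly s fun l => x i + y l).coeff 1 =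
      (r : R) * (rootPoly s y).coeff 1 + (s : R) * (rootPoly r x).coeff 1 ∧
    (∏ i ∈ Finset.range r, rootPoly s fun l => x i + y l).coeff 2 =
      (r : R) * (rootPoly s y).coeff 2 + (s : R) * (rootPoly r x).coeff 2 +
        (r.choose 2 : R) * (rootPoly s y).coeff 1 ^ 2 +
        ((r : R) * s - 1) * (rootPoly r x).coeff 1 * (rootPoly s y).coeff 1 +
        (s.choose 2 : R) * (rootPoly r x).coeff 1 ^ 2
  | 0, x => by simp [rootPoly, coeff_one]
  | r + 1, x => by
    obtain ⟨h0, h1, h2⟩ := pairs s y r x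
    obtain ⟨g1, g2⟩ := pair_inner (x r) s y
    rw [Finset.prod_range_succ, mul_coeff_zero, coeff_mul_one, coeff_mul_two, h0, h1, h2, g1, g2,
      coeff_zero_rootPoly, rootPoly_succ, coeff_mul_linear, coeff_mul_linear, coeff_zero_rootPoly,
      show (r + 1).choose 2 = r + r.choose 2 by rw [Nat.choose_succ_succ' r 1, Nat.choose_one_right]]
    refine ⟨one_mul _, ?_, ?_⟩
    · push_cast; ring
    · push_cast
      linear_combination (-(x r * (rootPoly r x).coeff 1)) * two_mul_choose_two (R := R) s

end Groth.Agent.CycLib.PolyId
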