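import Groth.Agent.CycLib.Chern.Ops
import Groth.Agent.CycLib.Chern.PolyId
import Groth.Agent.HomFibreLib.Cmp
import Groth.Agent.ModTensor.Basic

/-! # Formulas for Chern classes of duals and tensor products -/

set_option autoImplicit false
set_option backward.isDefEq.respectTransparency false
set_option linter.style.haveILetI false

universe u

open CategoryTheory CategoryTheory.Limits AlgebraicGeometry TopologicalSpace
open Groth.Agent.PullbackMod

noncomputable section

namespace Groth.Agent.CycLib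

variable {X : Scheme.{u}} {δ : X → ℤ}

theorem rootSym_eq [IsLocallyNoetherian X] (hX : Cyc.IsSetup X δ) (r : ℕ) (B : ℕ → SecLine X) (j : ℕ) :
    rootSym hX r B j = (PolyId.rootPoly r fun i => c1r hX (B i)).coeff j := rfl

local instance hasHF (M : X.Modules) : ModSite.HasSheafHom (O := X.sheaf) M :=
  ModTensor.hasSheafHom (O := X.sheaf) M

/-- The dual, as the value of the given internal hom. -/
theorem nonempty_sheafHom_dd (E : X.Modules) [DCoh.HasSheafHom E] :
    Nonempty ((DCoh.sheafHom E).obj (Coh.structureModule X) ≅ Dual.dd E) :=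
  ⟨(Adjunction.rightAdjointUniq (DCoh.sheafHomAdj E)
    ((ModSite.sheafHomAdj (O := X.sheaf) E).ofNatIsoLeft (ModTensor.tensorSymm X.sheaf E))).app _⟩

/-- Duals commute with inverse images. -/
theorem nonempty_pullback_dd {Y : Scheme.{u}} (g : Y ⟶ X) {E : X.Modules} (hE : FlatMod.IsFinLocFree E) :
    Nonempty ((Scheme.Modules.pullback g).obj (Dual.dd E) ≅
      @Dual.dd Y ((Scheme.Modules.pullback g).obj E)) := by
  haveI := HomFibreLib.isIso_cmpHom g E (Coh.structureModule X) hE
    (flf_of_inv (ParaFLib.isInvertible_structureModule (X := X)))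
  exact ⟨asIso (HomFibreLib.cmpHom g E (Coh.structureModule X)) ≪≫
    (StalkHomLib.hF ((Scheme.Modules.pullback g).obj E)).mapIso (AmpleLib.pullO g)⟩
where
  flf_of_inv {L : X.Modules} (h : PicF.IsInvertible L) : FlatMod.IsFinLocFree L :=
    Dual.flf_of_rank (GrassShLib.isInvertible_iff_rank_one.1 h)

namespace Splitting

variable (S : Splitting X δ) [IsLocallyNoetherian X]

/-- Iterated caps with a first Chern class. -/
theorem cls_c1Pow (hX : Cyc.IsSetup X δ) {L : X.Modules} (hL : PicF.IsInvertible L)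
    (t : ℕ → (ξ : X) → Cyc.secFibre L ξ) (ht : ∀ m ξ, t m ξ ≠ 0) {k : ℤ} {g : AlgebraicCycle X ℤ}
    (hg : g ∈ Cyc.Zk X δ k) : ∀ (j : ℕ) (z : AlgebraicCycle X ℤ), ⇑z = Cyc.c1PowFun δ L t j ⇑g →
      z ∈ Cyc.Zk X δ (k - j) ∧ cls S.setup (S.P z) =
        act S.setup (c1r S.setup (SecLine.pull S.π ⟨L, hL, t 0, ht 0⟩) ^ j) (cls S.setup (S.P g))
  | 0, z, hz => by
    obtain rfl : z = g := DFunLike.coe_injective hz
    rw [Nat.cast_zero, sub_zero, pow_zero, map_one]
    exact ⟨hg, rfl⟩
  | j + 1, z, hz => by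
    let z' := ((List.range j).foldl (fun a m => PB.c1Hom hX.2.2 hL (t m) a) g)
    have hz' : ∀ i, ⇑((List.range i).foldl (fun a m => PB.c1Hom hX.2.2 hL (t m) a) g) = Cyc.c1PowFun δ L t i ⇑g := by
      intro i
      induction i with
      | zero => rfl
      | succ i ih =>
        rw [List.range_succ, List.foldl_concat]
        show Cyc.c1CapFun δ L _ (t i) = Cyc.c1CapFun δ L (Cyc.c1PowFun δ L t i ⇑g) (t i)
        rw [ih]
    obtain ⟨hm, hc⟩ := cls_c1Pow hX hL t ht hg j z' (hz' j)
    obtain rfl : z = PB.c1Hom hX.2.2 hL (t j) z' := DFunLike.coe_injective (hz.trans (by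
      show Cyc.c1CapFun δ L (Cyc.c1PowFun δ L t j ⇑g) (t j) = Cyc.c1CapFun δ L ⇑z' (t j)
      rw [hz' j]))
    refine ⟨?_, ?_⟩
    · rw [Nat.cast_succ, ← sub_sub]
      exact PB.c1Cycle_mem_Zk hX.2.2 hL (t j) hm
    · rw [S.cls_c1 hX ⟨L, hL, t j, ht j⟩ hm, hc, pow_succ', map_mul]
      rw [c1r_congr S.setup (l := SecLine.pull S.π ⟨L, hL, t j, ht j⟩)
        (m := SecLine.pull S.π ⟨L, hL, t 0, ht 0⟩) (Iso.refl _)]
      rfl

end Splitting

end Groth.Agent.CycLib
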