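import Groth.Agent.CycLib.Chern.Basic
import Groth.Agent.ProjBundleLib.Quot

/-! # Base change of projective bundle settings -/

set_option autoImplicit false
set_option backward.isDefEq.respectTransparency false
set_option linter.style.haveILetI false

universe u

open CategoryTheory CategoryTheory.Limits AlgebraicGeometry TopologicalSpace

noncomputable section

namespace Groth.Agent.CycLib.PB

theorem setting_of_isPullback {X Y P P' : Scheme.{u}} {f : X ⟶ Y} {π : P ⟶ Y} {π' : P' ⟶ X} {f' : P' ⟶ P}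
    (hsq : IsPullback f' π' π f) {n : ℕ} {E : Y.Modules} (hE : FlatMod.IsFinLocFreeOfRank (n + 1) E) {O1 : P.Modules}
    {q : (Scheme.Modules.pullback π).obj E ⟶ O1} (hP : KRR.IsProjBundle π E O1 q) [IsProper π]
    {δX : X → ℤ} (hX : Cyc.IsSetup X δX) {δP' : P' → ℤ} (hP's : Cyc.IsSetup P' δP')
    (hπ' : Cyc.DeltaCompat π' δP' δX) : Setting π' ((Scheme.Modules.pullback f').obj O1) δP' δX n := by
  have hq : Coh.IsQCoh E := (GrassShLib.isCoh_of_rank hE).1
  have hE' : FlatMod.IsFinLocFreeOfRank (n + 1) ((Scheme.Modules.pullback f).obj E) := FlagLib.rank_pullback f E hE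
  have hq' : Coh.IsQCoh ((Scheme.Modules.pullback f).obj E) := (GrassShLib.isCoh_of_rank hE').1
  obtain ⟨P₀, p₀, O₀, φ₀, ⟨D⟩⟩ := ProjBundleLib.exists_bundle hq
  obtain ⟨P₁, p₁, O₁, φ₁, ⟨D'⟩⟩ := ProjBundleLib.exists_bundle hq'
  obtain ⟨v, hv, τ, hiso, -⟩ := exists_iso_of_isGrass (GrassShLib.isGrass_of_pdata D) (Grass.IsGrass.of_isProjBundle hP)
  haveI := hiso
  obtain ⟨k, hk, -⟩ := D.existsUnique_compat_of_gens D'.isInvertible_O1 (D'.gens.down f D.hE)
  have hkc : k ≫ p₀ = p₁ ≫ f := hk.1.trans (Category.id_comp _)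
  choose c hc huniq using fun s : PullbackCone p₀ f => ProjBundleLib.exists_lift f D' hk D s.fst s.snd s.condition
  have hsq₁ : IsPullback k p₁ p₀ f := IsPullback.of_isLimit' ⟨hkc⟩ (PullbackCone.IsLimit.mk hkc c
    (fun s => (hc s).1) (fun s => (hc s).2) fun s m h1 h2 => huniq s m ⟨h1, h2⟩)
  obtain ⟨hr, τ₁, -⟩ := D.exists_iso_of_compat
    (((Scheme.Modules.pullbackPushforwardAdjunction (p₁ ≫ f)).homEquiv E _).symm (ProjBundleLib.down f φ₁))
    (r := k) (by simpa only [ProjBundleLib.sigma, Equiv.apply_symm_apply] using hk)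
  have hsq₀ : IsPullback (f' ≫ v) π' p₀ f := by
    have h := hsq.paste_horiz (IsPullback.of_horiz_isIso (fst := v) (snd := π) (f := p₀) (g := 𝟙 Y) ⟨by rw [hv, Category.comp_id]⟩)
    rwa [Category.comp_id] at h
  let w := (hsq₀.isoIsPullback _ _ hsq₁).hom
  have hw1 : w ≫ k = f' ≫ v := hsq₀.isoIsPullback_hom_fst _ _ hsq₁
  have hw2 : w ≫ p₁ = π' := hsq₀.isoIsPullback_hom_snd _ _ hsq₁
  haveI : Flat p₁ := flat_of_pdata D' hE'
  haveI : IsProper π' := MorphismProperty.of_isPullback hsq inferInstance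
  refine ⟨hX, hP's, hπ', AmpleLib.isInvertible_pullback f' (GrassShLib.isInvertible_iff_rank_one.2 hP.invertible),
    ?_, inferInstance, fun x => ?_⟩
  · rw [← hw2]; infer_instance
  obtain ⟨U, hU, hxU, ⟨b⟩⟩ := exists_basis D' hE' x
  let e : (Scheme.Modules.pullback w).obj O₁ ≅ (Scheme.Modules.pullback f').obj O1 :=
    (Scheme.Modules.pullback w).mapIso τ₁.symm ≪≫ (Scheme.Modules.pullbackComp w k).app O₀ ≪≫
      (Scheme.Modules.pullbackCongr hw1).app O₀ ≪≫ ((Scheme.Modules.pullbackComp f' v).app O₀).symm ≪≫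
      (Scheme.Modules.pullback f').mapIso τ
  exact fib_of_iso w hw2 e D'.isInvertible_O1 x (pfib hU hxU D' b)

end Groth.Agent.CycLib.PB
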