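import Groth.Agent.CycLib.Chern.SubBundle
import Groth.Agent.CycLib.Chern.BaseChange
import Groth.Agent.CycLib.Proj
import Groth.Agent.GrassRepLib.MapEpi

/-! # Chern classes and sub line bundles -/

set_option autoImplicit false
set_option backward.isDefEq.respectTransparency false
set_option linter.style.haveILetI false

universe u

open CategoryTheory CategoryTheory.Limits AlgebraicGeometry TopologicalSpace
open Groth.Agent.PullbackMod

noncomputable section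

namespace Groth.Agent.CycLib

theorem deltaCompat_unique {X Y : Scheme.{u}} {f : X ⟶ Y} {δX δX' : X → ℤ} {δY : Y → ℤ}
    (h : Cyc.DeltaCompat f δX δY) (h' : Cyc.DeltaCompat f δX' δY) : δX = δX' := funext fun x => by
  obtain ⟨n, hn, e⟩ := h x
  obtain ⟨n', hn', e'⟩ := h' x
  have : n = n' := Nat.cast_injective (R := Cardinal) (hn.symm.trans hn')
  omega

theorem isZero_of_rank_zero {X : Scheme.{u}} {F : X.Modules} (h : FlatMod.IsFinLocFreeOfRank 0 F) : IsZero F := by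
  have hF : FlatMod.IsFinLocFree F := fun x => ⟨(h x).choose, 0, (h x).choose_spec⟩
  obtain ⟨hq, hfp⟩ := isQCoh_and_isFP_of_isFinLocFree F hF
  haveI := hq
  rw [IsZero.iff_id_eq_zero, eq_zero_iff_stalk]
  intro x
  obtain ⟨a⟩ := (isFinLocFreeOfRank_iff_freeAt F hfp 0).1 h x
  exact LinearMap.ext fun z => a.injective (Subsingleton.elim _ _)

/-- The trivial sections. -/
def oneSec (X : Scheme.{u}) (ξ : X) : Cyc.secFibre (Coh.structureModule X) ξ := mkF _ ξ (ParaFLib.oneG ξ)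

theorem oneSec_ne_zero {X : Scheme.{u}} (ξ : X) : oneSec X ξ ≠ 0 := fun e => by
  have := (smul_mkF_eq_zero_iff (ParaFLib.bijective_oneG ξ) 1).1 (by rw [one_smul]; exact e)
  rw [map_one] at this
  exact one_ne_zero this

theorem c1Cycle_one {X : Scheme.{u}} [IsLocallyNoetherian X] {δ : X → ℤ} (hδ : Cyc.IsDimFun X δ)
    (α : AlgebraicCycle X ℤ) : c1Cycle hδ ParaFLib.isInvertible_structureModule α (oneSec X) = 0 := by
  ext x
  refine finsum_eq_zero_of_forall_eq_zero fun ξ => ?_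
  rw [mul_eq_zero]
  right
  by_cases h : ξ ⤳ x ∧ δ x + 1 = δ ξ
  · rw [secDivFun_of h.1 h.2, ← one_smul (X.presheaf.stalk ξ) (oneSec X ξ),
      show oneSec X ξ = mkF _ ξ ((Coh.structureModule X).presheaf.stalkSpecializes h.1 (ParaFLib.oneG x)) by
        rw [stalkSpecializes_oneG]; rfl,
      secOrdAt_eq hδ h.1 h.2 (ParaFLib.bijective_oneG x) (by rw [stalkSpecializes_oneG]; exact ParaFLib.bijective_oneG ξ),
      map_one, ordAt_one hδ h.1 h.2]
  · rw [Cyc.secDivFun, dif_neg h]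

namespace PB

/-- Iterated caps commute with another first Chern class. -/
theorem capSeq_comm {Z : Scheme.{u}} [IsLocallyNoetherian Z] {δ : Z → ℤ} (hZ : Cyc.IsSetup Z δ) {L N : Z.Modules}
    (hL : PicF.IsInvertible L) (hN : PicF.IsInvertible N) (t : ℕ → (ξ : Z) → Cyc.secFibre L ξ)
    (ht : ∀ i ξ, t i ξ ≠ 0) {v : (ξ : Z) → Cyc.secFibre N ξ} (hv : ∀ ξ, v ξ ≠ 0) {j : ℤ} {c : AlgebraicCycle Z ℤ}
    (hc : c ∈ Cyc.Zk Z δ j) :
    ∀ m : ℕ, Cyc.RatEquiv δ (j - m - 1) (c1Cycle hZ.2.2 hN (capSeq hZ.2.2 hL t c m) v)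
      (capSeq hZ.2.2 hL t (c1Cycle hZ.2.2 hN c v) m)
  | 0 => by
    show Cyc.RatEquivZero δ _ (c1Cycle hZ.2.2 hN c v - c1Cycle hZ.2.2 hN c v)
    rw [sub_self]
    exact ratEquivZero_zero
  | m + 1 => by
    have hk : ∀ l : ℕ, capSeq hZ.2.2 hL t c l ∈ Cyc.Zk Z δ (j - l) := fun l => by
      induction l with
      | zero => simpa [capSeq] using hc
      | succ l ih =>
        have := c1Cycle_mem_Zk hZ.2.2 hL (t l) ih
        rwa [show j - (l : ℤ) - 1 = j - ((l + 1 : ℕ) : ℤ) by push_cast; ring] at this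
    have h1 := c1Cap_comm hZ hN hL (capSeq hZ.2.2 hL t c m) (k := j - (m + 1 : ℕ) - 1)
      (by rw [show j - ((m + 1 : ℕ) : ℤ) - 1 + 2 = j - m by push_cast; ring]; exact hk m)
      v v (t m) (t m) hv hv (ht m) (ht m) (c1Cycle hZ.2.2 hN (capSeq hZ.2.2 hL t c (m + 1)) v)
      (c1Cycle hZ.2.2 hL (c1Cycle hZ.2.2 hN (capSeq hZ.2.2 hL t c m) v) (t m)) rfl rfl
    have h2 := ratEquiv_c1Cycle hZ.2.2 hL hZ (t m) (ht m) (capSeq_comm hZ hL hN t ht hv hc m)
    rw [show j - (m : ℤ) - 1 - 1 = j - ((m + 1 : ℕ) : ℤ) - 1 by push_cast; ring] at h2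
    have h3 := ratEquivZero_add h1 h2
    rwa [sub_add_sub_cancel] at h3

theorem capSeq_iso {Z : Scheme.{u}} [IsLocallyNoetherian Z] {δ : Z → ℤ} (hδ : Cyc.IsDimFun Z δ) {L L' : Z.Modules}
    (hL : PicF.IsInvertible L) (hL' : PicF.IsInvertible L') (e : L ≅ L') (t : ℕ → (ξ : Z) → Cyc.secFibre L ξ)
    (c : AlgebraicCycle Z ℤ) :
    ∀ m, capSeq hδ hL' (fun i ξ => fibMap e.hom ξ (t i ξ)) c m = capSeq hδ hL t c m
  | 0 => rfl
  | m + 1 => by
    ext x
    show Cyc.c1CapFun δ L' _ (fun ξ => fibMap e.hom ξ (t m ξ)) x = Cyc.c1CapFun δ L _ (t m) x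
    rw [capSeq_iso hδ hL hL' e t c m, c1CapFun_iso hδ hL e]

namespace Setting

variable {X P : Scheme.{u}} {p : P ⟶ X} {O1 : P.Modules} {δP : P → ℤ} {δ : X → ℤ} {n : ℕ} (S : Setting p O1 δP δ n)

include S in
theorem ofModIso {O1' : P.Modules} (e : O1 ≅ O1') : Setting p O1' δP δ n :=
  ⟨S.hX, S.hP, S.hδ, GrassShLib.isInvertible_iff_rank_one.2 (fun x => by
      obtain ⟨U, hx, ⟨i⟩⟩ := GrassShLib.isInvertible_iff_rank_one.1 S.inv x
      exact ⟨U, hx, ⟨(Scheme.Modules.restrictFunctor U.ι).mapIso e.symm ≪≫ i⟩⟩),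
    S.flat, S.proper, fun x => ⟨(S.fib x).some.ofModIso ((Scheme.Modules.pullback (p.fiberι x)).mapIso e)⟩⟩

include S in
theorem chern_ofModIso [IsLocallyNoetherian P] [IsLocallyNoetherian X] {O1' : P.Modules} (e : O1 ≅ O1') {k : ℤ}
    {α : AlgebraicCycle X ℤ} {γ : Fin (n + 1 + 1) → AlgebraicCycle X ℤ}
    (h : Cyc.IsChernCap p δ δP O1 (n + 1) k α γ) : Cyc.IsChernCap p δ δP O1' (n + 1) k α γ := by
  have S' := S.ofModIso e
  obtain ⟨t₀, ht₀⟩ := exists_secs S.inv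
  obtain ⟨h0, hd, hrel⟩ := (S.isChernCap_iff (fun _ => t₀) fun _ => ht₀).1 h
  refine (S'.isChernCap_iff (fun _ ξ => fibMap e.hom ξ (t₀ ξ)) fun _ ξ => fibMap_ne_zero S.inv e (ht₀ ξ)).2
    ⟨h0, hd, ?_⟩
  have e' : S'.relSum (fun _ ξ => fibMap e.hom ξ (t₀ ξ)) γ = S.relSum (fun _ => t₀) γ :=
    Finset.sum_congr rfl fun i _ => congrArg _
      (capSeq_iso S.hP.2.2 S.inv S'.inv e (fun _ => t₀) (S.pullC (γ (Fin.rev i))) i)
  rwa [e']

end Setting

namespace Setting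

variable {X P Q : Scheme.{u}} {p : P ⟶ X} {O1 : P.Modules} {δP : P → ℤ} {δ : X → ℤ} {n : ℕ}
  (S : Setting p O1 δP δ (n + 1)) {ι : Q ⟶ P} [IsClosedImmersion ι]
  (T : Setting (ι ≫ p) ((Scheme.Modules.pullback ι).obj O1) (fun y => δP (ι y)) δ n)
  [IsLocallyNoetherian P] [IsLocallyNoetherian Q] [IsLocallyNoetherian X]
  {L : X.Modules} (hL : PicF.IsInvertible L) (φ : (Scheme.Modules.pullback p).obj L ⟶ O1)
  (hι : ∀ (Z : Scheme.{u}) (g : Z ⟶ P), (∃ k, k ≫ ι = g) ↔ (Scheme.Modules.pullback g).map φ = 0)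

omit [IsLocallyNoetherian Q] in
include S in
theorem map_capSeq (u : (ξ : P) → Cyc.secFibre O1 ξ) (hu : ∀ ξ, u ξ ≠ 0) (hQ : Cyc.IsSetup Q fun y => δP (ι y))
    (c : AlgebraicCycle Q ℤ) :
    haveI := hQ.1
    ∀ m, AlgebraicCycle.map ι (fun y => δP (ι y)) δP
      (capSeq hQ.2.2 (AmpleLib.isInvertible_pullback ι S.inv) (fun _ η => pullFib ι O1 η (u (ι η))) c m) =
      capSeq S.hP.2.2 S.inv (fun _ => u) (AlgebraicCycle.map ι (fun y => δP (ι y)) δP c) m
  | 0 => rfl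
  | m + 1 => by
    haveI := hQ.1
    ext x
    rw [map_c1Cap_pullFib ι hQ S.hP (deltaCompat_preimmersion' ι δP) S.inv _ u hu _ (fun _ => rfl) x,
      map_capSeq u hu hQ c m]
    rfl
where
  deltaCompat_preimmersion' (i : Q ⟶ P) [IsPreimmersion i] (δ : P → ℤ) :
      Cyc.DeltaCompat i (fun d => δ (i d)) δ := fun d =>
    ⟨0, (FlatDim.resTrdegAt_preimmersion i d).trans Nat.cast_zero.symm, by simp⟩

/-- The candidate for the Chern classes of an extension by a line bundle. -/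
def subTuple {m : ℕ} (α : AlgebraicCycle X ℤ) (c : Fin (m + 1) → AlgebraicCycle X ℤ)
    (d : Fin (m + 1) → AlgebraicCycle X ℤ) : Fin (m + 1 + 1) → AlgebraicCycle X ℤ :=
  Fin.cons α fun j => (if h : (j : ℕ) + 1 ≤ m then c ⟨(j : ℕ) + 1, Nat.lt_succ_of_le h⟩ else 0) + d j

include S T hι in
/-- Chern classes of an extension by a line bundle. -/
theorem chern_sub {k : ℤ} {α : AlgebraicCycle X ℤ} {γ' : Fin (n + 1 + 1) → AlgebraicCycle X ℤ}
    (hγ' : Cyc.IsChernCap (ι ≫ p) δ (fun y => δP (ι y)) ((Scheme.Modules.pullback ι).obj O1) (n + 1) k α γ')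
    {t : (ξ : X) → Cyc.secFibre L ξ} (ht : ∀ ξ, t ξ ≠ 0) :
    Cyc.IsChernCap p δ δP O1 (n + 1 + 1) k α (subTuple α γ' fun j => c1Cycle S.hX.2.2 hL (γ' j) t) := by
  classical
  haveI := S.lft
  obtain ⟨u, hu⟩ := exists_secs S.inv
  let tP : ℕ → (ξ : P) → Cyc.secFibre O1 ξ := fun _ => u
  have htP : ∀ i ξ, tP i ξ ≠ 0 := fun _ => hu
  let tQ : ℕ → (η : Q) → Cyc.secFibre ((Scheme.Modules.pullback ι).obj O1) η := fun _ η => pullFib ι O1 η (u (ι η))
  have htQ : ∀ i η, tQ i η ≠ 0 := fun _ η => pullFib_ne_zero _ _ S.inv (hu _)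
  obtain ⟨h0, hd, hrel⟩ := (T.isChernCap_iff tQ htQ).1 hγ'
  have hMi : PicF.IsInvertible ((Scheme.Modules.pullback p).obj L) := AmpleLib.isInvertible_pullback p hL
  have hv : ∀ η, pullFib p L η (t (p η)) ≠ 0 := fun η => pullFib_ne_zero p L hL (ht _)
  refine (S.isChernCap_iff tP htP).2 ⟨Fin.cons_zero _ _, ?_, ?_⟩
  · refine Fin.cases ?_ fun j => ?_
    · intro x hx
      show α x = 0
      rw [← h0]
      exact hd 0 x (by simpa using hx)
    · intro x hx
      rw [Fin.val_succ] at hx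
      show ((if h : (j : ℕ) + 1 ≤ n + 1 then γ' ⟨(j : ℕ) + 1, Nat.lt_succ_of_le h⟩ else 0) +
        c1Cycle S.hX.2.2 hL (γ' j) t) x = 0
      split_ifs with h
      · rw [Function.locallyFinsuppWithin.coe_add, Pi.add_apply, c1Cycle_mem_Zk S.hX.2.2 hL t (hd j) x (by omega), add_zero]
        exact hd _ x hx
      · rw [Function.locallyFinsuppWithin.coe_add, Pi.add_apply, c1Cycle_mem_Zk S.hX.2.2 hL t (hd j) x (by omega), add_zero]
        rfl
  let CO := c1Hom S.hP.2.2 S.inv u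
  let CM := c1Hom S.hP.2.2 hMi fun η => pullFib p L η (t (p η))
  let a : Fin (n + 1 + 1) → AlgebraicCycle X ℤ := fun l => γ' (Fin.rev l)
  have ha : ∀ l : Fin (n + 1 + 1), a l ∈ Cyc.Zk X δ (k - (n + 1) + ((l : ℕ) : ℤ)) := fun l x hx =>
    hd (Fin.rev l) x (fun e => hx (by rw [e, Fin.val_rev]; omega))
  have e1 : S.relSum tP (subTuple α γ' fun j => c1Cycle S.hX.2.2 hL (γ' j) t) =
      ∑ l : Fin (n + 1 + 1), (-1 : ℤ) ^ (l : ℕ) •
        (S.seq tP (c1Cycle S.hX.2.2 hL (a l) t) l - CO (S.seq tP (a l) l)) := by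
    have hsplit : ∀ i : Fin (n + 1 + 1 + 1), subTuple α γ' (fun j => c1Cycle S.hX.2.2 hL (γ' j) t) (Fin.rev i) =
        (if h : 1 ≤ (i : ℕ) then a ⟨(i : ℕ) - 1, by omega⟩ else 0) +
        (if h : (i : ℕ) ≤ n + 1 then c1Cycle S.hX.2.2 hL (a ⟨i, Nat.lt_succ_of_le h⟩) t else 0) := by
      intro i
      refine Fin.lastCases ?_ (fun i => ?_) i
      · rw [Fin.rev_last, subTuple, Fin.cons_zero, dif_pos (by simp), dif_neg (by simp), add_zero, ← h0]
        exact congrArg γ' (Fin.ext (by simp [Fin.val_rev]))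
      · rw [Fin.rev_castSucc, subTuple, Fin.cons_succ, dif_pos (show ((Fin.castSucc i : Fin _) : ℕ) ≤ n + 1 from Nat.le_of_lt_succ i.2)]
        congr 1
        have hi := i.2
        by_cases h : 1 ≤ (i : ℕ)
        · rw [dif_pos (by rw [Fin.val_rev]; omega), dif_pos (show 1 ≤ ((Fin.castSucc i : Fin _) : ℕ) from h)]
          exact congrArg γ' (Fin.ext (by simp [Fin.val_rev]; omega))
        · rw [dif_neg (by rw [Fin.val_rev]; omega), dif_neg (show ¬1 ≤ ((Fin.castSucc i : Fin _) : ℕ) from h)]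
    rw [relSum]
    simp only [hsplit]
    rw [show (∑ i : Fin (n + 1 + 1 + 1), (-1 : ℤ) ^ (i : ℕ) • S.seq tP
        ((if h : 1 ≤ (i : ℕ) then a ⟨(i : ℕ) - 1, by omega⟩ else 0) +
          (if h : (i : ℕ) ≤ n + 1 then c1Cycle S.hX.2.2 hL (a ⟨i, Nat.lt_succ_of_le h⟩) t else 0)) i) =
        (∑ i : Fin (n + 1 + 1 + 1), (-1 : ℤ) ^ (i : ℕ) • S.seqHom tP i (if h : 1 ≤ (i : ℕ) then a ⟨(i : ℕ) - 1, by omega⟩ else 0)) +
        (∑ i : Fin (n + 1 + 1 + 1), (-1 : ℤ) ^ (i : ℕ) • S.seqHom tP i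
          (if h : (i : ℕ) ≤ n + 1 then c1Cycle S.hX.2.2 hL (a ⟨i, Nat.lt_succ_of_le h⟩) t else 0)) from by
      rw [← Finset.sum_add_distrib]
      exact Finset.sum_congr rfl fun i _ => by rw [← smul_add, ← map_add]; rfl,
      Fin.sum_univ_succ (n := n + 1 + 1), Fin.sum_univ_castSucc (n := n + 1 + 1)]
    rw [dif_neg (by simp), map_zero, smul_zero, zero_add, dif_neg (by simp), map_zero, smul_zero, add_zero,
      ← Finset.sum_add_distrib]
    refine Finset.sum_congr rfl fun l _ => ?_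
    rw [dif_pos (by simp), dif_pos (show ((Fin.castSucc l : Fin _) : ℕ) ≤ n + 1 from Nat.le_of_lt_succ l.2)]
    simp only [Fin.val_succ, Fin.val_castSucc, Nat.add_sub_cancel, pow_succ, mul_neg, mul_one, neg_smul, smul_sub]
    rw [neg_add_eq_sub]
    rfl
  rw [e1]
  have hrelQ : Cyc.RatEquivZero δP (k - 1) (AlgebraicCycle.map ι (fun y => δP (ι y)) δP (T.relSum tQ γ')) :=
    ratEquivZero_map ι T.hP S.hP (map_capSeq.deltaCompat_preimmersion' ι δP) hrel
  let J : AlgebraicCycle Q ℤ →+ AlgebraicCycle P ℤ :=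
    AddMonoidHom.ofMapSub (fun c => AlgebraicCycle.map ι (fun y => δP (ι y)) δP c) fun a b => by
      ext y
      exact map_sub_apply ι a b y
  have hterm : ∀ l : Fin (n + 1 + 1), Cyc.RatEquiv δP (k - 1)
      (S.seq tP (c1Cycle S.hX.2.2 hL (a l) t) l - CO (S.seq tP (a l) l)) (-(J (T.seq tQ (a l) l))) := fun l => by
    have hj : k - (n + 1) + ((l : ℕ) : ℤ) + (n + 1 : ℕ) - (l : ℕ) - 1 = k - 1 := by push_cast; ring
    have h1 := S.seq_c1 hL ht tP htP (ha l) (l : ℕ)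
    rw [hj] at h1
    have hc : S.pullC (a l) ∈ Cyc.Zk P δP (k - (n + 1) + ((l : ℕ) : ℤ) + (n + 1 : ℕ)) := by
      simpa [seq, capSeq] using S.seq_mem_Zk tP (ha l) 0
    have h2 := capSeq_comm S.hP S.inv S.inv tP htP hu hc (l : ℕ)
    have h3 := capSeq_comm S.hP S.inv hMi tP htP hv hc (l : ℕ)
    rw [hj] at h2 h3
    have h4 := S.ratEquiv_sub_identity T hMi φ hι (ha l) hu hv
    have h5 := capSeq_ratEquivZero S.hP.2.2 S.inv S.hP tP htP h4 (l : ℕ)
    rw [show k - ((n : ℤ) + 1) + ((l : ℕ) : ℤ) + n - ((l : ℕ) : ℤ) = k - 1 by ring,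
      show capSeq S.hP.2.2 S.inv tP (c1Cycle S.hP.2.2 S.inv (S.pullC (a l)) u -
          c1Cycle S.hP.2.2 hMi (S.pullC (a l)) (fun η => pullFib p L η (t (p η))) -
          AlgebraicCycle.map ι (fun y => δP (ι y)) δP (T.pullC (a l))) (l : ℕ) =
        capHom S.hP.2.2 S.inv tP l (c1Cycle S.hP.2.2 S.inv (S.pullC (a l)) u -
          c1Cycle S.hP.2.2 hMi (S.pullC (a l)) (fun η => pullFib p L η (t (p η))) -
          AlgebraicCycle.map ι (fun y => δP (ι y)) δP (T.pullC (a l))) from rfl,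
      map_sub, map_sub] at h5
    have h6 : J (T.seq tQ (a l) l) = capHom S.hP.2.2 S.inv tP l (AlgebraicCycle.map ι (fun y => δP (ι y)) δP (T.pullC (a l))) :=
      S.map_capSeq u hu T.hP (T.pullC (a l)) l
    show Cyc.RatEquivZero δP _ (_ - _)
    have h7 := ratEquivZero_add (ratEquivZero_sub S.hP.2.2 (ratEquivZero_sub S.hP.2.2 h3 h1) h2)
      (ratEquivZero_neg S.hP.2.2 h5)
    convert h7 using 1
    rw [h6]
    show _ - CO (capSeq S.hP.2.2 S.inv tP (S.pullC (a l)) l) - -_ =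
      (CM (capSeq S.hP.2.2 S.inv tP (S.pullC (a l)) l) - capHom S.hP.2.2 S.inv tP l (CM (S.pullC (a l))) -
        (CM (capSeq S.hP.2.2 S.inv tP (S.pullC (a l)) l) - S.seq tP (c1Cycle S.hX.2.2 hL (a l) t) l) -
        (CO (capSeq S.hP.2.2 S.inv tP (S.pullC (a l)) l) - capHom S.hP.2.2 S.inv tP l (CO (S.pullC (a l))))) +
      -(capHom S.hP.2.2 S.inv tP l (CO (S.pullC (a l))) - capHom S.hP.2.2 S.inv tP l (CM (S.pullC (a l))) - _)
    abel
  have h8 : Cyc.RatEquivZero δP (k - 1)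
      (∑ l : Fin (n + 1 + 1), (-1 : ℤ) ^ (l : ℕ) • (S.seq tP (c1Cycle S.hX.2.2 hL (a l) t) l - CO (S.seq tP (a l) l)) +
        J (T.relSum tQ γ')) := by
    rw [relSum, map_sum, ← Finset.sum_add_distrib]
    refine (ratZero S.hP.2.2 _).sum_mem fun l _ => ?_
    rw [map_zsmul, ← smul_add]
    refine ratEquivZero_zsmul S.hP.2.2 ?_ _
    have := hterm l
    rw [Cyc.RatEquiv, sub_neg_eq_add] at this
    exact this
  have h9 := ratEquivZero_sub S.hP.2.2 h8 hrelQ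
  rw [show AlgebraicCycle.map ι (fun y => δP (ι y)) δP (T.relSum tQ γ') = J (T.relSum tQ γ') from rfl,
    add_sub_cancel_right] at h9
  exact h9

end Setting

end PB

/-- The closed immersion of the bundle of a quotient. -/
theorem exists_subBundle {X P Q : Scheme.{u}} {L E F : X.Modules} {p : P ⟶ X} {O1 : P.Modules}
    {q : (Scheme.Modules.pullback p).obj E ⟶ O1} (hP : KRR.IsProjBundle p E O1 q) {p' : Q ⟶ X} {O1' : Q.Modules}
    {q' : (Scheme.Modules.pullback p').obj F ⟶ O1'} (hQ : KRR.IsProjBundle p' F O1' q') (hE : Coh.IsQCoh E)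
    (hF : Coh.IsQCoh F) {a : L ⟶ E} {b : E ⟶ F} (hab : a ≫ b = 0) (hex : (ShortComplex.mk a b hab).ShortExact) :
    ∃ ι : Q ⟶ P, IsClosedImmersion ι ∧ ι ≫ p = p' ∧ Nonempty ((Scheme.Modules.pullback ι).obj O1 ≅ O1') ∧
      ∀ (Z : Scheme.{u}) (g : Z ⟶ P), (∃ k, k ≫ ι = g) ↔
        (Scheme.Modules.pullback g).map ((Scheme.Modules.pullback p).map a ≫ q) = 0 := by
  have hG := Grass.IsGrass.of_isProjBundle hP
  have hG' := Grass.IsGrass.of_isProjBundle hQ
  haveI : Epi b := hex.epi_g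
  let e : L ≅ kernel b := IsLimit.conePointUniqueUpToIso hex.fIsKernel (limit.isLimit _)
  have he : e.hom ≫ kernel.ι b = a :=
    IsLimit.conePointUniqueUpToIso_hom_comp hex.fIsKernel (limit.isLimit _) WalkingParallelPair.zero
  refine ⟨hG.mapOfEpi hG' b, GrassRepLib.isClosedImmersion_mapOfEpi hG hG' b hE hF, hG.mapOfEpi_comp hG' b,
    ⟨hG.liftIso _ _ hG'.rank _ _⟩, fun Z g => ?_⟩
  rw [GrassRepLib.factors_iff hG hG' b g, ← he, Functor.map_comp (Scheme.Modules.pullback p) e.hom (kernel.ι b),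
    Category.assoc, Functor.map_comp (Scheme.Modules.pullback g) ((Scheme.Modules.pullback p).map e.hom)
      ((Scheme.Modules.pullback p).map (kernel.ι b) ≫ q)]
  exact ⟨fun h => by rw [h, comp_zero], fun h => by rwa [← cancel_epi ((Scheme.Modules.pullback g).map
    ((Scheme.Modules.pullback p).map e.hom)), comp_zero]⟩

/-- Chern classes of an extension by a line bundle, from bundle data. -/
theorem chern_of_sub_line {X : Scheme.{u}} [IsLocallyNoetherian X] {δ : X → ℤ} (hX : Cyc.IsSetup X δ) {m : ℕ}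
    {E : X.Modules} (hPE : FlatMod.IsFinLocFreeOfRank (m + 1) E) {P : Scheme.{u}} [IsLocallyNoetherian P] {p : P ⟶ X}
    {O1 : P.Modules} {q : (Scheme.Modules.pullback p).obj E ⟶ O1} (hP : KRR.IsProjBundle p E O1 q) [IsProper p]
    {δP : P → ℤ} (hPs : Cyc.IsSetup P δP) (hδ : Cyc.DeltaCompat p δP δ) {F : X.Modules}
    (hQE : FlatMod.IsFinLocFreeOfRank m F) {Q : Scheme.{u}} {p' : Q ⟶ X} {O1' : Q.Modules}
    {q' : (Scheme.Modules.pullback p').obj F ⟶ O1'} (hQ : KRR.IsProjBundle p' F O1' q') [IsProper p'] {δQ : Q → ℤ}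
    (hQs : Cyc.IsSetup Q δQ) (hδ' : Cyc.DeltaCompat p' δQ δ) {L : X.Modules} (hL : PicF.IsInvertible L) {a : L ⟶ E}
    {b : E ⟶ F} (hab : a ≫ b = 0) (hex : (ShortComplex.mk a b hab).ShortExact) {k : ℤ} {α : AlgebraicCycle X ℤ}
    (hα : α ∈ Cyc.Zk X δ k) {γ' : Fin (m + 1) → AlgebraicCycle X ℤ}
    (hγ' : Cyc.IsChernCap p' δ δQ O1' m k α γ') {t : (ξ : X) → Cyc.secFibre L ξ} (ht : ∀ ξ, t ξ ≠ 0) :
    Cyc.IsChernCap p δ δP O1 (m + 1) k α (PB.Setting.subTuple α γ' fun j => c1Cycle hX.2.2 hL (γ' j) t) := by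
  cases m with
  | zero =>
    have S := PB.setting_of_isProjBundle (n := 0) hPE hP hX hPs hδ
    haveI := S.flat
    haveI := S.lft
    haveI := (Grass.IsGrass.of_isProjBundle hP).epi
    haveI : Mono a := hex.mono_f
    have hF0 : IsZero F := isZero_of_rank_zero hQE
    haveI : Epi a := by
      refine ⟨fun {W} g h e => ?_⟩
      obtain ⟨r, hr⟩ : ∃ r, r ≫ a = 𝟙 E :=
        ⟨_, hex.fIsKernel.fac (KernelFork.ofι (𝟙 E) (hF0.eq_of_tgt _ _)) WalkingParallelPair.zero⟩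
      rw [← Category.id_comp g, ← Category.id_comp h, ← hr, Category.assoc, Category.assoc, e]
    haveI : IsIso a := isIso_of_mono_of_epi a
    haveI : IsIso q := GrassRepLib.isIso_of_epi_rank q (FlagLib.rank_pullback p E hPE) (Grass.IsGrass.of_isProjBundle hP).rank
    let e : (Scheme.Modules.pullback p).obj L ≅ O1 := asIso ((Scheme.Modules.pullback p).map a ≫ q)
    have hL' := AmpleLib.isInvertible_pullback p hL
    let u : ℕ → (ξ : P) → Cyc.secFibre O1 ξ := fun _ ξ => fibMap e.hom ξ (pullFib p L ξ (t (p ξ)))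
    have hu : ∀ i ξ, u i ξ ≠ 0 := fun _ ξ => fibMap_ne_zero hL' e (pullFib_ne_zero p L hL (ht _))
    have h0 : γ' 0 = α := hγ'.1
    have hγ1 : ∀ j : Fin 1, PB.Setting.subTuple α γ' (fun j => c1Cycle hX.2.2 hL (γ' j) t) j.succ =
        c1Cycle hX.2.2 hL α t := fun j => by
      obtain rfl : j = 0 := Fin.ext (by omega)
      rw [PB.Setting.subTuple, Fin.cons_succ, dif_neg (by simp), zero_add, h0]
    refine (S.isChernCap_iff u hu).2 ⟨Fin.cons_zero _ _, ?_, ?_⟩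
    · refine Fin.cases ?_ fun j => ?_
      · simpa [PB.Setting.subTuple] using hα
      · obtain rfl : j = 0 := Fin.ext (by omega)
        rw [hγ1]
        simpa using PB.c1Cycle_mem_Zk hX.2.2 hL t hα
    · have e1 : S.relSum u (PB.Setting.subTuple α γ' fun j => c1Cycle hX.2.2 hL (γ' j) t) =
          S.pullC (c1Cycle hX.2.2 hL α t) - S.seq u α 1 := by
        rw [PB.Setting.relSum, Fin.sum_univ_two, show Fin.rev (0 : Fin (0 + 1 + 1)) = (0 : Fin 1).succ from rfl,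
          show Fin.rev (1 : Fin (0 + 1 + 1)) = 0 from rfl, hγ1,
          show PB.Setting.subTuple α γ' (fun j => c1Cycle hX.2.2 hL (γ' j) t) 0 = α from Fin.cons_zero _ _]
        simp only [Fin.val_zero, Fin.val_one, pow_zero, pow_one, one_smul, neg_one_smul, ← sub_eq_add_neg]
        rfl
      have e2 : S.seq u α 1 = S.pullC (c1Cycle hX.2.2 hL α t) := by
        ext x
        exact (congrFun (c1CapFun_iso hPs.2.2 hL' e ⇑(S.pullC α) fun ξ => pullFib p L ξ (t (p ξ))) x).trans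
          (congrFun (pullFun_c1Cap S.isShift hPs.2.2 hX.2.2 hL t ht α) x).symm
      rw [e1, e2, sub_self]
      exact ratEquivZero_zero
  | succ n =>
    obtain ⟨ι, hci, hp, ⟨eO⟩, hι⟩ := exists_subBundle hP hQ (GrassShLib.isCoh_of_rank hPE).1
      (GrassShLib.isCoh_of_rank hQE).1 hab hex
    haveI := hci
    subst hp
    haveI := hQs.1
    obtain rfl : δQ = fun y => δP (ι y) := deltaCompat_unique hδ' fun y => by
      obtain ⟨d, hd, e⟩ := hδ (ι y)
      refine ⟨d, ?_, ?_⟩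
      · show DimFormulaLib.resTrdegAt (ι ≫ p) y = _
        rw [FlatDim.resTrdegAt_comp, FlatDim.resTrdegAt_preimmersion ι, add_zero]
        exact hd
      · rw [Scheme.Hom.comp_apply]
        exact e
    have S := PB.setting_of_isProjBundle (n := n + 1) hPE hP hX hPs hδ
    have T₀ := PB.setting_of_isProjBundle (n := n) hQE hQ hX hQs hδ'
    exact S.chern_sub (T₀.ofModIso eO.symm) hL ((Scheme.Modules.pullback p).map a ≫ q) hι
      (T₀.chern_ofModIso eO.symm hγ') ht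

end Groth.Agent.CycLib
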