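import Groth.Agent.CycLib.Chern.BaseChange
import Groth.Agent.CycLib.PushPull
import Groth.Agent.LocDimBC.Comp

/-! # Chern class caps and flat pullback -/

set_option autoImplicit false
set_option backward.isDefEq.respectTransparency false
set_option linter.style.haveILetI false

universe u

open CategoryTheory CategoryTheory.Limits AlgebraicGeometry TopologicalSpace

noncomputable section

namespace Groth.Agent.CycLib

variable {X Y P P' : Scheme.{u}} {f : X ⟶ Y} {π : P ⟶ Y} {π' : P' ⟶ X} {f' : P' ⟶ P}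
  {δX : X → ℤ} {δY : Y → ℤ} {δP : P → ℤ} {δP' : P' → ℤ}

/-- The dimension functions along the top of a cartesian square. -/
theorem deltaCompat_top (w : f' ≫ π = π' ≫ f) (hf : Cyc.DeltaCompat f δX δY) (hπ : Cyc.DeltaCompat π δP δY)
    (hπ' : Cyc.DeltaCompat π' δP' δX) : Cyc.DeltaCompat f' δP' δP := by
  intro x'
  obtain ⟨n', hn', e1⟩ := hπ' x'
  obtain ⟨m, hm, e2⟩ := hf (π' x')
  obtain ⟨n, hn, e3⟩ := hπ (f' x')
  have h1 : DimFormulaLib.resTrdegAt (π' ≫ f) x' = ((m + n' : ℕ) : Cardinal) := by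
    rw [FlatDim.resTrdegAt_comp, show DimFormulaLib.resTrdegAt f (π' x') = m from hm,
      show DimFormulaLib.resTrdegAt π' x' = n' from hn', Nat.cast_add]
  rw [← FlatDim.resTrdegAt_congr w, FlatDim.resTrdegAt_comp,
    show DimFormulaLib.resTrdegAt π (f' x') = n from hn] at h1
  have hlt : DimFormulaLib.resTrdegAt f' x' < Cardinal.aleph0 :=
    lt_of_le_of_lt (le_add_left le_rfl) (h1 ▸ Cardinal.natCast_lt_aleph0)
  obtain ⟨q, hq⟩ := Cardinal.lt_aleph0.1 hlt
  refine ⟨q, hq, ?_⟩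
  rw [hq] at h1
  have h2 : n + q = m + n' := by exact_mod_cast h1
  have hsq : π (f' x') = f (π' x') := by rw [← Scheme.Hom.comp_apply, w, Scheme.Hom.comp_apply]
  rw [hsq] at e3
  omega

/-- Base change keeps the shift of dimension functions. -/
theorem isShift_square (hsq : IsPullback f' π' π f) [Flat f] [LocallyOfFiniteType f] (hX : Cyc.IsSetup X δX)
    (hY : Cyc.IsSetup Y δY) (hP : Cyc.IsSetup P δP) (hP' : Cyc.IsSetup P' δP') (c : ℕ) (hc : Cyc.HasRelDim f c)
    (hf : Cyc.DeltaCompat f δX δY) (hπ : Cyc.DeltaCompat π δP δY) (hπ' : Cyc.DeltaCompat π' δP' δX) :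
    IsShift f' δP' δP c := by
  haveI : Flat f' := MorphismProperty.of_isPullback hsq.flip inferInstance
  haveI : LocallyOfFiniteType f' := MorphismProperty.of_isPullback hsq.flip inferInstance
  have hrel : Cyc.HasRelDim f' c := fun x => by
    haveI : LocallyOfFiniteType (Y := Spec (CommRingCat.of (Y.residueField (π x)))) (f.fiberToSpecResidueField (π x)) :=
      MorphismProperty.pullback_snd (P := @LocallyOfFiniteType) _ _ inferInstance
    exact LocDimBC.dim_component_fieldExtension (k := Y.residueField (π x)) (K := P.residueField x)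
      (isPullback_fiberToSpecResidueField_of_isPullback hsq.flip x) c (hc (π x))
  exact IsShift.of_relDim hP' hP c hrel (deltaCompat_top hsq.w hf hπ hπ')

/-- Flat pullback of cycles as a homomorphism. -/
def pullHom {p : X ⟶ Y} [IsLocallyNoetherian X] [IsLocallyNoetherian Y] {c : ℤ} (hs : IsShift p δX δY c)
    (hδX : Cyc.IsDimFun X δX) : AlgebraicCycle Y ℤ →+ AlgebraicCycle X ℤ :=
  AddMonoidHom.mk' (fun α => pullCycle hs hδX α) fun a b => by
    ext x
    show Cyc.pullFun p δX δY c ⇑(a + b) x = Cyc.pullFun p δX δY c ⇑a x + Cyc.pullFun p δX δY c ⇑b x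
    simp only [pullFun_apply]
    split_ifs
    · exact add_mul (a (p x)) (b (p x)) _
    · rfl

namespace PB

namespace Setting

variable {O1 : P.Modules} {n : ℕ} (S : Setting π O1 δP δY n)
  (S' : Setting π' ((Scheme.Modules.pullback f').obj O1) δP' δX n)
  [IsLocallyNoetherian P] [IsLocallyNoetherian P'] [IsLocallyNoetherian X] [IsLocallyNoetherian Y]
  [Flat f] [Flat f'] {c : ℤ} (hs : IsShift f δX δY c) (hs' : IsShift f' δP' δP c)

/-- Iterated caps commute with flat pullback. -/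
theorem pull_seq (w : f' ≫ π = π' ≫ f) (hX : Cyc.IsDimFun X δX) (t : ℕ → (ξ : P) → Cyc.secFibre O1 ξ)
    (ht : ∀ i ξ, t i ξ ≠ 0) (α : AlgebraicCycle Y ℤ) :
    ∀ m : ℕ, pullCycle hs' S'.hP.2.2 (S.seq t α m) =
      S'.seq (fun i η => pullFib f' O1 η (t i (f' η))) (pullCycle hs hX α) m
  | 0 => by
    haveI := S.flat
    haveI := S'.flat
    ext x
    show Cyc.pullFun f' δP' δP c (Cyc.pullFun π δP δY n ⇑α) x = Cyc.pullFun π' δP' δX n (Cyc.pullFun f δX δY c ⇑α) x
    rw [← pullFun_comp S.isShift hs' S.hP.2.2 S'.hP.2.2, ← pullFun_comp hs S'.isShift hX S'.hP.2.2, add_comm (n : ℤ) c]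
    exact congrArg (fun g : P' ⟶ Y => Cyc.pullFun g δP' δY (c + n) (⇑α) x) w
  | m + 1 => by
    ext x
    show Cyc.pullFun f' δP' δP c (Cyc.c1CapFun δP O1 ⇑(S.seq t α m) (t m)) x =
      Cyc.c1CapFun δP' _ ⇑(S'.seq (fun i η => pullFib f' O1 η (t i (f' η))) (pullCycle hs hX α) m) _ x
    rw [← pull_seq w hX t ht α m, pullFun_c1Cap hs' S'.hP.2.2 S.hP.2.2 S.inv (t m) (ht m)]

include S S' hs hs' in
/-- Chern caps commute with flat pullback. -/
theorem chern_pull (w : f' ≫ π = π' ≫ f) {k : ℤ} {α : AlgebraicCycle Y ℤ}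
    {γ : Fin (n + 1 + 1) → AlgebraicCycle Y ℤ} (hγ : Cyc.IsChernCap π δY δP O1 (n + 1) k α γ)
    {αX : AlgebraicCycle X ℤ} (hαX : ⇑αX = Cyc.pullFun f δX δY c ⇑α)
    {β : Fin (n + 1 + 1) → AlgebraicCycle X ℤ} (hβ : ∀ j, ⇑(β j) = Cyc.pullFun f δX δY c ⇑(γ j)) :
    Cyc.IsChernCap π' δX δP' ((Scheme.Modules.pullback f').obj O1) (n + 1) (k + c) αX β := by
  obtain ⟨t₀, ht₀⟩ := exists_secs S.inv
  let t : ℕ → (ξ : P) → Cyc.secFibre O1 ξ := fun _ => t₀
  have ht : ∀ i ξ, t i ξ ≠ 0 := fun _ => ht₀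
  have ht' : ∀ i η, (fun (i : ℕ) η => pullFib f' O1 η (t i (f' η))) i η ≠ 0 := fun i η =>
    pullFib_ne_zero _ _ S.inv (ht₀ _)
  obtain ⟨h0, hd, hrel⟩ := (S.isChernCap_iff t ht).1 hγ
  have hb : ∀ j, β j = pullCycle hs S'.hX.2.2 (γ j) := fun j => by
    ext x
    rw [hβ]
    rfl
  refine (S'.isChernCap_iff _ ht').2 ⟨?_, fun j x hx => ?_, ?_⟩
  · ext x
    rw [hβ, hαX, h0]
  · rw [hβ, pullFun_apply]
    split_ifs with h
    · rw [hd j (f x) (fun e => hx (by omega)), zero_mul]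
    · rfl
  · have e : S'.relSum (fun i η => pullFib f' O1 η (t i (f' η))) β = pullHom hs' S'.hP.2.2 (S.relSum t γ) := by
      rw [relSum, relSum, map_sum]
      refine Finset.sum_congr rfl fun i _ => ?_
      rw [map_zsmul, hb, ← S.pull_seq S' hs hs' w S'.hX.2.2 t ht]
      rfl
    rw [e, show k + c - 1 = k - 1 + c by ring]
    exact ratEquivZero_pull hs' S'.hP.2.2 S.hP.2.2 hrel _ rfl

end Setting

end PB

end Groth.Agent.CycLib
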