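import Groth.Agent.CycLib.Chern.Filt
import Groth.Agent.ProjBundleLib.HProj
import Groth.Agent.DCohLib.SPerf
import Groth.Agent.DCohLib.PullPerf

/-! # Splitting morphisms -/

set_option autoImplicit false
set_option backward.isDefEq.respectTransparency false
set_option linter.style.haveILetI false

universe u

open CategoryTheory CategoryTheory.Limits AlgebraicGeometry TopologicalSpace
open Groth.Agent.PullbackMod

noncomputable section

namespace Groth.Agent.CycLib

variable {X : Scheme.{u}}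

/-- There is a short exact sequence with the given terms. -/
def Ses (A B C : X.Modules) : Prop :=
  ∃ (a : A ⟶ B) (b : B ⟶ C) (w : a ≫ b = 0), (ShortComplex.mk a b w).ShortExact

theorem Ses.of_iso {A A' B B' C C' : X.Modules} (h : Ses A B C) (eA : A ≅ A') (eB : B ≅ B') (eC : C ≅ C') :
    Ses A' B' C' := by
  obtain ⟨a, b, w, h⟩ := h
  have w' : (eA.inv ≫ a ≫ eB.hom) ≫ eB.inv ≫ b ≫ eC.hom = 0 := by simp [reassoc_of% w]
  let φ : ShortComplex.mk a b w ≅ ShortComplex.mk (eA.inv ≫ a ≫ eB.hom) (eB.inv ≫ b ≫ eC.hom) w' :=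
    ShortComplex.isoMk eA eB eC (by simp) (by simp)
  exact ⟨_, _, w', ShortComplex.shortExact_of_iso φ h⟩

theorem Ses.pullback {A B C : X.Modules} (h : Ses A B C) {c : ℕ} (hC : FlatMod.IsFinLocFreeOfRank c C)
    {P : Scheme.{u}} (f : P ⟶ X) :
    Ses ((Scheme.Modules.pullback f).obj A) ((Scheme.Modules.pullback f).obj B) ((Scheme.Modules.pullback f).obj C) := by
  obtain ⟨a, b, w, h⟩ := h
  exact ⟨_, _, _, DCohLib.shortExact_pullback_of_isFlat f _ h
    (DCohLib.isFlat_of_flf fun x => ⟨(hC x).choose, c, (hC x).choose_spec⟩)⟩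

/-- The rank of a kernel. -/
theorem rank_of_ses [IsLocallyNoetherian X] {A B C : X.Modules} (h : Ses A B C) {a c : ℕ}
    (hB : FlatMod.IsFinLocFreeOfRank (a + c) B) (hC : FlatMod.IsFinLocFreeOfRank c C) :
    FlatMod.IsFinLocFreeOfRank a A := by
  obtain ⟨i, g, w, hS⟩ := h
  have hB' : FlatMod.IsFinLocFree B := fun x => ⟨(hB x).choose, a + c, (hB x).choose_spec⟩
  have hC' : FlatMod.IsFinLocFree C := fun x => ⟨(hC x).choose, c, (hC x).choose_spec⟩
  have hA' : FlatMod.IsFinLocFree A := DCohLib.isFinLocFree_of_shortExact hS hB' hC'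
  obtain ⟨hAq, hAp⟩ := isQCoh_and_isFP_of_isFinLocFree A hA'
  obtain ⟨hBq, hBp⟩ := isQCoh_and_isFP_of_isFinLocFree B hB'
  obtain ⟨hCq, hCp⟩ := isQCoh_and_isFP_of_isFinLocFree C hC'
  haveI := hAq
  haveI := hBq
  haveI := hCq
  refine (isFinLocFreeOfRank_iff_freeAt A hAp a).2 fun x => ?_
  obtain ⟨a', ⟨eA⟩⟩ := (isFinLocFree_iff_freeAt A hAp).1 hA' x
  obtain ⟨eB⟩ := (isFinLocFreeOfRank_iff_freeAt B hBp (a + c)).1 hB x
  obtain ⟨eC⟩ := (isFinLocFreeOfRank_iff_freeAt C hCp c).1 hC x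
  let R := X.presheaf.stalk x
  haveI : Module.Projective R (C.presheaf.stalk x) := Module.Projective.of_equiv eC.symm
  obtain ⟨s, hs⟩ := Module.projective_lifting_property (stalkLin g x) LinearMap.id ((epi_iff_stalk g).1 hS.epi_g x)
  let e := (Function.Exact.splitSurjectiveEquiv (SyzLib.exact_stalkLin' _ hS.exact x)
    ((mono_iff_stalk i).1 hS.mono_f x) ⟨s, hs⟩).1
  have hrk : a' + c = a + c := by
    simpa using LinearEquiv.finrank_eq ((LinearEquiv.prodCongr eA eC).symm ≪≫ₗ e.symm ≪≫ₗ eB)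
  obtain rfl : a' = a := by omega
  exact ⟨eA⟩

/-- A filtration by invertible modules, read from the top. -/
inductive TopFilt : ℕ → X.Modules → Prop
  | zero {E : X.Modules} (h : IsZero E) : TopFilt 0 E
  | succ {m : ℕ} {M E L : X.Modules} (hL : PicF.IsInvertible L) (h : Ses M E L) (hM : TopFilt m M) : TopFilt (m + 1) E

theorem TopFilt.of_iso {r : ℕ} {E E' : X.Modules} (h : TopFilt r E) (e : E ≅ E') : TopFilt r E' := by
  cases h with
  | zero h => exact .zero (h.of_iso e.symm)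
  | succ hL h hM => exact .succ hL (h.of_iso (Iso.refl _) e (Iso.refl _)) hM

theorem TopFilt.pullback {r : ℕ} {E : X.Modules} (h : TopFilt r E) {P : Scheme.{u}} (f : P ⟶ X) :
    TopFilt r ((Scheme.Modules.pullback f).obj E) := by
  haveI : (Scheme.Modules.pullback f).IsLeftAdjoint :=
    (Scheme.Modules.pullbackPushforwardAdjunction f).isLeftAdjoint
  induction h with
  | zero h => exact .zero ((Scheme.Modules.pullback f).map_isZero h)
  | succ hL h hM ih =>
    exact .succ (AmpleLib.isInvertible_pullback f hL) (h.pullback (GrassShLib.isInvertible_iff_rank_one.1 hL) f) ih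

/-- The filtration as a chain. -/
theorem TopFilt.exists_chain {r : ℕ} {E : X.Modules} (h : TopFilt r E) :
    ∃ M L : ℕ → X.Modules, IsZero (M 0) ∧ Nonempty (M r ≅ E) ∧
      ∀ j, j < r → PicF.IsInvertible (L j) ∧ Ses (M j) (M (j + 1)) (L j) := by
  induction h with
  | @zero E h => exact ⟨fun _ => E, fun _ => E, h, ⟨Iso.refl _⟩, fun j hj => absurd hj (Nat.not_lt_zero _)⟩
  | @succ m M E L hL h hM ih =>
    obtain ⟨Ms, Ls, h0, ⟨e⟩, hj⟩ := ih
    refine ⟨fun j => if j ≤ m then Ms j else E, fun j => if j < m then Ls j else L, by simpa using h0,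
      ⟨eqToIso (by simp)⟩, fun j hjm => ?_⟩
    show PicF.IsInvertible (if j < m then Ls j else L) ∧
      Ses (if j ≤ m then Ms j else E) (if j + 1 ≤ m then Ms (j + 1) else E) (if j < m then Ls j else L)
    rcases lt_or_eq_of_le (Nat.lt_succ_iff.1 hjm) with h' | rfl
    · rw [if_pos h', if_pos h'.le, if_pos (Nat.succ_le_of_lt h')]
      exact hj j h'
    · rw [if_neg (lt_irrefl _), if_pos le_rfl, if_neg (by omega)]
      exact ⟨hL, h.of_iso e.symm (Iso.refl _) (Iso.refl _)⟩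

/-- A filtration read from the top can be read from the bottom. -/
theorem TopFilt.exists_botFilt {r : ℕ} {E : X.Modules} (h : TopFilt r E) :
    ∃ B : ℕ → SecLine X, BotFilt r (fun i => (B i).N) E := by
  classical
  obtain ⟨M, L, h0, ⟨e⟩, hj⟩ := h.exists_chain
  choose s hs using fun j : {j // j < r} => exists_secs (hj j.1 j.2).1
  let B : ℕ → SecLine X := fun i => if h : i < r then ⟨L i, (hj i h).1, s ⟨i, h⟩, hs ⟨i, h⟩⟩
    else ⟨Coh.structureModule X, ParaFLib.isInvertible_structureModule, oneSec X, oneSec_ne_zero⟩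
  have hB : ∀ i (h : i < r), (B i).N = L i := fun i h => by simp [B, h]
  have hfilt : ∀ j, j ≤ r → BotFilt j (fun i => (B i).N) (M j) := fun j => by
    induction j with
    | zero => exact fun _ => .zero h0
    | succ j ih =>
      intro hjr
      obtain ⟨a, b, w, hS⟩ := (hj j (by omega)).2
      exact (ih (by omega)).snoc' (hB j (by omega)) a b w hS
  exact ⟨B, (hfilt r le_rfl).of_iso e⟩

/-- The properties of the morphisms used for splitting. -/
structure SplitMap (δ : X → ℤ) {P : Scheme.{u}} (π : P ⟶ X) (d : ℕ) : Prop where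
  proper : IsProper π
  flat : Flat π
  proj : ∀ V : X.Opens, IsAffineOpen V → RelProj.IsProjective (π ∣_ V)
  bc : ∀ {Y : Scheme.{u}} (f : Y ⟶ X) [LocallyOfFiniteType f] {δY : Y → ℤ}, Cyc.IsSetup Y δY →
    Cyc.DeltaCompat f δY δ → ∀ {PY : Scheme.{u}} {πY : PY ⟶ Y} {g : PY ⟶ P}, IsPullback g πY π f →
    ∀ {δPY : PY → ℤ}, Cyc.IsSetup PY δPY → Cyc.DeltaCompat πY δPY δY →
      IsShift πY δPY δY d ∧ ∀ {k : ℤ} (α : AlgebraicCycle Y ℤ), α ∈ Cyc.Zk Y δY k → ∀ β : AlgebraicCycle PY ℤ,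
        ⇑β = Cyc.pullFun πY δPY δY d ⇑α → Cyc.RatEquivZero δPY (k + d) β → Cyc.RatEquivZero δY k α

/-- The projective bundle formula gives injectivity. -/
theorem PB.Setting.pull_injective {P : Scheme.{u}} {p : P ⟶ X} {O1 : P.Modules} {δP : P → ℤ} {δ : X → ℤ} {n : ℕ}
    (S : PB.Setting p O1 δP δ n) [IsLocallyNoetherian P] [IsLocallyNoetherian X] {k : ℤ} {α : AlgebraicCycle X ℤ}
    (hα : α ∈ Cyc.Zk X δ k) {β : AlgebraicCycle P ℤ} (hβ : ⇑β = Cyc.pullFun p δP δ n ⇑α)
    (h : Cyc.RatEquivZero δP (k + n) β) : Cyc.RatEquivZero δ k α := by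
  classical
  obtain ⟨t₀, ht₀⟩ := exists_secs S.inv
  obtain rfl : β = S.pullC α := by ext x; rw [hβ]; rfl
  let d : Fin (n + 1) → AlgebraicCycle X ℤ := fun i => if (i : ℕ) = 0 then α else 0
  have hd : ∀ i : Fin (n + 1), d i ∈ Cyc.Zk X δ (k + ((i : ℕ) : ℤ)) := fun i => by
    simp only [d]
    split_ifs with hi
    · rw [hi, Nat.cast_zero, add_zero]; exact hα
    · exact fun _ _ => rfl
  have hf : (Finset.univ.filter fun i : Fin (n + 1) => (i : ℕ) < 1) = {0} := by
    ext i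
    simp only [Finset.mem_filter, Finset.mem_univ, true_and, Finset.mem_singleton, Fin.ext_iff, Fin.val_zero]
    omega
  have := S.injective (fun _ _ => t₀) (fun _ _ => ht₀) k d hd 1 (by omega) (by
    rw [hf, Finset.sum_singleton]
    exact h) 0 Nat.zero_lt_one
  simp only [d, Fin.val_zero, if_true, Nat.cast_zero, add_zero] at this
  exact this

/-- A projective bundle is a splitting morphism. -/
theorem splitMap_bundle [IsLocallyNoetherian X] (δ : X → ℤ) {n : ℕ} {E : X.Modules}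
    (hE : FlatMod.IsFinLocFreeOfRank (n + 1) E) {P : Scheme.{u}} {p : P ⟶ X} {O1 : P.Modules}
    {q : (Scheme.Modules.pullback p).obj E ⟶ O1} (hP : KRR.IsProjBundle p E O1 q) (hX : Cyc.IsSetup X δ) :
    SplitMap δ p n := by
  haveI : Coh.IsQCoh E := (GrassShLib.isCoh_of_rank hE).1
  have hG := Grass.IsGrass.of_isProjBundle hP
  haveI : IsProper p := GrassShLib.isProper_grass hG (GrassShLib.isCoh_of_rank hE).2
  obtain ⟨δP, hδ⟩ := exists_deltaCompat p δ
  have S := PB.setting_of_isProjBundle hE hP hX (isSetup_of_lft p hX hδ) hδ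
  refine ⟨inferInstance, S.flat, fun V _ =>
    ProjBundleLib.isProjective_baseChange (isPullback_morphismRestrict p V).flip
      (GrassShLib.isProjective_grass hG (GrassShLib.isCoh_of_rank hE).2), fun {Y} f _ {δY} hY hf {PY} {πY} {g} hsq {δPY} hPY hπY => ?_⟩
  haveI := hY.1
  haveI := hPY.1
  have T := PB.setting_of_isPullback hsq hE hP hY hPY hπY
  exact ⟨T.isShift, fun α hα β hβ h => T.pull_injective hα hβ h⟩

/-- Splitting morphisms compose. -/
theorem SplitMap.comp {δ : X → ℤ} (hX : Cyc.IsSetup X δ) {P F : Scheme.{u}} {π : P ⟶ X} {φ : F ⟶ P} {δP : P → ℤ}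
    {d e : ℕ} (hπ : SplitMap δ π d) (hδP : Cyc.DeltaCompat π δP δ) (hφ : SplitMap δP φ e)
    (hφp : RelProj.IsProjective φ) :
    SplitMap δ (φ ≫ π) (d + e) := by
  haveI := hπ.proper
  haveI := hφ.proper
  haveI := hπ.flat
  haveI := hφ.flat
  refine ⟨inferInstance, inferInstance, fun V hV => ?_, fun {Y} f _ {δY} hY hf {PY} {πY} {g} hsq {δPY} hPY hπY => ?_⟩
  · haveI : IsAffine (V : Scheme.{u}) := hV
    rw [morphismRestrict_comp]
    exact ProjBundleLib.isProjective_comp
      (ProjBundleLib.isProjective_baseChange (isPullback_morphismRestrict φ (π ⁻¹ᵁ V)).flip hφp) (hπ.proj V hV)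
  haveI := hX.1
  haveI := hY.1
  haveI := hPY.1
  let Q := Limits.pullback π f
  let φY : PY ⟶ Q := pullback.lift (g ≫ φ) πY (by rw [Category.assoc]; exact hsq.w)
  have hsq₁ := IsPullback.of_hasPullback π f
  have hsq₂ : IsPullback g φY φ (pullback.fst π f) := by
    refine IsPullback.of_bot ?_ (pullback.lift_fst _ _ _).symm hsq₁
    rw [pullback.lift_snd]
    exact hsq
  obtain ⟨δQ, hδQ⟩ := exists_deltaCompat (pullback.snd π f) δY
  have hQ := isSetup_of_lft _ hY hδQ
  haveI := hQ.1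
  have hfst : Cyc.DeltaCompat (pullback.fst π f) δQ δP := deltaCompat_top hsq₁.w hf hδP hδQ
  haveI : LocallyOfFiniteType (pullback.fst π f) := MorphismProperty.of_isPullback hsq₁.flip inferInstance
  have eY : φY ≫ pullback.snd π f = πY := pullback.lift_snd _ _ _
  haveI : IsProper φY := MorphismProperty.of_isPullback hsq₂ hφ.proper
  obtain ⟨δ', hδ'⟩ := exists_deltaCompat φY δQ
  have hc := deltaCompat_comp hδQ hδ'
  rw [eY] at hc
  obtain rfl : δPY = δ' := deltaCompat_unique hπY hc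
  obtain ⟨h1, h2⟩ := hπ.bc f hY hf hsq₁ hQ hδQ
  obtain ⟨h3, h4⟩ := hφ.bc (pullback.fst π f) hQ hfst hsq₂ hPY hδ'
  haveI : Flat φY := MorphismProperty.of_isPullback hsq₂ hφ.flat
  haveI : Flat (pullback.snd π f) := MorphismProperty.of_isPullback hsq₁ hπ.flat
  have h12 : IsShift πY δPY δY ((d + e : ℕ) : ℤ) := by
    have h := h1.comp h3
    rw [eY] at h
    rwa [Nat.cast_add]
  refine ⟨h12, fun {k} α hα β hβ h0 => ?_⟩
  let α₁ := pullCycle h1 hQ.2.2 α
  have hα₁ : α₁ ∈ Cyc.Zk Q δQ (k + d) := fun x hx => by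
    show Cyc.pullFun (pullback.snd π f) δQ δY d (⇑α) x = 0
    rw [pullFun_apply]
    split_ifs with hd
    · rw [hα _ fun e' => hx (by omega), zero_mul]
    · rfl
  refine h2 α hα α₁ rfl (h4 α₁ hα₁ β ?_ (by rwa [add_assoc, ← Nat.cast_add]))
  rw [hβ, Nat.cast_add]
  refine Eq.trans ?_ (pullFun_comp h1 h3 hQ.2.2 hPY.2.2 (⇑α))
  rw [eY, add_comm (d : ℤ)]

/-- Splitting one more module. -/
theorem exists_split_one {δ : X → ℤ} (hX : Cyc.IsSetup X δ) : ∀ (r : ℕ) {P : Scheme.{u}} {π : P ⟶ X} {d : ℕ}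
    {δP : P → ℤ}, SplitMap δ π d → Cyc.DeltaCompat π δP δ → ∀ (K : P.Modules), FlatMod.IsFinLocFreeOfRank r K →
    ∃ (F : Scheme.{u}) (φ : F ⟶ P) (e : ℕ) (δF : F → ℤ), SplitMap δ (φ ≫ π) e ∧ Cyc.DeltaCompat (φ ≫ π) δF δ ∧
      TopFilt r ((Scheme.Modules.pullback φ).obj K)
  | 0, P, π, d, δP, hπ, hδP, K, hK => by
    haveI : (Scheme.Modules.pullback (𝟙 P)).IsLeftAdjoint :=
      (Scheme.Modules.pullbackPushforwardAdjunction (𝟙 P)).isLeftAdjoint
    exact ⟨P, 𝟙 P, d, δP, by rw [Category.id_comp]; exact hπ, by rw [Category.id_comp]; exact hδP,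
      .zero ((Scheme.Modules.pullback (𝟙 P)).map_isZero (isZero_of_rank_zero hK))⟩
  | n + 1, P, π, d, δP, hπ, hδP, K, hK => by
    haveI := hπ.proper
    have hP := isSetup_of_lft π hX hδP
    haveI := hP.1
    haveI : Coh.IsQCoh K := (GrassShLib.isCoh_of_rank hK).1
    obtain ⟨G, ψ, O1, q, hG⟩ := GrassShLib.exists_isGrass K (GrassShLib.isCoh_of_rank hK) 1
    have hproj := GrassShLib.isProjective_grass hG (GrassShLib.isCoh_of_rank hK).2
    haveI : IsProper ψ := GrassShLib.isProper_grass hG (GrassShLib.isCoh_of_rank hK).2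
    obtain ⟨δG, hδG⟩ := exists_deltaCompat ψ δP
    have hψ := splitMap_bundle δP hK hG.isProjBundle hP
    have hπ' := hπ.comp hX hδP hψ hproj
    have hGs := isSetup_of_lft ψ hP hδG
    haveI := hGs.1
    haveI := hG.epi
    have hses : Ses (kernel q) ((Scheme.Modules.pullback ψ).obj K) O1 :=
      ⟨kernel.ι q, q, kernel.condition q, ShortComplex.ShortExact.mk' (ShortComplex.exact_kernel q) inferInstance inferInstance⟩
    have hK' : FlatMod.IsFinLocFreeOfRank n (kernel q) := rank_of_ses hses (FlagLib.rank_pullback ψ K hK) hG.rank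
    obtain ⟨F, φ, e, δF, hF, hδF, hfilt⟩ := exists_split_one hX n hπ' (deltaCompat_comp hδP hδG) (kernel q) hK'
    rw [← Category.assoc] at hF hδF
    refine ⟨F, φ ≫ ψ, e, δF, hF, hδF, .succ (AmpleLib.isInvertible_pullback φ (GrassShLib.isInvertible_iff_rank_one.2 hG.rank))
      (Ses.of_iso (hses.pullback hG.rank φ) (Iso.refl _) ((Scheme.Modules.pullbackComp φ ψ).app K) (Iso.refl _)) hfilt⟩

/-- Splitting morphisms exist. -/
theorem exists_split {δ : X → ℤ} (hX : Cyc.IsSetup X δ) : ∀ (m : ℕ) (E : Fin m → X.Modules) (rk : Fin m → ℕ),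
    (∀ i, FlatMod.IsFinLocFreeOfRank (rk i) (E i)) →
    ∃ (P : Scheme.{u}) (π : P ⟶ X) (d : ℕ) (δP : P → ℤ), SplitMap δ π d ∧ Cyc.DeltaCompat π δP δ ∧
      ∀ i, TopFilt (rk i) ((Scheme.Modules.pullback π).obj (E i))
  | 0, E, rk, _ => by
    haveI := hX.1
    have hO := GrassShLib.isInvertible_iff_rank_one.1 (ParaFLib.isInvertible_structureModule (X := X))
    haveI : Coh.IsQCoh (Coh.structureModule X) := (GrassShLib.isCoh_of_rank hO).1
    obtain ⟨G, ψ, O1, q, hG⟩ := GrassShLib.exists_isGrass (Coh.structureModule X) (GrassShLib.isCoh_of_rank hO) 1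
    haveI : IsProper ψ := GrassShLib.isProper_grass hG (GrassShLib.isCoh_of_rank hO).2
    obtain ⟨δG, hδG⟩ := exists_deltaCompat ψ δ
    exact ⟨G, ψ, 0, δG, splitMap_bundle (n := 0) δ hO hG.isProjBundle hX, hδG, fun i => i.elim0⟩
  | m + 1, E, rk, hE => by
    obtain ⟨P, π, d, δP, hπ, hδP, hfilt⟩ := exists_split hX m (fun i => E i.castSucc) (fun i => rk i.castSucc) fun i => hE _
    obtain ⟨F, φ, e, δF, hF, hδF, hlast⟩ :=
      exists_split_one hX (rk (Fin.last m)) hπ hδP _ (FlagLib.rank_pullback π (E (Fin.last m)) (hE _))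
    refine ⟨F, φ ≫ π, e, δF, hF, hδF, Fin.lastCases ?_ fun i => ?_⟩
    · exact hlast.of_iso ((Scheme.Modules.pullbackComp φ π).app _)
    · exact ((hfilt i).pullback φ).of_iso ((Scheme.Modules.pullbackComp φ π).app _)

end Groth.Agent.CycLib
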