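import Groth.Agent.CycLib.GysinBC
import Groth.Agent.CycLib.Chern.Split
import Groth.Agent.CycLib.Chern.Pull
import Groth.Agent.CycLib.Chern.BaseChange

/-! # Comparing bundles in Chern class caps -/

set_option autoImplicit false
set_option backward.isDefEq.respectTransparency false
set_option linter.style.haveILetI false

universe u

open CategoryTheory CategoryTheory.Limits AlgebraicGeometry TopologicalSpace
open Groth.Agent.PullbackMod

noncomputable section

namespace Groth.Agent.CycLib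

variable {X : Scheme.{u}}

/-- The bundle of a module of rank zero is empty. -/
theorem isEmpty_of_rank_zero {E : X.Modules} (hE : FlatMod.IsFinLocFreeOfRank 0 E) {P : Scheme.{u}} {p : P ⟶ X}
    {O1 : P.Modules} {q : (Scheme.Modules.pullback p).obj E ⟶ O1} (hP : KRR.IsProjBundle p E O1 q) : IsEmpty P :=
  ⟨fun y => by
    have hG := Grass.IsGrass.of_isProjBundle hP
    haveI := hG.epi
    haveI : (Scheme.Modules.pullback p).IsLeftAdjoint :=
      (Scheme.Modules.pullbackPushforwardAdjunction p).isLeftAdjoint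
    have hz : IsZero ((Scheme.Modules.pullback p).obj E) := (Scheme.Modules.pullback p).map_isZero (isZero_of_rank_zero hE)
    obtain ⟨g, hg⟩ := ParaFLib.exists_stalk_gen (GrassShLib.isInvertible_iff_rank_one.2 hG.rank) y
    obtain ⟨z, rfl⟩ := (epi_iff_stalk q).1 hG.epi y g
    rw [(eq_zero_iff_stalk q).1 (hz.eq_of_src q 0) y, LinearMap.zero_apply] at hg
    exact one_ne_zero (hg.1 (show (1 : P.presheaf.stalk y) • (0 : O1.presheaf.stalk y) = 0 • 0 by simp))⟩

theorem ratEquiv_refl {δ : X → ℤ} (m : ℤ) (c : AlgebraicCycle X ℤ) : Cyc.RatEquiv δ m c c := by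
  show Cyc.RatEquivZero δ m (c - c)
  rw [sub_self]
  exact ratEquivZero_zero

/-- Uniqueness of Chern class caps in any rank. -/
theorem chern_unique' [IsLocallyNoetherian X] {δ : X → ℤ} (hX : Cyc.IsSetup X δ) {r : ℕ} {E : X.Modules}
    (hE : FlatMod.IsFinLocFreeOfRank r E) {P : Scheme.{u}} {p : P ⟶ X} {O1 : P.Modules}
    {q : (Scheme.Modules.pullback p).obj E ⟶ O1} (hP : KRR.IsProjBundle p E O1 q) [IsProper p] {δP : P → ℤ}
    (hPs : Cyc.IsSetup P δP) (hδ : Cyc.DeltaCompat p δP δ) {k : ℤ} {α α' : AlgebraicCycle X ℤ}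
    (h : Cyc.RatEquiv δ k α α') {γ γ' : Fin (r + 1) → AlgebraicCycle X ℤ} (hγ : Cyc.IsChernCap p δ δP O1 r k α γ)
    (hγ' : Cyc.IsChernCap p δ δP O1 r k α' γ') (j : Fin (r + 1)) :
    Cyc.RatEquiv δ (k - ((j : ℕ) : ℤ)) (γ j) (γ' j) := by
  haveI := hPs.1
  cases r with
  | zero =>
    obtain rfl : j = 0 := Fin.ext (by omega)
    rw [hγ.1, hγ'.1]
    simpa using h
  | succ n => exact (PB.setting_of_isProjBundle hE hP hX hPs hδ).chern_unique h hγ hγ' j

/-- Chern class caps for an isomorphic module. -/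
theorem chern_iso [IsLocallyNoetherian X] {δ : X → ℤ} (hX : Cyc.IsSetup X δ) {r : ℕ} {E F : X.Modules}
    (hE : FlatMod.IsFinLocFreeOfRank r E) (hF : FlatMod.IsFinLocFreeOfRank r F) {A : X.Modules} (hA : IsZero A)
    {a : A ⟶ E} {b : E ⟶ F} {hab : a ≫ b = 0} (hex : (ShortComplex.mk a b hab).ShortExact) {P : Scheme.{u}}
    {p : P ⟶ X} {O1 : P.Modules} {q : (Scheme.Modules.pullback p).obj E ⟶ O1} (hP : KRR.IsProjBundle p E O1 q)
    [IsProper p] {δP : P → ℤ} (hPs : Cyc.IsSetup P δP) (hδ : Cyc.DeltaCompat p δP δ) {Q : Scheme.{u}} {p' : Q ⟶ X}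
    {O1' : Q.Modules} {q' : (Scheme.Modules.pullback p').obj F ⟶ O1'} (hQ : KRR.IsProjBundle p' F O1' q')
    [IsProper p'] {δQ : Q → ℤ} (hQs : Cyc.IsSetup Q δQ) (hδ' : Cyc.DeltaCompat p' δQ δ) {k : ℤ}
    {α : AlgebraicCycle X ℤ} {γ : Fin (r + 1) → AlgebraicCycle X ℤ} (hγ : Cyc.IsChernCap p' δ δQ O1' r k α γ) :
    Cyc.IsChernCap p δ δP O1 r k α γ := by
  haveI := hPs.1
  haveI := hQs.1
  cases r with
  | zero =>
    haveI := isEmpty_of_rank_zero hE hP
    refine ⟨hγ.1, hγ.2.1, fun _ _ β _ => ?_⟩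
    rw [show β = 0 from DFunLike.ext _ _ fun y => isEmptyElim y]
    exact ratEquivZero_zero
  | succ n =>
    obtain ⟨ι, hci, hp, ⟨eO⟩, hι⟩ := exists_subBundle hP hQ (GrassShLib.isCoh_of_rank hE).1
      (GrassShLib.isCoh_of_rank hF).1 hab hex
    haveI := hci
    haveI : (Scheme.Modules.pullback p).IsLeftAdjoint :=
      (Scheme.Modules.pullbackPushforwardAdjunction p).isLeftAdjoint
    obtain ⟨k', hk⟩ := (hι P (𝟙 P)).2 ((eq_zero_iff_stalk _).2 fun z => by
      have h0 : (Scheme.Modules.pullback (𝟙 P)).map ((Scheme.Modules.pullback p).map a ≫ q) = 0 := by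
        haveI : (Scheme.Modules.pullback (𝟙 P)).IsLeftAdjoint :=
          (Scheme.Modules.pullbackPushforwardAdjunction (𝟙 P)).isLeftAdjoint
        exact ((Scheme.Modules.pullback (𝟙 P)).map_isZero ((Scheme.Modules.pullback p).map_isZero hA)).eq_of_src _ _
      exact (eq_zero_iff_stalk _).1 h0 z)
    haveI : IsIso ι := by
      refine ⟨k', ?_, hk⟩
      rw [← cancel_mono ι, Category.assoc, hk, Category.comp_id, Category.id_comp]
    subst hp
    obtain rfl : δQ = fun y => δP (ι y) := deltaCompat_unique hδ' fun y => by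
      obtain ⟨d, hd, e⟩ := hδ (ι y)
      refine ⟨d, ?_, ?_⟩
      · show DimFormulaLib.resTrdegAt (ι ≫ p) y = _
        rw [FlatDim.resTrdegAt_comp, FlatDim.resTrdegAt_preimmersion ι, add_zero]
        exact hd
      · rw [Scheme.Hom.comp_apply]
        exact e
    have S := PB.setting_of_isProjBundle hE hP hX hPs hδ
    have T₀ := PB.setting_of_isProjBundle hF hQ hX hQs hδ'
    have hc : Cyc.DeltaCompat (𝟙 X) δ δ := fun x =>
      ⟨0, (FlatDim.resTrdegAt_preimmersion (𝟙 X) x).trans Nat.cast_zero.symm, by simp⟩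
    have h := S.chern_push (T₀.ofModIso eO.symm)
      (IsPullback.of_horiz_isIso ⟨(Category.comp_id _).symm⟩) hc (deltaCompat_preimmersion ι δP)
      (T₀.chern_ofModIso eO.symm hγ)
    have e : ∀ c : AlgebraicCycle X ℤ, AlgebraicCycle.map (𝟙 X) δ δ c = c := fun c => by
      ext x
      exact map_closed_apply (𝟙 X) (δ := δ) c x
    simpa only [e] using h

/-- Bundles of pulled back modules. -/
theorem exists_bundle_pullback [IsLocallyNoetherian X] {E : X.Modules} {r : ℕ} (hE : FlatMod.IsFinLocFreeOfRank r E)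
    {P : Scheme.{u}} {p : P ⟶ X} {O1 : P.Modules} {q : (Scheme.Modules.pullback p).obj E ⟶ O1}
    (hP : KRR.IsProjBundle p E O1 q) {Y : Scheme.{u}} (f : Y ⟶ X) :
    ∃ (P₁ : Scheme.{u}) (p₁ : P₁ ⟶ Y) (O₁ : P₁.Modules)
      (q₁ : (Scheme.Modules.pullback p₁).obj ((Scheme.Modules.pullback f).obj E) ⟶ O₁) (g : P₁ ⟶ P),
      KRR.IsProjBundle p₁ ((Scheme.Modules.pullback f).obj E) O₁ q₁ ∧ IsProper p₁ ∧ IsPullback g p₁ p f ∧
        Nonempty ((Scheme.Modules.pullback g).obj O1 ≅ O₁) := by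
  have hq : Coh.IsQCoh E := (GrassShLib.isCoh_of_rank hE).1
  have hE' := FlagLib.rank_pullback f E hE
  have hq' : Coh.IsQCoh ((Scheme.Modules.pullback f).obj E) := (GrassShLib.isCoh_of_rank hE').1
  obtain ⟨P₀, p₀, O₀, φ₀, ⟨D⟩⟩ := ProjBundleLib.exists_bundle hq
  obtain ⟨P₁, p₁, O₁, φ₁, ⟨D'⟩⟩ := ProjBundleLib.exists_bundle hq'
  obtain ⟨v, hv, τ, hiso, -⟩ := PB.exists_iso_of_isGrass (GrassShLib.isGrass_of_pdata D) (Grass.IsGrass.of_isProjBundle hP)
  haveI := hiso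
  obtain ⟨k, hk, -⟩ := D.existsUnique_compat_of_gens D'.isInvertible_O1 (D'.gens.down f D.hE)
  have hkc : k ≫ p₀ = p₁ ≫ f := hk.1.trans (Category.id_comp _)
  choose c hc huniq using fun s : PullbackCone p₀ f => ProjBundleLib.exists_lift f D' hk D s.fst s.snd s.condition
  have hsq₁ : IsPullback k p₁ p₀ f := IsPullback.of_isLimit' ⟨hkc⟩ (PullbackCone.IsLimit.mk hkc c
    (fun s => (hc s).1) (fun s => (hc s).2) fun s m h1 h2 => huniq s m ⟨h1, h2⟩)
  obtain ⟨hr, τ₁, -⟩ := D.exists_iso_of_compat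
    (((Scheme.Modules.pullbackPushforwardAdjunction (p₁ ≫ f)).homEquiv E _).symm (ProjBundleLib.down f φ₁))
    (r := k) (by simpa only [ProjBundleLib.sigma, Equiv.apply_symm_apply] using hk)
  have hG₁ := GrassShLib.isGrass_of_pdata D'
  haveI : Coh.IsQCoh ((Scheme.Modules.pullback f).obj E) := hq'
  refine ⟨P₁, p₁, O₁, _, k ≫ inv v, hG₁.isProjBundle, D'.isProper (GrassShLib.isCoh_of_rank hE').2, ?_, ⟨?_⟩⟩
  · have hinv : inv v ≫ p = p₀ := by rw [IsIso.inv_comp_eq, hv]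
    have h := hsq₁.paste_horiz (IsPullback.of_horiz_isIso (fst := inv v) (snd := p₀) (f := p) (g := 𝟙 X)
      ⟨by rw [hinv, Category.comp_id]⟩)
    rwa [Category.comp_id] at h
  · exact ((Scheme.Modules.pullbackComp k (inv v)).app O1).symm ≪≫
      (Scheme.Modules.pullback k).mapIso ((Scheme.Modules.pullback (inv v)).mapIso τ.symm ≪≫
        (Scheme.Modules.pullbackComp (inv v) v).app O₀ ≪≫ (Scheme.Modules.pullbackCongr (IsIso.inv_hom_id v)).app O₀ ≪≫
        (Scheme.Modules.pullbackId P₀).app O₀) ≪≫ τ₁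

/-- Chern class caps of pulled back modules. -/
theorem chern_pullback [IsLocallyNoetherian X] {Y : Scheme.{u}} [IsLocallyNoetherian Y] {δ : X → ℤ}
    (hX : Cyc.IsSetup X δ) {r : ℕ} {E : X.Modules} (hE : FlatMod.IsFinLocFreeOfRank r E) {P : Scheme.{u}} {p : P ⟶ X}
    {O1 : P.Modules} {q : (Scheme.Modules.pullback p).obj E ⟶ O1} (hP : KRR.IsProjBundle p E O1 q) [IsProper p]
    {δP : P → ℤ} (hPs : Cyc.IsSetup P δP) (hδ : Cyc.DeltaCompat p δP δ) (f : Y ⟶ X) [Flat f] [LocallyOfFiniteType f]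
    {δY : Y → ℤ} (hY : Cyc.IsSetup Y δY) {c : ℕ} (hs : IsShift f δY δ c) (hf : Cyc.DeltaCompat f δY δ) :
    ∃ (P₁ : Scheme.{u}) (p₁ : P₁ ⟶ Y) (O₁ : P₁.Modules)
      (q₁ : (Scheme.Modules.pullback p₁).obj ((Scheme.Modules.pullback f).obj E) ⟶ O₁) (δ₁ : P₁ → ℤ),
      KRR.IsProjBundle p₁ ((Scheme.Modules.pullback f).obj E) O₁ q₁ ∧ IsProper p₁ ∧ Cyc.IsSetup P₁ δ₁ ∧
      Cyc.DeltaCompat p₁ δ₁ δY ∧ ∀ {k : ℤ} {α : AlgebraicCycle X ℤ} {γ : Fin (r + 1) → AlgebraicCycle X ℤ},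
        Cyc.IsChernCap p δ δP O1 r k α γ →
        Cyc.IsChernCap p₁ δY δ₁ O₁ r (k + c) (pullHom hs hY.2.2 α) fun j => pullHom hs hY.2.2 (γ j) := by
  obtain ⟨P₁, p₁, O₁, q₁, g, hP₁, hp₁, hsq, ⟨e⟩⟩ := exists_bundle_pullback hE hP f
  haveI := hp₁
  obtain ⟨δ₁, hδ₁⟩ := exists_deltaCompat p₁ δY
  have hs₁ := isSetup_of_lft p₁ hY hδ₁
  haveI := hs₁.1
  haveI := hPs.1
  refine ⟨P₁, p₁, O₁, q₁, δ₁, hP₁, hp₁, hs₁, hδ₁, fun {k α γ} hγ => ?_⟩
  cases r with
  | zero =>
    haveI := isEmpty_of_rank_zero (FlagLib.rank_pullback f E hE) hP₁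
    refine ⟨by exact congrArg _ hγ.1, fun j y hy => ?_, fun _ _ β _ => ?_⟩
    · show Cyc.pullFun f δY δ c (⇑(γ j)) y = 0
      rw [pullFun_apply]
      split_ifs with h
      · rw [hγ.2.1 j _ fun e => hy (by omega), zero_mul]
      · rfl
    · rw [show β = 0 from DFunLike.ext _ _ fun y => isEmptyElim y]
      exact ratEquivZero_zero
  | succ n =>
    have S := PB.setting_of_isProjBundle hE hP hX hPs hδ
    have S' := PB.setting_of_isPullback hsq hE hP hY hs₁ hδ₁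
    haveI : Flat g := MorphismProperty.of_isPullback hsq.flip inferInstance
    have hsR := isShift_square hsq hY hX hPs hs₁ c (hasRelDim_of_isShift (δX := δY) (δY := δ) hs hf) hf hδ hδ₁
    exact S'.chern_ofModIso e (S.chern_pull S' hs hsR hsq.w hγ rfl fun _ => rfl)

end Groth.Agent.CycLib
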