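import Groth.Agent.CycLib.Chern.Pull
import Groth.Agent.CycLib.Proj

/-! # Chern class caps and proper push forward -/

set_option autoImplicit false
set_option backward.isDefEq.respectTransparency false
set_option linter.style.haveILetI false

universe u

open CategoryTheory CategoryTheory.Limits AlgebraicGeometry TopologicalSpace

noncomputable section

namespace Groth.Agent.CycLib.PB.Setting

variable {X Y P P' : Scheme.{u}} {f : X ⟶ Y} {π : P ⟶ Y} {π' : P' ⟶ X} {f' : P' ⟶ P}
  {δX : X → ℤ} {δY : Y → ℤ} {δP : P → ℤ} {δP' : P' → ℤ} {O1 : P.Modules} {n : ℕ} (S : Setting π O1 δP δY n)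
  (S' : Setting π' ((Scheme.Modules.pullback f').obj O1) δP' δX n)
  [IsLocallyNoetherian P] [IsLocallyNoetherian P'] [IsLocallyNoetherian X] [IsLocallyNoetherian Y]
  [IsProper f] [IsProper f'] (hsq : IsPullback f' π' π f) (hf : Cyc.DeltaCompat f δX δY)
  (hf' : Cyc.DeltaCompat f' δP' δP)

include hsq hf hf' in
/-- Iterated caps commute with proper push forward. -/
theorem map_seq (t : ℕ → (ξ : P) → Cyc.secFibre O1 ξ) (ht : ∀ i ξ, t i ξ ≠ 0) (α : AlgebraicCycle X ℤ) :
    ∀ m : ℕ, AlgebraicCycle.map f' δP' δP (S'.seq (fun i η => pullFib f' O1 η (t i (f' η))) α m) =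
      S.seq t (AlgebraicCycle.map f δX δY α) m
  | 0 => by
    haveI := S.lft
    ext x
    exact congrFun (map_pullFun hsq.flip S.hP.2.2 S'.hP.2.2 hf hf' S.isShift S'.isShift α (S'.pullC α) rfl) x
  | m + 1 => by
    ext x
    rw [map_c1Cap_pullFib f' S'.hP S.hP hf' S.inv (S'.seq (fun i η => pullFib f' O1 η (t i (f' η))) α m) (t m) (ht m)
      (S'.seq (fun i η => pullFib f' O1 η (t i (f' η))) α (m + 1)) (fun _ => rfl) x, map_seq t ht α m]
    rfl

include S S' hsq hf hf' in
/-- Chern caps commute with proper push forward. -/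
theorem chern_push {k : ℤ} {α : AlgebraicCycle X ℤ} {γ : Fin (n + 1 + 1) → AlgebraicCycle X ℤ}
    (hγ : Cyc.IsChernCap π' δX δP' ((Scheme.Modules.pullback f').obj O1) (n + 1) k α γ) :
    Cyc.IsChernCap π δY δP O1 (n + 1) k (AlgebraicCycle.map f δX δY α) (fun j => AlgebraicCycle.map f δX δY (γ j)) := by
  classical
  obtain ⟨t₀, ht₀⟩ := exists_secs S.inv
  let t : ℕ → (ξ : P) → Cyc.secFibre O1 ξ := fun _ => t₀
  have ht : ∀ i ξ, t i ξ ≠ 0 := fun _ => ht₀
  have ht' : ∀ i η, (fun (i : ℕ) η => pullFib f' O1 η (t i (f' η))) i η ≠ 0 := fun i η =>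
    pullFib_ne_zero _ _ S.inv (ht₀ _)
  obtain ⟨h0, hd, hrel⟩ := (S'.isChernCap_iff _ ht').1 hγ
  refine (S.isChernCap_iff t ht).2 ⟨congrArg _ h0, fun j y hy => ?_, ?_⟩
  · obtain hfin := finite_window f (γ j) y
    rw [map_apply_eq_sum f _ y hfin.toFinset fun w hw hw' => hfin.mem_toFinset.2 ⟨hw, hw'⟩]
    refine Finset.sum_eq_zero fun w hw => ?_
    rw [hfin.mem_toFinset] at hw
    have h1 : δX w = k - ((j : ℕ) : ℤ) := by_contra fun e => hw.2 (hd j w e)
    rw [Set.indicator_of_mem (show w ∈ f ⁻¹' {y} from hw.1), AlgebraicCycle.mapCoeff, if_neg, Nat.cast_zero, mul_zero]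
    intro e
    rw [show f w = y from hw.1] at e
    exact hy (by omega)
  · let M : AlgebraicCycle P' ℤ →+ AlgebraicCycle P ℤ :=
      AddMonoidHom.ofMapSub (fun c => AlgebraicCycle.map f' δP' δP c) fun a b => by
        ext y
        exact map_sub_apply f' a b y
    have e : S.relSum t (fun j => AlgebraicCycle.map f δX δY (γ j)) =
        M (S'.relSum (fun i η => pullFib f' O1 η (t i (f' η))) γ) := by
      rw [relSum, relSum, map_sum]
      refine Finset.sum_congr rfl fun i _ => ?_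
      rw [map_zsmul, ← S.map_seq S' hsq hf hf' t ht]
      rfl
    rw [e]
    exact ratEquivZero_map f' S'.hP S.hP hf' hrel

end Groth.Agent.CycLib.PB.Setting
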