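import Groth.Agent.DCohMore.DualFlf
import Groth.Agent.HilbObsLib.Stalk
import Groth.Agent.CurveLib.TensorExact
import Groth.Agent.CycLib.Tensor

/-! # Duals of locally free modules, for Chern classes -/

set_option autoImplicit false
set_option backward.isDefEq.respectTransparency false
set_option linter.style.haveILetI false

universe u

open CategoryTheory CategoryTheory.Limits AlgebraicGeometry TopologicalSpace
open Groth.Agent.PullbackMod Groth.Agent.DevLib Groth.Agent.QCohLib Groth.Agent.DCohLib
open scoped TensorProduct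

noncomputable section

namespace Groth.Agent.CycLib.Dual

variable {X : Scheme.{u}}

local instance hasHF (M : X.Modules) : ModSite.HasSheafHom (O := X.sheaf) M :=
  ModTensor.hasSheafHom (O := X.sheaf) M

/-- The dual module. -/
abbrev dd (E : X.Modules) : X.Modules := LocFreeHomLib.dualE E

theorem flf_of_rank {n : ℕ} {E : X.Modules} (hE : FlatMod.IsFinLocFreeOfRank n E) : FlatMod.IsFinLocFree E :=
  fun x => let ⟨U, hx, e⟩ := hE x; ⟨U, n, hx, e⟩

/-- The structure sheaf at a point. -/
def oneEquiv (x : X) : X.presheaf.stalk x ≃ₗ[X.presheaf.stalk x] (Coh.structureModule X).presheaf.stalk x :=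
  LinearEquiv.ofBijective (LinearMap.toSpanSingleton _ _ (LocFreeHomLib.one' x)) (ParaFLib.bijective_oneG x)

/-- The dual at a point. -/
def ddEquiv {n : ℕ} {E : X.Modules} (hE : FlatMod.IsFinLocFreeOfRank n E) (x : X) :
    (dd E).presheaf.stalk x ≃ₗ[X.presheaf.stalk x]
      (E.presheaf.stalk x →ₗ[X.presheaf.stalk x] (Coh.structureModule X).presheaf.stalk x) :=
  LinearEquiv.ofBijective _ (LocFreeHomLib.theta_bijective_flf E (flf_of_rank hE) (Coh.structureModule X) x)

/-- The dual has the same rank. -/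
theorem rank_dd {n : ℕ} {E : X.Modules} (hE : FlatMod.IsFinLocFreeOfRank n E) :
    FlatMod.IsFinLocFreeOfRank n (dd E) := by
  have hD : FlatMod.IsFinLocFree (dd E) := DCohMore.isFinLocFree_dual E (flf_of_rank hE)
  obtain ⟨hq, hfp⟩ := isQCoh_and_isFP_of_isFinLocFree _ hD
  haveI := hq
  rw [isFinLocFreeOfRank_iff_freeAt (dd E) hfp]
  intro x
  obtain ⟨e⟩ := CurveLib.freeAt_of_isFinLocFreeOfRank hE x
  exact ⟨(ddEquiv hE x).trans (((LinearEquiv.congrRight (oneEquiv x).symm).trans
    (LinearEquiv.congrLeft (X.presheaf.stalk x) (X.presheaf.stalk x) e)).trans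
    (Pi.basisFun (X.presheaf.stalk x) (Fin n)).toDualEquiv.symm)⟩

/-- The transpose of a map. -/
def tr {A B : X.Modules} (f : A ⟶ B) : dd B ⟶ dd A :=
  (ModSite.sheafHomAdj (O := X.sheaf) A).homEquiv (dd B) (Coh.structureModule X)
    (((DCoh.tensorBi (X := X)).obj (dd B)).map f ≫ StalkHomLib.ev B (Coh.structureModule X))

theorem theta_tr {A B : X.Modules} (f : A ⟶ B) (x : X) (z : (dd B).presheaf.stalk x) (a : A.presheaf.stalk x) :
    StalkHomLib.theta A (Coh.structureModule X) x (stalkLin (tr f) x z) a =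
      StalkHomLib.theta B (Coh.structureModule X) x z (stalkLin f x a) := by
  rw [StalkHomLib.theta_transpose]
  rw [show ((ModSite.sheafHomAdj (O := X.sheaf) A).homEquiv (dd B) (Coh.structureModule X)).symm (tr f) =
    ((DCoh.tensorBi (X := X)).obj (dd B)).map f ≫ StalkHomLib.ev B (Coh.structureModule X) from
      Equiv.symm_apply_apply _ _]
  refine (LinearMap.congr_fun (stalkLin_comp _ _ x) _).trans ?_
  exact congrArg (stalkLin (StalkHomLib.ev B (Coh.structureModule X)) x)
    (stalkTensor_natural_right x f (z ⊗ₜ a))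

/-- The transposed sequence. -/
theorem exists_dual_seq {S : ShortComplex X.Modules} (hS : S.ShortExact) {n₁ n₂ n₃ : ℕ}
    (h₁ : FlatMod.IsFinLocFreeOfRank n₁ S.X₁) (h₂ : FlatMod.IsFinLocFreeOfRank n₂ S.X₂)
    (h₃ : FlatMod.IsFinLocFreeOfRank n₃ S.X₃) :
    ∃ h : tr S.g ≫ tr S.f = 0, (ShortComplex.mk _ _ h).ShortExact := by
  haveI := hS.mono_f
  haveI := hS.epi_g
  have h : tr S.g ≫ tr S.f = 0 := by
    refine PullbackMod.hom_ext_stalk fun x => LinearMap.ext fun z => ?_
    refine (LocFreeHomLib.theta_bijective_flf S.X₁ (flf_of_rank h₁) (Coh.structureModule X) x).1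
      (LinearMap.ext fun a => ?_)
    rw [stalkLin_comp, LinearMap.comp_apply, theta_tr, theta_tr,
      (DevLib.stalk_exact hS x (stalkLin S.f x a)).2 ⟨a, rfl⟩, DevLib.stalkLin_zero]
    simp
  refine ⟨h, @ShortComplex.ShortExact.mk' _ _ _ _ ?_ ?_ ?_⟩
  · refine HilbObsLib.exact_of_stalk fun x z hz => ?_
    have h0 : ∀ a, StalkHomLib.theta S.X₂ (Coh.structureModule X) x z (stalkLin S.f x a) = 0 := fun a => by
      rw [← theta_tr S.f x z a, show stalkLin (tr S.f) x z = 0 from hz]
      simp
    let φ := StalkHomLib.theta S.X₂ (Coh.structureModule X) x z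
    let e := LinearMap.quotKerEquivOfSurjective (stalkLin S.g x) (DevLib.stalk_surjective hS x)
    have hle : LinearMap.ker (stalkLin S.g x) ≤ LinearMap.ker φ := fun b hb => by
      obtain ⟨a, rfl⟩ := (DevLib.stalk_exact hS x b).1 hb
      exact h0 a
    obtain ⟨w, hw⟩ := (LocFreeHomLib.theta_bijective_flf S.X₃ (flf_of_rank h₃) (Coh.structureModule X) x).2
      ((Submodule.liftQ _ φ hle).comp e.symm.toLinearMap)
    refine ⟨w, (LocFreeHomLib.theta_bijective_flf S.X₂ (flf_of_rank h₂) (Coh.structureModule X) x).1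
      (LinearMap.ext fun b => ?_)⟩
    rw [theta_tr, hw, LinearMap.comp_apply]
    show Submodule.liftQ _ φ hle (e.symm (stalkLin S.g x b)) = _
    rw [show e.symm (stalkLin S.g x b) = Submodule.Quotient.mk b from e.symm_apply_eq.2 rfl]
    rfl
  · refine (PullbackMod.mono_iff_stalk _).2 fun x z w hzw => ?_
    refine (LocFreeHomLib.theta_bijective_flf S.X₃ (flf_of_rank h₃) (Coh.structureModule X) x).1
      (LinearMap.ext fun c => ?_)
    obtain ⟨b, rfl⟩ := DevLib.stalk_surjective hS x c
    rw [← theta_tr, ← theta_tr, hzw]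
  · refine (PullbackMod.epi_iff_stalk _).2 fun x z => ?_
    obtain ⟨e₃⟩ := CurveLib.freeAt_of_isFinLocFreeOfRank h₃ x
    haveI : Module.Projective (X.presheaf.stalk x) (S.X₃.presheaf.stalk x) := Module.Projective.of_equiv e₃.symm
    obtain ⟨l, hl⟩ := Module.projective_lifting_property (stalkLin S.g x) LinearMap.id (DevLib.stalk_surjective hS x)
    obtain ⟨r, hr⟩ : ∃ r : S.X₂.presheaf.stalk x →ₗ[X.presheaf.stalk x] S.X₁.presheaf.stalk x,
        r.comp (stalkLin S.f x) = LinearMap.id :=
      (((DevLib.stalk_exact hS x).split_tfae (DevLib.stalk_injective hS x) (DevLib.stalk_surjective hS x)).out 0 1 :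
        (∃ l, stalkLin S.g x ∘ₗ l = LinearMap.id) ↔ ∃ l, l ∘ₗ stalkLin S.f x = LinearMap.id).1 ⟨l, hl⟩
    obtain ⟨w, hw⟩ := (LocFreeHomLib.theta_bijective_flf S.X₂ (flf_of_rank h₂) (Coh.structureModule X) x).2
      ((StalkHomLib.theta S.X₁ (Coh.structureModule X) x z).comp r)
    refine ⟨w, (LocFreeHomLib.theta_bijective_flf S.X₁ (flf_of_rank h₁) (Coh.structureModule X) x).1
      (LinearMap.ext fun a => ?_)⟩
    rw [theta_tr, hw, LinearMap.comp_apply, ← LinearMap.comp_apply r, hr, LinearMap.id_apply]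

/-- The evaluation of an invertible module is an isomorphism. -/
theorem isIso_ev_line {L : X.Modules} (hL : PicF.IsInvertible L) :
    IsIso (StalkHomLib.ev L (Coh.structureModule X)) := by
  have hr : FlatMod.IsFinLocFreeOfRank 1 L := CurveLib.isFinLocFreeOfRank_one hL
  refine (isIso_iff_stalk _).2 fun x => ?_
  let R := X.presheaf.stalk x
  obtain ⟨e, he⟩ := ParaFLib.exists_stalk_gen hL x
  let E : R ≃ₗ[R] L.presheaf.stalk x := LinearEquiv.ofBijective (LinearMap.toSpanSingleton R _ e) he
  let F : (L.presheaf.stalk x →ₗ[R] (Coh.structureModule X).presheaf.stalk x) ≃ₗ[R] R :=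
    (LinearEquiv.arrowCongr E.symm (oneEquiv x).symm).trans (LinearMap.ringLmapEquivSelf R R R)
  let D := (ddEquiv hr x).trans F
  let d := D.symm 1
  have hd : Function.Bijective fun r : R => r • d := by
    have : (fun r : R => r • d) = D.symm := funext fun r => by rw [← map_smul, smul_eq_mul, mul_one]
    rw [this]
    exact D.symm.bijective
  have h1 : F (StalkHomLib.theta L (Coh.structureModule X) x d) = 1 := D.apply_symm_apply 1
  change (oneEquiv x).symm (StalkHomLib.theta L (Coh.structureModule X) x d (E 1)) = 1 at h1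
  have h2 : StalkHomLib.theta L (Coh.structureModule X) x d e = LocFreeHomLib.one' x := by
    rw [LinearEquiv.symm_apply_eq, show E 1 = e from one_smul R e] at h1
    exact h1.trans (one_smul R _)
  have hb := CycLib.bijective_germMul hd he
  refine (Function.Bijective.of_comp_iff (stalkLin (StalkHomLib.ev L (Coh.structureModule X)) x) hb).1 ?_
  have h3 : (stalkLin (StalkHomLib.ev L (Coh.structureModule X)) x) ∘ (fun r : R => r • germMul x d e) =
      fun r : R => r • LocFreeHomLib.one' x := funext fun r => by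
    show stalkLin _ x (r • germMul x d e) = _
    rw [map_smul, ← h2, StalkHomLib.theta_apply]
    exact congrArg (fun z => r • stalkLin (StalkHomLib.ev L (Coh.structureModule X)) x z) rfl
  rw [h3]
  exact ParaFLib.bijective_oneG x

end Groth.Agent.CycLib.Dual
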