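import Groth.Agent.CycLib.PB.Transport
import Groth.Agent.CycLib.C1Pull

/-! # Chern class caps: existence and uniqueness -/

set_option autoImplicit false
set_option backward.isDefEq.respectTransparency false
set_option linter.style.haveILetI false

universe u

open CategoryTheory CategoryTheory.Limits AlgebraicGeometry TopologicalSpace

noncomputable section

namespace Groth.Agent.CycLib

section C1

variable {X : Scheme.{u}} {δ : X → ℤ} {L : X.Modules}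

/-- An invertible module has nonzero rational sections. -/
theorem exists_secs (hL : PicF.IsInvertible L) : ∃ t : (ξ : X) → Cyc.secFibre L ξ, ∀ ξ, t ξ ≠ 0 := by
  have h : ∀ ξ : X, ∃ s : Cyc.secFibre L ξ, s ≠ 0 := fun ξ => by
    obtain ⟨t, ht⟩ := ParaFLib.exists_stalk_gen hL ξ
    refine ⟨mkF L ξ t, fun e => ?_⟩
    have := (smul_mkF_eq_zero_iff ht 1).1 (by rw [one_smul]; exact e)
    rw [map_one] at this
    exact one_ne_zero this
  choose t ht using h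
  exact ⟨t, ht⟩

/-- A map of fibres induced by a map of modules. -/
def fibMap {L' : X.Modules} (φ : L ⟶ L') (ξ : X) : Cyc.secFibre L ξ →ₗ[X.presheaf.stalk ξ] Cyc.secFibre L' ξ :=
  Submodule.mapQ _ _ (PullbackMod.stalkLin φ ξ) (fun m hm => by
    refine Submodule.smul_induction_on hm (fun a ha y _ => ?_) (fun a b ha hb => ?_)
    · rw [Submodule.mem_comap, LinearMap.map_smul]
      exact Submodule.smul_mem_smul ha trivial
    · exact Submodule.add_mem _ ha hb)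

theorem fibMap_mkF {L' : X.Modules} (φ : L ⟶ L') (ξ : X) (m : L.presheaf.stalk ξ) :
    fibMap φ ξ (mkF L ξ m) = mkF L' ξ (PullbackMod.stalkLin φ ξ m) := rfl

theorem gen_stalkLin {L' : X.Modules} (e : L ≅ L') {ξ : X} {m : L.presheaf.stalk ξ}
    (hm : Function.Bijective fun r : X.presheaf.stalk ξ => r • m) :
    Function.Bijective fun r : X.presheaf.stalk ξ => r • PullbackMod.stalkLin e.hom ξ m := by
  have h : (fun r : X.presheaf.stalk ξ => r • PullbackMod.stalkLin e.hom ξ m) =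
      PullbackMod.stalkLin e.hom ξ ∘ fun r => r • m := funext fun r => (LinearMap.map_smul _ r _).symm
  rw [h]
  exact (PB.bijective_stalkLin e ξ).comp hm

theorem fibMap_ne_zero (hL : PicF.IsInvertible L) {L' : X.Modules} (e : L ≅ L') {ξ : X} {s : Cyc.secFibre L ξ}
    (hs : s ≠ 0) : fibMap e.hom ξ s ≠ 0 := by
  obtain ⟨t, ht⟩ := ParaFLib.exists_stalk_gen hL ξ
  obtain ⟨φ, rfl⟩ := exists_smul_mkF ht s
  rw [LinearMap.map_smul, fibMap_mkF]
  intro h
  exact hs ((smul_mkF_eq_zero_iff ht φ).2 ((smul_mkF_eq_zero_iff (gen_stalkLin e ht) φ).1 h))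

variable [IsLocallyNoetherian X] (hδ : Cyc.IsDimFun X δ)
include hδ

/-- Divisors of sections are invariant under isomorphisms. -/
theorem secDivFun_iso (hL : PicF.IsInvertible L) {L' : X.Modules} (e : L ≅ L') (ξ x : X) (s : Cyc.secFibre L ξ) :
    Cyc.secDivFun δ L' ξ (fibMap e.hom ξ s) x = Cyc.secDivFun δ L ξ s x := by
  by_cases h : ξ ⤳ x ∧ δ x + 1 = δ ξ
  · obtain ⟨hs, hd⟩ := h
    obtain ⟨t, ht⟩ := exists_genAt hL x
    have htx : Function.Bijective fun r : X.presheaf.stalk x => r • t := by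
      have := ht x specializes_rfl
      rwa [TopCat.Presheaf.stalkSpecializes_refl] at this
    obtain ⟨φ, rfl⟩ := exists_smul_mkF (ht ξ hs) s
    rw [secDivFun_of hs hd, secDivFun_of hs hd, secOrdAt_eq hδ hs hd htx (ht ξ hs), LinearMap.map_smul, fibMap_mkF,
      ← stalkSpecializes_stalkLin, secOrdAt_eq hδ hs hd (gen_stalkLin e htx)
        (by rw [stalkSpecializes_stalkLin]; exact gen_stalkLin e (ht ξ hs))]
  · rw [Cyc.secDivFun, Cyc.secDivFun, dif_neg h, dif_neg h]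

theorem c1CapFun_iso (hL : PicF.IsInvertible L) {L' : X.Modules} (e : L ≅ L') (a : X → ℤ)
    (s : (ξ : X) → Cyc.secFibre L ξ) :
    Cyc.c1CapFun δ L' a (fun ξ => fibMap e.hom ξ (s ξ)) = Cyc.c1CapFun δ L a s :=
  funext fun x => finsum_congr fun ξ => congrArg _ (secDivFun_iso hδ hL e ξ x (s ξ))

end C1

namespace PB

variable {X P : Scheme.{u}} {p : P ⟶ X} {O1 : P.Modules} {δP : P → ℤ} {δ : X → ℤ} {n : ℕ}

namespace Setting

variable (S : Setting p O1 δP δ n) [IsLocallyNoetherian P] [IsLocallyNoetherian X]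

theorem seq_zero (t : ℕ → (ξ : P) → Cyc.secFibre O1 ξ) (m : ℕ) : S.seq t 0 m = 0 := map_zero (S.seqHom t m)

theorem seq_sub (t : ℕ → (ξ : P) → Cyc.secFibre O1 ξ) (a b : AlgebraicCycle X ℤ) (m : ℕ) :
    S.seq t (a - b) m = S.seq t a m - S.seq t b m := map_sub (S.seqHom t m) a b

theorem seq_zsmul (t : ℕ → (ξ : P) → Cyc.secFibre O1 ξ) (c : ℤ) (a : AlgebraicCycle X ℤ) (m : ℕ) :
    S.seq t (c • a) m = c • S.seq t a m := map_zsmul (S.seqHom t m) c a

include S in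
theorem ratEquivZero_pullC {j : ℤ} {α : AlgebraicCycle X ℤ} (h : Cyc.RatEquivZero δ j α) :
    Cyc.RatEquivZero δP (j + n) (S.pullC α) :=
  haveI := S.flat
  haveI := S.lft
  ratEquivZero_pull S.isShift S.hP.2.2 S.hX.2.2 h (S.pullC α) rfl

theorem seq_ratEquivZero (t : ℕ → (ξ : P) → Cyc.secFibre O1 ξ) (ht : ∀ i ξ, t i ξ ≠ 0) {j : ℤ}
    {α : AlgebraicCycle X ℤ} (h : Cyc.RatEquivZero δ j α) (m : ℕ) :
    Cyc.RatEquivZero δP (j + n - m) (S.seq t α m) :=
  capSeq_ratEquivZero S.hP.2.2 S.inv S.hP t ht (S.ratEquivZero_pullC h) m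

/-- Iterated caps do not depend on the sections. -/
theorem seq_indep (t t' : ℕ → (ξ : P) → Cyc.secFibre O1 ξ) (ht : ∀ i ξ, t i ξ ≠ 0) (ht' : ∀ i ξ, t' i ξ ≠ 0)
    {j : ℤ} {α : AlgebraicCycle X ℤ} (hα : α ∈ Cyc.Zk X δ j) :
    ∀ m : ℕ, Cyc.RatEquiv δP (j + n - m) (S.seq t α m) (S.seq t' α m)
  | 0 => by
    show Cyc.RatEquivZero δP _ (S.pullC α - S.pullC α)
    rw [sub_self]
    exact ratEquivZero_zero
  | m + 1 => by
    have h1 : Cyc.RatEquivZero δP (j + n - (m + 1 : ℕ))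
        (c1Cycle S.hP.2.2 S.inv (S.seq t α m - S.seq t' α m) (t m)) := by
      refine c1Cap_ratEquivZero S.hP S.inv ?_ (t m) (ht m) _ rfl
      rw [show j + n - ((m + 1 : ℕ) : ℤ) + 1 = j + n - m by push_cast; ring]
      exact seq_indep t t' ht ht' hα m
    have hd : S.seq t' α m ∈ Cyc.Zk P δP (j + n - (m + 1 : ℕ) + 1) := by
      rw [show j + n - ((m + 1 : ℕ) : ℤ) + 1 = j + n - m by push_cast; ring]
      exact S.seq_mem_Zk t' hα m
    have h2 : Cyc.RatEquiv δP (j + n - (m + 1 : ℕ)) (c1Cycle S.hP.2.2 S.inv (S.seq t' α m) (t m))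
        (S.seq t' α (m + 1)) :=
      ratEquiv_c1Cap S.hP.2.2 S.inv hd (ht' m) (ht m) (γ := S.seq t' α (m + 1))
        (γ' := c1Cycle S.hP.2.2 S.inv (S.seq t' α m) (t m)) rfl rfl
    have h3 : c1Cycle S.hP.2.2 S.inv (S.seq t α m - S.seq t' α m) (t m) +
        c1Cycle S.hP.2.2 S.inv (S.seq t' α m) (t m) = S.seq t α (m + 1) := by
      rw [← c1Cycle_add, sub_add_cancel]
      rfl
    show Cyc.RatEquivZero δP _ (S.seq t α (m + 1) - S.seq t' α (m + 1))
    rw [← h3]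
    convert ratEquivZero_add h1 h2 using 1
    exact add_sub_assoc _ _ _

/-- The relation defining the Chern classes. -/
def relSum (S : Setting p O1 δP δ n) (t : ℕ → (ξ : P) → Cyc.secFibre O1 ξ)
    (γ : Fin (n + 1 + 1) → AlgebraicCycle X ℤ) : AlgebraicCycle P ℤ :=
  ∑ i : Fin (n + 1 + 1), (-1 : ℤ) ^ (i : ℕ) • S.seq t (γ (Fin.rev i)) (i : ℕ)

theorem c1PowFun_eq (t : ℕ → (ξ : P) → Cyc.secFibre O1 ξ) (α : AlgebraicCycle X ℤ) (m : ℕ) :
    Cyc.c1PowFun δP O1 t m (Cyc.pullFun p δP δ n ⇑α) = ⇑(S.seq t α m) :=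
  eq_capSeq S.hP.2.2 S.inv t (S.pullC α) (fun l => Cyc.c1PowFun δP O1 t l (Cyc.pullFun p δP δ n ⇑α)) rfl
    (fun _ => rfl) m

theorem coe_relSum (t : ℕ → (ξ : P) → Cyc.secFibre O1 ξ) (γ : Fin (n + 1 + 1) → AlgebraicCycle X ℤ) (y : P) :
    S.relSum t γ y = ∑ i : Fin (n + 1 + 1),
      (-1 : ℤ) ^ (i : ℕ) * Cyc.c1PowFun δP O1 t i (Cyc.pullFun p δP δ (((n + 1 : ℕ) : ℤ) - 1) ⇑(γ (Fin.rev i))) y := by
  rw [show ((n + 1 : ℕ) : ℤ) - 1 = (n : ℤ) by push_cast; ring, relSum, Function.locallyFinsuppWithin.coe_sum,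
    Finset.sum_apply]
  refine Finset.sum_congr rfl fun i _ => ?_
  rw [S.c1PowFun_eq]
  rfl

/-- A tuple satisfying the relation for one choice of sections is a Chern cap. -/
theorem isChernCap_iff {k : ℤ} {α : AlgebraicCycle X ℤ} {γ : Fin (n + 1 + 1) → AlgebraicCycle X ℤ}
    (t : ℕ → (ξ : P) → Cyc.secFibre O1 ξ) (ht : ∀ i ξ, t i ξ ≠ 0) :
    Cyc.IsChernCap p δ δP O1 (n + 1) k α γ ↔ γ 0 = α ∧ (∀ j : Fin (n + 1 + 1), γ j ∈ Cyc.Zk X δ (k - ((j : ℕ) : ℤ))) ∧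
      Cyc.RatEquivZero δP (k - 1) (S.relSum t γ) := by
  refine ⟨fun h => ⟨h.1, h.2.1, h.2.2 t ht _ (S.coe_relSum t γ)⟩, fun ⟨h0, hd, h⟩ => ⟨h0, hd, fun t' ht' β hβ => ?_⟩⟩
  obtain rfl : β = S.relSum t' γ := by
    ext y
    rw [hβ, S.coe_relSum]
  have hdiff : Cyc.RatEquivZero δP (k - 1) (S.relSum t' γ - S.relSum t γ) := by
    rw [relSum, relSum, ← Finset.sum_sub_distrib]
    refine (ratZero S.hP.2.2 (k - 1)).sum_mem fun i _ => ?_
    rw [← smul_sub]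
    refine ratEquivZero_zsmul S.hP.2.2 ?_ _
    have := S.seq_indep t' t ht' ht (hd (Fin.rev i)) (i : ℕ)
    have e : k - ((Fin.rev i : ℕ) : ℤ) + n - (i : ℕ) = k - 1 := by
      rw [Fin.val_rev]
      omega
    rwa [e] at this
  have := ratEquivZero_add hdiff h
  rwa [sub_add_cancel] at this

include S in
/-- Uniqueness of Chern class caps. -/
theorem chern_unique {k : ℤ} {α α' : AlgebraicCycle X ℤ} (h : Cyc.RatEquiv δ k α α')
    {γ γ' : Fin (n + 1 + 1) → AlgebraicCycle X ℤ} (hγ : Cyc.IsChernCap p δ δP O1 (n + 1) k α γ)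
    (hγ' : Cyc.IsChernCap p δ δP O1 (n + 1) k α' γ') (j : Fin (n + 1 + 1)) :
    Cyc.RatEquiv δ (k - ((j : ℕ) : ℤ)) (γ j) (γ' j) := by
  classical
  obtain ⟨t₀, ht₀⟩ := exists_secs S.inv
  let t : ℕ → (ξ : P) → Cyc.secFibre O1 ξ := fun _ => t₀
  have ht : ∀ i ξ, t i ξ ≠ 0 := fun _ => ht₀
  obtain ⟨h0, hd, hrel⟩ := (S.isChernCap_iff t ht).1 hγ
  obtain ⟨h0', hd', hrel'⟩ := (S.isChernCap_iff t ht).1 hγ'
  obtain rfl | ⟨i, rfl⟩ := j.eq_zero_or_eq_succ
  · rw [h0, h0']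
    simpa using h
  let d : Fin (n + 1) → AlgebraicCycle X ℤ := fun i =>
    (-1 : ℤ) ^ (i : ℕ) • (γ (Fin.rev i.castSucc) - γ' (Fin.rev i.castSucc))
  have hdeg : ∀ i : Fin (n + 1), d i ∈ Cyc.Zk X δ (k - (n + 1) + ((i : ℕ) : ℤ)) := fun i x hx => by
    have e : ((Fin.rev i.castSucc : Fin (n + 1 + 1)) : ℕ) = n + 1 - i := by
      rw [Fin.val_rev, Fin.val_castSucc]; omega
    have hne : δ x ≠ k - (((Fin.rev i.castSucc : Fin (n + 1 + 1)) : ℕ) : ℤ) := by rw [e]; omega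
    show (-1 : ℤ) ^ (i : ℕ) * (γ (Fin.rev i.castSucc) x - γ' (Fin.rev i.castSucc) x) = 0
    rw [hd _ x hne, hd' _ x hne, sub_zero, mul_zero]
  have hlast : Cyc.RatEquivZero δP (k - 1) (S.seq t (γ 0 - γ' 0) (n + 1)) := by
    rw [h0, h0']
    have := S.seq_ratEquivZero t ht h (n + 1)
    rwa [show k + n - ((n + 1 : ℕ) : ℤ) = k - 1 by push_cast; ring] at this
  have hsum : Cyc.RatEquivZero δP (k - (n + 1) + n)
      (Finset.sum (Finset.univ.filter fun i : Fin (n + 1) => (i : ℕ) < n + 1)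
        fun i : Fin (n + 1) => S.seq t (d i) (i : ℕ)) := by
    rw [Finset.filter_true_of_mem fun i _ => i.2, show k - ((n : ℤ) + 1) + n = k - 1 by ring]
    have e : ∑ i : Fin (n + 1), S.seq t (d i) (i : ℕ) = S.relSum t γ - S.relSum t γ' -
        (-1 : ℤ) ^ (n + 1) • S.seq t (γ 0 - γ' 0) (n + 1) := by
      rw [relSum, relSum, Fin.sum_univ_castSucc (n := n + 1), Fin.sum_univ_castSucc (n := n + 1), Fin.rev_last]
      simp only [Fin.val_last, Fin.val_castSucc, S.seq_sub, smul_sub, d, S.seq_zsmul, Finset.sum_sub_distrib]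
      abel
    rw [e]
    exact ratEquivZero_sub S.hP.2.2 (ratEquivZero_sub S.hP.2.2 hrel hrel') (ratEquivZero_zsmul S.hP.2.2 hlast _)
  have hi := S.injective (fun _ => t) (fun _ => ht) (k - (n + 1)) d hdeg (n + 1) le_rfl hsum (Fin.rev i) (Fin.rev i).2
  have e1 : Fin.rev (Fin.rev i).castSucc = i.succ := by
    rw [Fin.rev_castSucc, Fin.rev_rev]
  have e2 : k - ((n : ℤ) + 1) + ((Fin.rev i : ℕ) : ℤ) = k - (((i.succ : Fin (n + 1 + 1)) : ℕ) : ℤ) := by
    rw [Fin.val_rev, Fin.val_succ]; omega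
  rw [e2] at hi
  simp only [d, e1] at hi
  have := ratEquivZero_zsmul S.hX.2.2 hi ((-1 : ℤ) ^ ((Fin.rev i : ℕ)))
  rwa [smul_smul, ← mul_pow, neg_one_mul, neg_neg, one_pow, one_smul] at this

include S in
/-- Existence of Chern class caps. -/
theorem exists_chern {k : ℤ} (α : AlgebraicCycle X ℤ) (hα : α ∈ Cyc.Zk X δ k) :
    ∃ γ : Fin (n + 1 + 1) → AlgebraicCycle X ℤ, Cyc.IsChernCap p δ δP O1 (n + 1) k α γ := by
  classical
  obtain ⟨t₀, ht₀⟩ := exists_secs S.inv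
  let t : ℕ → (ξ : P) → Cyc.secFibre O1 ξ := fun _ => t₀
  have ht : ∀ i ξ, t i ξ ≠ 0 := fun _ => ht₀
  let β := (-1 : ℤ) ^ n • S.seq t α (n + 1)
  have hβ : β ∈ Cyc.Zk P δP (k - (n + 1) + n) := fun w hw => by
    show (-1 : ℤ) ^ n * S.seq t α (n + 1) w = 0
    rw [S.seq_mem_Zk t hα (n + 1) w (by push_cast; omega), mul_zero]
  obtain ⟨a, ha, -, h⟩ := S.surjective (fun _ => t) (fun _ => ht) (k - (n + 1)) (n + 1) le_rfl β hβ fun w hw => by
    have h1 : δP w = k - (n + 1) + n := by_contra fun e => hw (hβ w e)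
    have := (S.delta_le w).1
    push_cast
    omega
  let γ : Fin (n + 1 + 1) → AlgebraicCycle X ℤ :=
    Fin.cons α fun j : Fin (n + 1) => (-1 : ℤ) ^ ((Fin.rev j : ℕ)) • a (Fin.rev j)
  refine ⟨γ, (S.isChernCap_iff t ht).2 ⟨Fin.cons_zero _ _, ?_, ?_⟩⟩
  · refine Fin.cases ?_ fun j x hx => ?_
    · simpa [γ] using hα
    · show (-1 : ℤ) ^ ((Fin.rev j : ℕ)) * a (Fin.rev j) x = 0
      rw [ha (Fin.rev j) x (by rw [Fin.val_succ] at hx; rw [Fin.val_rev]; omega), mul_zero]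
  ·
    have e : S.relSum t γ = ∑ i : Fin (n + 1), S.seq t (a i) (i : ℕ) - β := by
      rw [relSum, Fin.sum_univ_castSucc (n := n + 1), Fin.rev_last]
      simp only [Fin.val_last, Fin.val_castSucc, Fin.rev_castSucc, γ, Fin.cons_succ, Fin.cons_zero, Fin.rev_rev,
        S.seq_zsmul, smul_smul, ← mul_pow, neg_one_mul, neg_neg, one_pow, one_smul, β, pow_succ, mul_neg, mul_one,
        neg_smul]
      abel
    rw [e, show k - 1 = k - ((n : ℤ) + 1) + n by ring]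
    exact ratEquivZero_neg S.hP.2.2 h |> fun h' => by rwa [neg_sub] at h'

end Setting

end PB

end Groth.Agent.CycLib
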