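import Groth.Agent.CycLib.Chern.Roots
import Groth.Agent.CurveLib.TensorExact
import Groth.Agent.CycLib.Chern.Dual

/-! # Operations on filtrations by invertible modules -/

set_option autoImplicit false
set_option backward.isDefEq.respectTransparency false
set_option linter.style.haveILetI false

universe u

open CategoryTheory CategoryTheory.Limits AlgebraicGeometry TopologicalSpace
open Groth.Agent.PullbackMod

noncomputable section

namespace Groth.Agent.CycLib

variable {X : Scheme.{u}}

theorem BotFilt.succ' {m : ℕ} {L : ℕ → X.Modules} {N E F : X.Modules} (hN : L 0 = N) (a : N ⟶ E) (b : E ⟶ F)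
    (hab : a ≫ b = 0) (hex : (ShortComplex.mk a b hab).ShortExact) (hF : BotFilt m (fun i => L (i + 1)) F) :
    BotFilt (m + 1) L E := by
  subst hN
  exact .succ a b hab hex hF

theorem BotFilt.congr {r : ℕ} {L : ℕ → X.Modules} {E : X.Modules} (h : BotFilt r L E) :
    ∀ {L' : ℕ → X.Modules}, (∀ i, i < r → L' i = L i) → BotFilt r L' E := by
  induction h with
  | zero h => exact fun _ => .zero h
  | succ a b hab hex hF ih =>
    intro L' hL
    exact BotFilt.succ' (hL 0 (Nat.succ_pos _)) a b hab hex (ih fun i hi => hL (i + 1) (Nat.succ_lt_succ hi))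

/-- Concatenation of two lists. -/
def cat {T : Type*} (m : ℕ) (B C : ℕ → T) (i : ℕ) : T := if i < m then B i else C (i - m)

theorem cat_zero {T : Type*} (B C : ℕ → T) : cat 0 B C = C := funext fun i => by simp [cat]

theorem cat_shift {T : Type*} (m : ℕ) (B C : ℕ → T) :
    (fun i => cat (m + 1) B C (i + 1)) = cat m (fun i => B (i + 1)) C :=
  funext fun i => by simp [cat]

/-- Filtrations of the ends of an exact sequence give one of the middle. -/
theorem BotFilt.append {m : ℕ} {B : ℕ → X.Modules} {M : X.Modules} (h : BotFilt m B M) :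
    ∀ {n : ℕ} {C : ℕ → X.Modules} {E Q : X.Modules}, BotFilt n C Q → ∀ {a : M ⟶ E} {b : E ⟶ Q} {w : a ≫ b = 0},
      (ShortComplex.mk a b w).ShortExact → BotFilt (m + n) (cat m B C) E := by
  induction h with
  | @zero B M h =>
    intro n C E Q hQ a b w hS
    rw [Nat.zero_add, cat_zero]
    haveI := hS.epi_g
    haveI : Mono b := hS.exact.mono_g (h.eq_of_src _ _)
    haveI : IsIso b := isIso_of_mono_of_epi b
    exact hQ.of_iso (asIso b).symm
  | @succ m B M F a₀ b₀ w₀ hex hF ih =>
    intro n C E Q hQ a b w hS
    obtain ⟨E', π, hπ, i', p', w', hS₁, hS₂⟩ := exists_quot hex hS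
    rw [Nat.add_right_comm]
    have h := ih hQ hS₂
    rw [← cat_shift] at h
    exact BotFilt.succ' (L := cat (m + 1) B C) (if_pos (Nat.succ_pos m)) (a₀ ≫ a) π hπ hS₁ h

/-- The product of two invertible modules with sections. -/
def SecLine.tensor (l m : SecLine X) : SecLine X where
  N := CohB1.tensorMod l.N m.N
  inv := AmpleLib.isInvertible_tensor l.inv m.inv
  sec := (exists_secs (AmpleLib.isInvertible_tensor l.inv m.inv)).choose
  ne := (exists_secs (AmpleLib.isInvertible_tensor l.inv m.inv)).choose_spec

/-- Tensor products with an invertible module. -/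
theorem BotFilt.tensor {r : ℕ} {L : ℕ → X.Modules} {E : X.Modules} (h : BotFilt r L E) {N : X.Modules}
    (hN : PicF.IsInvertible N) : BotFilt r (fun i => CohB1.tensorMod (L i) N) (CohB1.tensorMod E N) := by
  induction h with
  | zero h => exact .zero ((CurveLib.tensR N).map_isZero h)
  | succ a b hab hex hF ih =>
    exact .succ _ _ _ (CurveLib.shortExact_tensR hex (CurveLib.freeAt_one_of_isInvertible hN)) ih

variable [IsLocallyNoetherian X] {δ : X → ℤ}

theorem c1r_tensor (hX : Cyc.IsSetup X δ) (l m : SecLine X) : c1r hX (l.tensor m) = c1r hX l + c1r hX m :=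
  c1r_add hX (Iso.refl _)

theorem chernPoly_cat (hX : Cyc.IsSetup X δ) (m n : ℕ) (B C : ℕ → SecLine X) :
    chernPoly hX (m + n) (cat m B C) = chernPoly hX m B * chernPoly hX n C := by
  rw [chernPoly, Finset.prod_range_add]
  refine congrArg₂ (· * ·) (Finset.prod_congr rfl fun i hi => ?_) (Finset.prod_congr rfl fun i _ => ?_)
  · rw [cat, if_pos (Finset.mem_range.1 hi)]
  · rw [cat, if_neg (by omega), Nat.add_sub_cancel_left]

open Polynomial in
/-- The tensor product of two filtered modules. -/
theorem BotFilt.exists_tensor (hX : Cyc.IsSetup X δ) : ∀ {r : ℕ} {B : ℕ → SecLine X} {E : X.Modules},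
    BotFilt r (fun i => (B i).N) E → ∀ {s : ℕ} {C' : ℕ → SecLine X} {F : X.Modules},
    BotFilt s (fun i => (C' i).N) F → ∃ D : ℕ → SecLine X,
      BotFilt (r * s) (fun i => (D i).N) (CohB1.tensorMod E F) ∧
        chernPoly hX (r * s) D =
          ∏ i ∈ Finset.range r, ∏ l ∈ Finset.range s, (1 + C (c1r hX (B i) + c1r hX (C' l)) * Polynomial.X)
  | 0, B, E, h, s, C', F, hF => by
    refine ⟨B, ?_, by rw [Nat.zero_mul, chernPoly, Finset.range_zero, Finset.prod_empty, Finset.prod_empty]⟩
    rw [Nat.zero_mul]
    cases h with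
    | zero h => exact .zero ((CurveLib.tensR F).map_isZero h)
  | r + 1, B, E, h, s, C', F, hF => by
    generalize hL : (fun i => (B i).N) = L at h
    cases h with
    | @succ _ _ _ E' a b hab hex hE' =>
      subst hL
      obtain ⟨D, hD, hpoly⟩ := BotFilt.exists_tensor hX (B := fun i => B (i + 1)) hE' hF
      have hfree : ∀ x, FreeAt s F x := CurveLib.freeAt_of_isFinLocFreeOfRank (hF.rank fun i => (C' i).inv)
      have hfirst : BotFilt s (fun l => ((C' l).tensor (B 0)).N) (CohB1.tensorMod (B 0).N F) :=
        (hF.tensor (B 0).inv).of_iso (AmpleLib.comm F (B 0).N)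
      refine ⟨cat s (fun l => (C' l).tensor (B 0)) D, ?_, ?_⟩
      · rw [Nat.succ_mul, Nat.add_comm]
        refine (hfirst.append hD (CurveLib.shortExact_tensR hex hfree)).congr fun i _ => ?_
        simp only [cat]
        split_ifs <;> rfl
      · rw [Nat.succ_mul, Nat.add_comm (r * s), chernPoly_cat, hpoly, Finset.prod_range_succ' _ r, mul_comm]
        refine congrArg _ (Finset.prod_congr rfl fun l _ => ?_)
        rw [c1r_tensor, add_comm (c1r hX (C' l))]

open CycLib.Dual in
/-- The dual of a filtered module. -/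
theorem BotFilt.exists_dual (hX : Cyc.IsSetup X δ) : ∀ {r : ℕ} {B : ℕ → SecLine X} {E : X.Modules},
    BotFilt r (fun i => (B i).N) E →
    ∃ D : ℕ → SecLine X, BotFilt r (fun i => (D i).N) (dd E) ∧
      chernPoly hX r D = (chernPoly hX r B).comp (-Polynomial.X)
  | 0, B, E, h => by
    cases h with
    | zero h =>
      exact ⟨B, .zero (isZero_of_rank_zero (rank_dd (rank_zero_of_isZero h))), by simp [chernPoly]⟩
  | r + 1, B, E, h => by
    have hrk : FlatMod.IsFinLocFreeOfRank (r + 1) E := h.rank fun i => (B i).inv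
    generalize hL : (fun i => (B i).N) = L at h
    cases h with
    | @succ _ _ _ E' a b hab hex hE' =>
      subst hL
      obtain ⟨D, hD, hpoly⟩ := BotFilt.exists_dual hX (B := fun i => B (i + 1)) hE'
      have hinv : PicF.IsInvertible (dd (B 0).N) :=
        GrassShLib.isInvertible_iff_rank_one.2 (rank_dd (GrassShLib.isInvertible_iff_rank_one.1 (B 0).inv))
      obtain ⟨s, hs⟩ := exists_secs hinv
      let l : SecLine X := ⟨dd (B 0).N, hinv, s, hs⟩
      have hl : c1r hX l = -c1r hX (B 0) := by
        haveI := isIso_ev_line (B 0).inv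
        have e : CohB1.tensorMod (B 0).N l.N ≅ Coh.structureModule X :=
          AmpleLib.comm _ _ ≪≫ asIso (StalkHomLib.ev (B 0).N (Coh.structureModule X))
        have h1 := c1r_add hX (l := B 0) (m := l) (n := (B 0).tensor l) (Iso.refl _)
        rw [c1r_one hX (l := (B 0).tensor l) e] at h1
        exact eq_neg_of_add_eq_zero_right h1.symm
      obtain ⟨w, hw⟩ := exists_dual_seq hex (GrassShLib.isInvertible_iff_rank_one.1 (B 0).inv) hrk
        (hE'.rank fun i => (B (i + 1)).inv)
      refine ⟨fun i => if i < r then D i else l, ?_, ?_⟩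
      · refine (hD.congr fun i hi => ?_).snoc' ?_ _ _ w hw
        · simp [if_pos hi]
        · simp [l]
      · rw [chernPoly_succ hX r B, Polynomial.mul_comp, ← hpoly, mul_comm, chernPoly, Finset.prod_range_succ, if_neg (lt_irrefl r), hl]
        refine congrArg₂ (· * ·) (Finset.prod_congr rfl fun i hi => by rw [if_pos (Finset.mem_range.1 hi)]) ?_
        simp

end Groth.Agent.CycLib
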