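import Groth.Agent.CycLib.Chern.SubLine
import Groth.Agent.SyzLib.Sheaf
import Groth.Agent.HilbObsLib.Stalk
import Groth.Agent.GrassShLib.Main

/-! # Chern classes of bundles filtered by line bundles -/

set_option autoImplicit false
set_option backward.isDefEq.respectTransparency false
set_option linter.style.haveILetI false

universe u

open CategoryTheory CategoryTheory.Limits AlgebraicGeometry TopologicalSpace
open Groth.Agent.PullbackMod

noncomputable section

namespace Groth.Agent.CycLib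

variable {X : Scheme.{u}}

/-- An extension of locally free modules is locally free. -/
theorem rank_ext [IsLocallyNoetherian X] {A B C : X.Modules} {i : A ⟶ B} {g : B ⟶ C} {w : i ≫ g = 0}
    (hS : (ShortComplex.mk i g w).ShortExact) {a c : ℕ} (hA : FlatMod.IsFinLocFreeOfRank a A)
    (hC : FlatMod.IsFinLocFreeOfRank c C) : FlatMod.IsFinLocFreeOfRank (a + c) B := by
  have hA' : FlatMod.IsFinLocFree A := fun x => ⟨(hA x).choose, a, (hA x).choose_spec⟩
  have hC' : FlatMod.IsFinLocFree C := fun x => ⟨(hC x).choose, c, (hC x).choose_spec⟩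
  obtain ⟨hAq, hAp⟩ := isQCoh_and_isFP_of_isFinLocFree A hA'
  obtain ⟨hCq, hCp⟩ := isQCoh_and_isFP_of_isFinLocFree C hC'
  have hB : Coh.IsCoh B := QCohLib.isCoh_X₂ hS (GrassShLib.isCoh_of_rank hA) (GrassShLib.isCoh_of_rank hC)
  haveI := hB.1
  haveI := hAq
  haveI := hCq
  refine (isFinLocFreeOfRank_iff_freeAt B (QCohLib.isFP_of_isCoh B hB) (a + c)).2 fun x => ?_
  obtain ⟨eA⟩ := (isFinLocFreeOfRank_iff_freeAt A hAp a).1 hA x
  obtain ⟨eC⟩ := (isFinLocFreeOfRank_iff_freeAt C hCp c).1 hC x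
  let R := X.presheaf.stalk x
  haveI : Module.Projective R (C.presheaf.stalk x) := Module.Projective.of_equiv eC.symm
  have hex := SyzLib.exact_stalkLin' _ hS.exact x
  have hinj := (mono_iff_stalk i).1 hS.mono_f x
  have hsurj := (epi_iff_stalk g).1 hS.epi_g x
  obtain ⟨s, hs⟩ := Module.projective_lifting_property (stalkLin g x) LinearMap.id hsurj
  let e := (Function.Exact.splitSurjectiveEquiv hex hinj ⟨s, hs⟩).1
  exact ⟨e ≪≫ₗ LinearEquiv.prodCongr eA eC ≪≫ₗ (LinearEquiv.sumArrowLequivProdArrow (Fin a) (Fin c) R R).symm ≪≫ₗ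
    LinearEquiv.funCongrLeft R R finSumFinEquiv.symm⟩

/-- A filtration by invertible modules, read from the bottom. -/
inductive BotFilt : (r : ℕ) → (ℕ → X.Modules) → X.Modules → Prop
  | zero {L : ℕ → X.Modules} {E : X.Modules} (h : IsZero E) : BotFilt 0 L E
  | succ {m : ℕ} {L : ℕ → X.Modules} {E F : X.Modules} (a : L 0 ⟶ E) (b : E ⟶ F) (hab : a ≫ b = 0)
      (hex : (ShortComplex.mk a b hab).ShortExact) (hF : BotFilt m (fun i => L (i + 1)) F) : BotFilt (m + 1) L E

theorem rank_zero_of_isZero {E : X.Modules} [IsLocallyNoetherian X] (h : IsZero E) :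
    FlatMod.IsFinLocFreeOfRank 0 E := by
  have hk : IsZero (kernel (𝟙 (Coh.structureModule X))) := KernelFork.IsLimit.isZero_of_mono (limit.isLimit _)
  have hO := InvExt.isQCoh_of_isInvertible (ParaFLib.isInvertible_structureModule (X := X))
  have hq : Coh.IsQCoh E :=
    (SheafOfModules.isQuasicoherent X.ringCatSheaf).prop_of_iso (hk.iso h) (QCohLib.isQCoh_image (𝟙 _) hO hO).1
  haveI := hq
  haveI : Mono (h.to_ (Coh.structureModule X)) := ⟨fun u v _ => h.eq_of_tgt u v⟩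
  have hc : Coh.IsCoh E := QCohLib.isCoh_of_mono (h.to_ (Coh.structureModule X))
    (GrassShLib.isCoh_of_rank (GrassShLib.isInvertible_iff_rank_one.1 ParaFLib.isInvertible_structureModule)) hq
  refine (isFinLocFreeOfRank_iff_freeAt E (QCohLib.isFP_of_isCoh E hc) 0).2 fun x => ?_
  haveI : Subsingleton (E.presheaf.stalk x) := ⟨fun z w => by
    have h1 := (eq_zero_iff_stalk (𝟙 E)).1 ((IsZero.iff_id_eq_zero E).1 h) x
    rw [stalkLin_id] at h1
    exact ((LinearMap.congr_fun h1 z).trans rfl).trans (LinearMap.congr_fun h1 w).symm⟩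
  exact ⟨LinearEquiv.ofSubsingleton _ _⟩

theorem BotFilt.rank [IsLocallyNoetherian X] {r : ℕ} {L : ℕ → X.Modules} {E : X.Modules} (h : BotFilt r L E) :
    (∀ i, PicF.IsInvertible (L i)) → FlatMod.IsFinLocFreeOfRank r E := by
  induction h with
  | zero h => exact fun _ => rank_zero_of_isZero h
  | succ a b hab hex hF ih =>
    intro hL
    rw [Nat.add_comm]
    exact rank_ext hex (GrassShLib.isInvertible_iff_rank_one.1 (hL 0)) (ih fun i => hL (i + 1))

/-- The third isomorphism: the quotient by a submodule of a submodule. -/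
theorem exists_quot {L0 M F E C : X.Modules} {a : L0 ⟶ M} {b : M ⟶ F} {hab : a ≫ b = 0}
    (hex : (ShortComplex.mk a b hab).ShortExact) {i : M ⟶ E} {p : E ⟶ C} {w : i ≫ p = 0}
    (hS : (ShortComplex.mk i p w).ShortExact) :
    ∃ (E' : X.Modules) (π : E ⟶ E') (hπ : (a ≫ i) ≫ π = 0) (i' : F ⟶ E') (p' : E' ⟶ C) (w' : i' ≫ p' = 0),
      (ShortComplex.mk (a ≫ i) π hπ).ShortExact ∧ (ShortComplex.mk i' p' w').ShortExact := by
  haveI := hS.mono_f
  haveI := hS.epi_g
  haveI := hex.mono_f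
  haveI := hex.epi_g
  let π := cokernel.π (a ≫ i)
  obtain ⟨i', hi'⟩ : ∃ i' : F ⟶ cokernel (a ≫ i), b ≫ i' = i ≫ π :=
    ⟨_, (CokernelCofork.IsColimit.desc' hex.gIsCokernel (i ≫ π)
      (by rw [← Category.assoc]; exact cokernel.condition _)).2⟩
  let p' : cokernel (a ≫ i) ⟶ C := cokernel.desc (a ≫ i) p (by rw [Category.assoc, w, comp_zero])
  have hp' : π ≫ p' = p := cokernel.π_desc _ _ _
  have w' : i' ≫ p' = 0 := by rw [← cancel_epi b, reassoc_of% hi', hp', w, comp_zero]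
  have hS₁ : (ShortComplex.mk (a ≫ i) π (cokernel.condition _)).ShortExact :=
    ShortComplex.ShortExact.mk' (ShortComplex.exact_cokernel _) inferInstance inferInstance
  refine ⟨_, π, cokernel.condition _, i', p', w', hS₁, ?_⟩
  have nat : ∀ {A B C : X.Modules} (f : A ⟶ B) (g : B ⟶ C) x z, stalkLin (f ≫ g) x z = stalkLin g x (stalkLin f x z) :=
    fun f g x z => by rw [stalkLin_comp]; rfl
  refine ShortComplex.ShortExact.mk' (HilbObsLib.exact_of_stalk fun x y hy => ?_) ?_ ?_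
  · obtain ⟨e, rfl⟩ := (epi_iff_stalk π).1 inferInstance x y
    change stalkLin p' x _ = 0 at hy
    rw [← nat, hp'] at hy
    obtain ⟨z, hz⟩ := ((SyzLib.exact_stalkLin' _ hS.exact x) e).1 hy
    refine ⟨stalkLin b x z, ?_⟩
    show stalkLin i' x _ = _
    rw [← nat, hi', nat]
    exact congrArg _ hz
  · refine (mono_iff_stalk i').2 fun x => ?_
    rw [← LinearMap.ker_eq_bot, eq_bot_iff]
    intro z hz
    obtain ⟨y, rfl⟩ := (epi_iff_stalk b).1 inferInstance x z
    rw [LinearMap.mem_ker, ← nat, hi', nat] at hz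
    obtain ⟨l, hl⟩ := ((SyzLib.exact_stalkLin' _ hS₁.exact x) _).1 hz
    change stalkLin (a ≫ i) x l = stalkLin i x y at hl
    rw [nat] at hl
    rw [← (mono_iff_stalk i).1 inferInstance x hl, ← nat, hab, (eq_zero_iff_stalk (0 : L0 ⟶ F)).1 rfl x]
    exact Submodule.zero_mem _
  · haveI : Epi (π ≫ p') := by rw [hp']; infer_instance
    exact epi_of_epi π p'

/-- A filtration grows at the top. -/
theorem BotFilt.snoc {m : ℕ} {L : ℕ → X.Modules} {M : X.Modules} (h : BotFilt m L M) :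
    ∀ {E : X.Modules} (i : M ⟶ E) (p : E ⟶ L m) (w : i ≫ p = 0), (ShortComplex.mk i p w).ShortExact →
      BotFilt (m + 1) L E := by
  induction h with
  | @zero L M h =>
    intro E i p w hS
    haveI := hS.mono_f
    haveI := hS.epi_g
    haveI : Mono p := hS.exact.mono_g (h.eq_of_src _ _)
    haveI : IsIso p := isIso_of_mono_of_epi p
    refine BotFilt.succ (inv p) (0 : E ⟶ M) comp_zero ?_ (BotFilt.zero h)
    refine ShortComplex.ShortExact.mk' ?_ inferInstance ⟨fun u v _ => h.eq_of_src u v⟩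
    exact (ShortComplex.exact_iff_epi _ rfl).2 inferInstance
  | @succ m L M F a b hab hex hF ih =>
    intro E i p w hS
    obtain ⟨E', π, hπ, i', p', w', hS₁, hS₂⟩ := exists_quot hex hS
    exact BotFilt.succ (a ≫ i) π hπ hS₁ (ih i' p' w' hS₂)

section Esym

variable [IsLocallyNoetherian X] {δ : X → ℤ}

/-- The elementary symmetric operations in the first Chern classes of a list of invertible modules. -/
def esym (hδ : Cyc.IsDimFun X δ) : (r : ℕ) → (L : ℕ → X.Modules) → (∀ i, PicF.IsInvertible (L i)) →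
    ((i : ℕ) → (ξ : X) → Cyc.secFibre (L i) ξ) → ℕ → (AlgebraicCycle X ℤ →+ AlgebraicCycle X ℤ)
  | _, _, _, _, 0 => AddMonoidHom.id _
  | 0, _, _, _, _ + 1 => 0
  | r + 1, L, hL, t, j + 1 => esym hδ r (fun i => L (i + 1)) (fun i => hL (i + 1)) (fun i => t (i + 1)) (j + 1) +
      (PB.c1Hom hδ (hL 0) (t 0)).comp (esym hδ r (fun i => L (i + 1)) (fun i => hL (i + 1)) (fun i => t (i + 1)) j)

variable (hδ : Cyc.IsDimFun X δ)

theorem esym_zero (r : ℕ) (L : ℕ → X.Modules) (hL : ∀ i, PicF.IsInvertible (L i))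
    (t : (i : ℕ) → (ξ : X) → Cyc.secFibre (L i) ξ) : esym hδ r L hL t 0 = AddMonoidHom.id _ := by
  cases r <;> rfl

theorem esym_of_lt : ∀ (r : ℕ) (L : ℕ → X.Modules) (hL : ∀ i, PicF.IsInvertible (L i))
    (t : (i : ℕ) → (ξ : X) → Cyc.secFibre (L i) ξ) (j : ℕ), r < j → esym hδ r L hL t j = 0
  | 0, _, _, _, _ + 1, _ => rfl
  | r + 1, L, hL, t, j + 1, h => by
    rw [esym, esym_of_lt r _ _ _ (j + 1) (by omega), esym_of_lt r _ _ _ j (by omega), zero_add]
    ext a
    exact congrArg (fun c => (c : AlgebraicCycle X ℤ) _) (map_zero (PB.c1Hom hδ (hL 0) (t 0)))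

theorem esym_succ (r : ℕ) (L : ℕ → X.Modules) (hL : ∀ i, PicF.IsInvertible (L i))
    (t : (i : ℕ) → (ξ : X) → Cyc.secFibre (L i) ξ) (j : ℕ) (a : AlgebraicCycle X ℤ) :
    esym hδ (r + 1) L hL t (j + 1) a =
      esym hδ r (fun i => L (i + 1)) (fun i => hL (i + 1)) (fun i => t (i + 1)) (j + 1) a +
        PB.c1Hom hδ (hL 0) (t 0) (esym hδ r (fun i => L (i + 1)) (fun i => hL (i + 1)) (fun i => t (i + 1)) j a) := rfl

/-- The last line bundle can be capped first. -/
theorem esym_last : ∀ (r : ℕ) (L : ℕ → X.Modules) (hL : ∀ i, PicF.IsInvertible (L i))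
    (t : (i : ℕ) → (ξ : X) → Cyc.secFibre (L i) ξ) (j : ℕ) (a : AlgebraicCycle X ℤ),
    esym hδ (r + 1) L hL t (j + 1) a =
      esym hδ r L hL t (j + 1) a + esym hδ r L hL t j (PB.c1Hom hδ (hL r) (t r) a)
  | 0, L, hL, t, j, a => by
    cases j with
    | zero => rfl
    | succ j =>
      show (0 : AlgebraicCycle X ℤ) + PB.c1Hom hδ (hL 0) (t 0) 0 = 0 + 0
      rw [map_zero]
  | r + 1, L, hL, t, j, a => by
    have ih := esym_last r (fun i => L (i + 1)) (fun i => hL (i + 1)) (fun i => t (i + 1))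
    cases j with
    | zero =>
      rw [esym_succ hδ (r + 1) L hL t 0 a, ih, esym_succ hδ r L hL t 0 a]
      simp only [esym_zero, AddMonoidHom.id_apply]
      abel
    | succ j =>
      rw [esym_succ hδ (r + 1) L hL t (j + 1) a, ih, ih, map_add, esym_succ hδ r L hL t (j + 1) a,
        esym_succ hδ r L hL t j (PB.c1Hom hδ (hL (r + 1)) (t (r + 1)) a)]
      abel

theorem esym_mem : ∀ (r : ℕ) (L : ℕ → X.Modules) (hL : ∀ i, PicF.IsInvertible (L i))
    (t : (i : ℕ) → (ξ : X) → Cyc.secFibre (L i) ξ) (j : ℕ) {k : ℤ} {a : AlgebraicCycle X ℤ},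
    a ∈ Cyc.Zk X δ k → esym hδ r L hL t j a ∈ Cyc.Zk X δ (k - j)
  | r, L, hL, t, 0, k, a, ha => by rw [esym_zero, Nat.cast_zero, sub_zero]; exact ha
  | 0, _, _, _, _ + 1, _, _, _ => fun _ _ => rfl
  | r + 1, L, hL, t, j + 1, k, a, ha => fun x hx => by
    show esym hδ r _ _ _ (j + 1) a x + c1Cycle hδ (hL 0) (esym hδ r _ _ _ j a) (t 0) x = 0
    rw [esym_mem r _ _ _ (j + 1) ha x hx, PB.c1Cycle_mem_Zk hδ (hL 0) _ (esym_mem r _ _ _ j ha) x
      (by push_cast at hx; omega), add_zero]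

end Esym

/-- Chern classes of a module filtered by invertible modules. -/
theorem chern_of_botFilt [IsLocallyNoetherian X] {δ : X → ℤ} (hX : Cyc.IsSetup X δ) {r : ℕ} {L : ℕ → X.Modules}
    {E : X.Modules} (h : BotFilt r L E) : ∀ (hL : ∀ i, PicF.IsInvertible (L i))
    (t : (i : ℕ) → (ξ : X) → Cyc.secFibre (L i) ξ), (∀ i ξ, t i ξ ≠ 0) →
    ∀ {P : Scheme.{u}} {p : P ⟶ X} {O1 : P.Modules} {q : (Scheme.Modules.pullback p).obj E ⟶ O1}
      (_ : KRR.IsProjBundle p E O1 q) [IsProper p] {δP : P → ℤ}, Cyc.IsSetup P δP → Cyc.DeltaCompat p δP δ →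
    ∀ {k : ℤ} {α : AlgebraicCycle X ℤ}, α ∈ Cyc.Zk X δ k →
      Cyc.IsChernCap p δ δP O1 r k α fun j => esym hX.2.2 r L hL t (j : ℕ) α := by
  induction h with
  | @zero L E h =>
    intro hL t ht P p O1 q hP _ δP hPs hδ k α hα
    haveI : IsEmpty P := ⟨fun y => by
      have hG := Grass.IsGrass.of_isProjBundle hP
      haveI := hG.epi
      haveI : (Scheme.Modules.pullback p).IsLeftAdjoint :=
        (Scheme.Modules.pullbackPushforwardAdjunction p).isLeftAdjoint
      have hz : IsZero ((Scheme.Modules.pullback p).obj E) := (Scheme.Modules.pullback p).map_isZero h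
      obtain ⟨g, hg⟩ := ParaFLib.exists_stalk_gen (GrassShLib.isInvertible_iff_rank_one.2 hG.rank) y
      obtain ⟨z, rfl⟩ := (epi_iff_stalk q).1 hG.epi y g
      have h1 := (eq_zero_iff_stalk q).1 (hz.eq_of_src q 0) y
      rw [h1, LinearMap.zero_apply] at hg
      exact one_ne_zero (hg.1 (show (1 : P.presheaf.stalk y) • (0 : O1.presheaf.stalk y) = 0 • 0 by simp))⟩
    refine ⟨rfl, fun j => ?_, fun _ _ β _ => ?_⟩
    · exact esym_mem hX.2.2 0 L hL t j hα
    · rw [show β = 0 from DFunLike.ext _ _ fun y => isEmptyElim y]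
      exact ratEquivZero_zero
  | @succ m L E F a b hab hex hF ih =>
    intro hL t ht P p O1 q hP _ δP hPs hδ k α hα
    haveI := hPs.1
    have hEr : FlatMod.IsFinLocFreeOfRank (m + 1) E := (BotFilt.succ a b hab hex hF).rank hL
    have hFr : FlatMod.IsFinLocFreeOfRank m F := hF.rank fun i => hL (i + 1)
    haveI : Coh.IsQCoh F := (GrassShLib.isCoh_of_rank hFr).1
    obtain ⟨Q, p', O1', q', hG'⟩ := GrassShLib.exists_isGrass F (GrassShLib.isCoh_of_rank hFr) 1
    haveI : IsProper p' := GrassShLib.isProper_grass hG' (GrassShLib.isCoh_of_rank hFr).2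
    obtain ⟨δQ, hδQ⟩ := exists_deltaCompat p' δ
    have hQs := isSetup_of_lft p' hX hδQ
    have hγ' := ih (fun i => hL (i + 1)) (fun i => t (i + 1)) (fun i => ht (i + 1)) hG'.isProjBundle hQs hδQ hα
    have h := chern_of_sub_line hX hEr hP hPs hδ hFr hG'.isProjBundle hQs hδQ (hL 0) hab hex hα hγ' (ht 0)
    convert h using 1
    funext j
    refine Fin.cases ?_ (fun j => ?_) j
    · rw [PB.Setting.subTuple, Fin.cons_zero, Fin.val_zero, esym_zero]
      rfl
    · rw [PB.Setting.subTuple, Fin.cons_succ, Fin.val_succ]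
      show esym hX.2.2 m _ _ _ ((j : ℕ) + 1) α + c1Cycle hX.2.2 (hL 0) (esym hX.2.2 m _ _ _ (j : ℕ) α) (t 0) = _
      split_ifs with hj
      · rfl
      · rw [esym_of_lt hX.2.2 m _ _ _ _ (by omega)]
        rfl

/-- Symmetric operations commute with first Chern classes. -/
theorem esym_comm [IsLocallyNoetherian X] {δ : X → ℤ} (hX : Cyc.IsSetup X δ) {N : X.Modules}
    (hN : PicF.IsInvertible N) {v : (ξ : X) → Cyc.secFibre N ξ} (hv : ∀ ξ, v ξ ≠ 0) :
    ∀ (r : ℕ) (L : ℕ → X.Modules) (hL : ∀ i, PicF.IsInvertible (L i)) (t : (i : ℕ) → (ξ : X) → Cyc.secFibre (L i) ξ),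
      (∀ i ξ, t i ξ ≠ 0) → ∀ (j : ℕ) {k : ℤ} {a : AlgebraicCycle X ℤ}, a ∈ Cyc.Zk X δ k →
      Cyc.RatEquiv δ (k - j - 1) (c1Cycle hX.2.2 hN (esym hX.2.2 r L hL t j a) v)
        (esym hX.2.2 r L hL t j (c1Cycle hX.2.2 hN a v))
  | r, L, hL, t, _, 0, k, a, _ => by
    show Cyc.RatEquivZero δ _ (_ - _)
    rw [esym_zero, AddMonoidHom.id_apply, AddMonoidHom.id_apply, sub_self]
    exact ratEquivZero_zero
  | 0, L, hL, t, _, _ + 1, k, a, _ => by
    show Cyc.RatEquivZero δ _ (PB.c1Hom hX.2.2 hN v 0 - 0)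
    rw [map_zero, sub_zero]
    exact ratEquivZero_zero
  | r + 1, L, hL, t, ht, j + 1, k, a, ha => by
    have h1 := esym_comm hX hN hv r (fun i => L (i + 1)) (fun i => hL (i + 1)) (fun i => t (i + 1))
      (fun i => ht (i + 1)) (j + 1) ha
    have h2 := esym_comm hX hN hv r (fun i => L (i + 1)) (fun i => hL (i + 1)) (fun i => t (i + 1))
      (fun i => ht (i + 1)) j ha
    have h3 := PB.ratEquiv_c1Cycle hX.2.2 (hL 0) hX (t 0) (ht 0) h2
    have h4 := esym_mem hX.2.2 r (fun i => L (i + 1)) (fun i => hL (i + 1)) (fun i => t (i + 1)) j ha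
    have h5 := c1Cap_comm hX hN (hL 0) _ (k := k - j - 1 - 1) (by rw [show k - (j : ℤ) - 1 - 1 + 2 = k - j by ring]; exact h4)
      v v (t 0) (t 0) hv hv (ht 0) (ht 0)
      (c1Cycle hX.2.2 hN (PB.c1Hom hX.2.2 (hL 0) (t 0) (esym hX.2.2 r _ _ _ j a)) v)
      (c1Cycle hX.2.2 (hL 0) (c1Cycle hX.2.2 hN (esym hX.2.2 r _ _ _ j a) v) (t 0)) rfl rfl
    have h6 := ratEquivZero_add h5 h3
    rw [sub_add_sub_cancel, show k - (j : ℤ) - 1 - 1 = k - ((j + 1 : ℕ) : ℤ) - 1 by push_cast; ring] at h6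
    show Cyc.RatEquivZero δ _ (PB.c1Hom hX.2.2 hN v (esym hX.2.2 (r + 1) L hL t (j + 1) a) - _)
    rw [esym_succ, esym_succ, map_add, add_sub_add_comm]
    exact ratEquivZero_add h1 h6

theorem BotFilt.of_iso {r : ℕ} {L : ℕ → X.Modules} {M E : X.Modules} (h : BotFilt r L M) (e : M ≅ E) :
    BotFilt r L E := by
  cases h with
  | zero h => exact .zero (h.of_iso e.symm)
  | @succ m _ _ F a b hab hex hF =>
    have w : (a ≫ e.hom) ≫ e.inv ≫ b = 0 := by simp [hab]
    let φ : ShortComplex.mk a b hab ≅ ShortComplex.mk (a ≫ e.hom) (e.inv ≫ b) w :=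
      ShortComplex.isoMk (Iso.refl _) e (Iso.refl _) (by simp) (by simp)
    exact .succ (a ≫ e.hom) (e.inv ≫ b) w (ShortComplex.shortExact_of_iso φ hex) hF

theorem BotFilt.snoc' {m : ℕ} {L : ℕ → X.Modules} {M E N : X.Modules} (h : BotFilt m L M) (hN : L m = N) (i : M ⟶ E)
    (p : E ⟶ N) (w : i ≫ p = 0) (hS : (ShortComplex.mk i p w).ShortExact) : BotFilt (m + 1) L E := by
  subst hN
  exact h.snoc i p w hS

/-- An invertible module with rational sections. -/
structure SecLine (X : Scheme.{u}) where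
  /-- the module -/
  N : X.Modules
  inv : PicF.IsInvertible N
  /-- the sections -/
  sec : (ξ : X) → Cyc.secFibre N ξ
  ne : ∀ ξ, sec ξ ≠ 0

end Groth.Agent.CycLib
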