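import Groth.Agent.CycLib.Chern.Filt
import Groth.Agent.S6454
import Mathlib.Algebra.Ring.Subring.Basic

/-! # The ring of first Chern classes -/

set_option autoImplicit false
set_option backward.isDefEq.respectTransparency false
set_option linter.style.haveILetI false

universe u

open CategoryTheory CategoryTheory.Limits AlgebraicGeometry TopologicalSpace
open Groth.Agent.PullbackMod

noncomputable section

namespace Groth.Agent.CycLib

variable {X : Scheme.{u}} {δ : X → ℤ}

open scoped Classical in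
/-- The part of degree `k` of a cycle. -/
def degPart (δ : X → ℤ) (k : ℤ) : AlgebraicCycle X ℤ →+ AlgebraicCycle X ℤ :=
  AddMonoidHom.mk'
    (fun a =>
      { toFun := fun x => if δ x = k then a x else 0
        supportWithinDomain' := Set.subset_univ _
        supportLocallyFiniteWithinDomain' := fun z hz => by
          obtain ⟨t, ht, hfin⟩ := a.supportLocallyFiniteWithinDomain' z hz
          exact ⟨t, ht, hfin.subset fun x hx => ⟨hx.1, fun e => hx.2 (by
            show (if δ x = k then a x else 0) = 0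
            rw [show a x = 0 from e, ite_self])⟩⟩ })
    fun a b => by
      ext x
      show (if δ x = k then a x + b x else 0) = (if δ x = k then a x else 0) + if δ x = k then b x else 0
      split_ifs <;> simp

open scoped Classical in
theorem degPart_apply (k : ℤ) (a : AlgebraicCycle X ℤ) (x : X) : degPart δ k a x = if δ x = k then a x else 0 := rfl

theorem degPart_mem (k : ℤ) (a : AlgebraicCycle X ℤ) : degPart δ k a ∈ Cyc.Zk X δ k := fun x hx => by
  rw [degPart_apply, if_neg hx]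

theorem degPart_self {k : ℤ} {a : AlgebraicCycle X ℤ} (ha : a ∈ Cyc.Zk X δ k) : degPart δ k a = a := by
  ext x
  rw [degPart_apply]
  split_ifs with h
  · rfl
  · exact (ha x h).symm

theorem degPart_of_ne {k m : ℤ} {a : AlgebraicCycle X ℤ} (ha : a ∈ Cyc.Zk X δ m) (h : k ≠ m) : degPart δ k a = 0 := by
  ext x
  rw [degPart_apply]
  split_ifs with hx
  · rw [ha x (hx ▸ h)]
    rfl
  · rfl

theorem mem_Zk_of_ratEquivZero {k : ℤ} {a : AlgebraicCycle X ℤ} (h : Cyc.RatEquivZero δ k a) : a ∈ Cyc.Zk X δ k := by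
  obtain ⟨ι, ξ, f, hξ, -, -, he⟩ := h
  intro x hx
  rw [he x]
  refine finsum_eq_zero_of_forall_eq_zero fun i => ?_
  rw [Cyc.divFun, dif_neg]
  rintro ⟨-, hd⟩
  exact hx (by have := hξ i; omega)

variable [IsLocallyNoetherian X]

/-- The cycles rationally equivalent to zero in every degree. -/
def ratAll (hX : Cyc.IsSetup X δ) : AddSubgroup (AlgebraicCycle X ℤ) :=
  ⨅ k : ℤ, (ratZero hX.2.2 k).comap (degPart δ k)

theorem mem_ratAll (hX : Cyc.IsSetup X δ) {a : AlgebraicCycle X ℤ} :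
    a ∈ ratAll hX ↔ ∀ k, Cyc.RatEquivZero δ k (degPart δ k a) := by
  rw [ratAll, AddSubgroup.mem_iInf]
  rfl

/-- Cycles modulo rational equivalence, in all degrees. -/
abbrev Chow (hX : Cyc.IsSetup X δ) : Type u := AlgebraicCycle X ℤ ⧸ ratAll hX

/-- The class of a cycle. -/
abbrev cls (hX : Cyc.IsSetup X δ) : AlgebraicCycle X ℤ →+ Chow hX := QuotientAddGroup.mk' (ratAll hX)

theorem cls_eq_of_ratEquiv (hX : Cyc.IsSetup X δ) {k : ℤ} {a b : AlgebraicCycle X ℤ} (h : Cyc.RatEquiv δ k a b) :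
    cls hX a = cls hX b := by
  refine (QuotientAddGroup.eq_iff_sub_mem).2 ((mem_ratAll hX).2 fun m => ?_)
  rcases eq_or_ne m k with rfl | hm
  · rw [degPart_self (mem_Zk_of_ratEquivZero h)]
    exact h
  · rw [degPart_of_ne (mem_Zk_of_ratEquivZero h) hm]
    exact ratEquivZero_zero

theorem ratEquiv_of_cls_eq (hX : Cyc.IsSetup X δ) {k : ℤ} {a b : AlgebraicCycle X ℤ} (ha : a ∈ Cyc.Zk X δ k)
    (hb : b ∈ Cyc.Zk X δ k) (h : cls hX a = cls hX b) : Cyc.RatEquiv δ k a b := by
  have h1 := (mem_ratAll hX).1 (QuotientAddGroup.eq_iff_sub_mem.1 h) k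
  rwa [map_sub, degPart_self ha, degPart_self hb] at h1

theorem degPart_c1 (hδ : Cyc.IsDimFun X δ) (l : SecLine X) (k : ℤ) (a : AlgebraicCycle X ℤ) :
    degPart δ k (PB.c1Hom hδ l.inv l.sec a) = PB.c1Hom hδ l.inv l.sec (degPart δ (k + 1) a) := by
  ext x
  rw [degPart_apply]
  split_ifs with hx
  · show Cyc.c1CapFun δ l.N ⇑a l.sec x = Cyc.c1CapFun δ l.N ⇑(degPart δ (k + 1) a) l.sec x
    refine finsum_congr fun ξ => ?_
    by_cases hξ : Cyc.secDivFun δ l.N ξ (l.sec ξ) x = 0
    · rw [hξ, mul_zero, mul_zero]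
    · have hd := (specializes_of_secDivFun_ne_zero hξ).2
      rw [degPart_apply, if_pos (by omega)]
  · exact (c1CapFun_eq_zero_of_ne (k := k) (fun ξ hξ => degPart_mem _ _ ξ hξ) l.sec hx).symm

/-- A first Chern class as an operator. -/
def c1Op (hX : Cyc.IsSetup X δ) (l : SecLine X) : AddMonoid.End (Chow hX) :=
  QuotientAddGroup.map _ _ (PB.c1Hom hX.2.2 l.inv l.sec) fun a ha => (mem_ratAll hX).2 fun k => by
    rw [degPart_c1]
    exact c1Cap_ratEquivZero hX l.inv ((mem_ratAll hX).1 ha (k + 1)) l.sec l.ne _ rfl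

theorem c1Op_cls (hX : Cyc.IsSetup X δ) (l : SecLine X) (a : AlgebraicCycle X ℤ) :
    c1Op hX l (cls hX a) = cls hX (PB.c1Hom hX.2.2 l.inv l.sec a) := rfl

/-- Operators agree when they agree on the classes of homogeneous cycles. -/
theorem cls_ext (hX : Cyc.IsSetup X δ) {a b : AlgebraicCycle X ℤ}
    (h : ∀ k, Cyc.RatEquiv δ k (degPart δ k a) (degPart δ k b)) : cls hX a = cls hX b :=
  QuotientAddGroup.eq_iff_sub_mem.2 ((mem_ratAll hX).2 fun k => by rw [map_sub]; exact h k)

theorem c1Op_comm (hX : Cyc.IsSetup X δ) (l m : SecLine X) : c1Op hX l * c1Op hX m = c1Op hX m * c1Op hX l := by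
  ext v
  obtain ⟨a, rfl⟩ := QuotientAddGroup.mk'_surjective (ratAll hX) v
  refine cls_ext hX fun k => ?_
  rw [degPart_c1, degPart_c1, degPart_c1, degPart_c1]
  exact c1Cap_comm hX l.inv m.inv _ (k := k) (by rw [show k + 2 = k + 1 + 1 by ring]; exact degPart_mem _ _)
    l.sec l.sec m.sec m.sec l.ne l.ne m.ne m.ne _ _ rfl rfl

/-- The generators of the ring of first Chern classes. -/
abbrev c1Set (hX : Cyc.IsSetup X δ) : Set (AddMonoid.End (Chow hX)) := Set.range (c1Op hX)

/-- The ring of first Chern classes. -/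
abbrev C1Ring (hX : Cyc.IsSetup X δ) : Type u := Subring.closure (c1Set hX)

instance (hX : Cyc.IsSetup X δ) : CommRing (C1Ring hX) :=
  Subring.closureCommRingOfComm (by rintro _ ⟨l, rfl⟩ _ ⟨m, rfl⟩; exact c1Op_comm hX l m)

/-- A first Chern class. -/
def c1r (hX : Cyc.IsSetup X δ) (l : SecLine X) : C1Ring hX := ⟨c1Op hX l, Subring.subset_closure ⟨l, rfl⟩⟩

/-- The action of the ring on classes. -/
def act (hX : Cyc.IsSetup X δ) : C1Ring hX →+* AddMonoid.End (Chow hX) := (Subring.closure (c1Set hX)).subtype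

theorem act_c1r (hX : Cyc.IsSetup X δ) (l : SecLine X) (a : AlgebraicCycle X ℤ) :
    act hX (c1r hX l) (cls hX a) = cls hX (PB.c1Hom hX.2.2 l.inv l.sec a) := rfl

theorem c1r_eq_of_ratEquiv (hX : Cyc.IsSetup X δ) {l m : SecLine X}
    (h : ∀ (k : ℤ) (a : AlgebraicCycle X ℤ), a ∈ Cyc.Zk X δ (k + 1) →
      Cyc.RatEquiv δ k (PB.c1Hom hX.2.2 l.inv l.sec a) (PB.c1Hom hX.2.2 m.inv m.sec a)) : c1r hX l = c1r hX m := by
  refine Subtype.ext (AddMonoidHom.ext fun v => ?_)
  obtain ⟨a, rfl⟩ := QuotientAddGroup.mk'_surjective (ratAll hX) v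
  refine cls_ext hX fun k => ?_
  rw [degPart_c1, degPart_c1]
  exact h k _ (degPart_mem _ _)

/-- First Chern classes depend only on the isomorphism class. -/
theorem c1r_congr (hX : Cyc.IsSetup X δ) {l m : SecLine X} (e : l.N ≅ m.N) : c1r hX l = c1r hX m := by
  refine c1r_eq_of_ratEquiv hX fun k a ha => ?_
  have hs : ∀ ξ, fibMap e.hom ξ (l.sec ξ) ≠ 0 := fun ξ => fibMap_ne_zero l.inv e (l.ne ξ)
  have he : PB.c1Hom hX.2.2 m.inv (fun ξ => fibMap e.hom ξ (l.sec ξ)) a = PB.c1Hom hX.2.2 l.inv l.sec a := by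
    ext x
    exact congrFun (c1CapFun_iso hX.2.2 l.inv e ⇑a l.sec) x
  rw [← he]
  exact ratEquiv_c1Cap hX.2.2 m.inv ha m.ne hs rfl rfl

/-- First Chern classes are additive. -/
theorem c1r_add (hX : Cyc.IsSetup X δ) {l m n : SecLine X} (e : n.N ≅ CohB1.tensorMod l.N m.N) :
    c1r hX n = c1r hX l + c1r hX m := by
  have hn : PicF.IsInvertible (CohB1.tensorMod l.N m.N) := AmpleLib.isInvertible_tensor l.inv m.inv
  obtain ⟨s, hs⟩ := exists_secs hn
  rw [c1r_congr hX (m := ⟨_, hn, s, hs⟩) e]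
  refine Subtype.ext (AddMonoidHom.ext fun v => ?_)
  obtain ⟨a, rfl⟩ := QuotientAddGroup.mk'_surjective (ratAll hX) v
  show cls hX (PB.c1Hom hX.2.2 hn s a) = cls hX (PB.c1Hom hX.2.2 l.inv l.sec a) + cls hX (PB.c1Hom hX.2.2 m.inv m.sec a)
  rw [← map_add]
  refine (cls_ext hX fun k => ?_).symm
  rw [map_add, degPart_c1 hX.2.2 ⟨_, hn, s, hs⟩, degPart_c1, degPart_c1]
  exact S6454.result X δ hX l.N m.N l.inv m.inv k _ (degPart_mem _ _) l.sec l.ne m.sec m.ne s hs _ _ _ rfl rfl rfl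

/-- The first Chern class of the trivial line bundle vanishes. -/
theorem c1r_one (hX : Cyc.IsSetup X δ) {l : SecLine X} (e : l.N ≅ Coh.structureModule X) : c1r hX l = 0 := by
  have h := c1r_add hX (l := l) (m := l) (n := l)
    ((AmpleLib.unitR l.N).symm ≪≫ AmpleLib.tIso (Iso.refl _) e.symm)
  exact left_eq_add.1 h

end Groth.Agent.CycLib
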