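import Groth.Agent.CycLib.Chern.Bundle

/-! # Whitney formula -/

set_option autoImplicit false
set_option backward.isDefEq.respectTransparency false
set_option linter.style.haveILetI false

universe u

open CategoryTheory CategoryTheory.Limits AlgebraicGeometry TopologicalSpace
open Groth.Agent.PullbackMod

noncomputable section

namespace Groth.Agent.CycLib

variable {X : Scheme.{u}}

/-- A tuple as a sequence. -/
def tot {r : ℕ} (γ : Fin (r + 1) → AlgebraicCycle X ℤ) (i : ℕ) : AlgebraicCycle X ℤ :=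
  if h : i ≤ r then γ ⟨i, Nat.lt_succ_of_le h⟩ else 0

theorem tot_val {r : ℕ} (γ : Fin (r + 1) → AlgebraicCycle X ℤ) (i : Fin (r + 1)) : tot γ i = γ i :=
  dif_pos (Nat.le_of_lt_succ i.2)

theorem tot_of_lt {r : ℕ} (γ : Fin (r + 1) → AlgebraicCycle X ℤ) {i : ℕ} (h : r < i) : tot γ i = 0 :=
  dif_neg (by omega)

/-- The product of the symmetric operations of a list of invertible modules and a tuple. -/
def whit [IsLocallyNoetherian X] {δ : X → ℤ} (hδ : Cyc.IsDimFun X δ) (r₁ : ℕ) (L : ℕ → X.Modules)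
    (hL : ∀ i, PicF.IsInvertible (L i)) (t : (i : ℕ) → (ξ : X) → Cyc.secFibre (L i) ξ)
    (g : ℕ → AlgebraicCycle X ℤ) (j : ℕ) : AlgebraicCycle X ℤ :=
  ∑ x ∈ Finset.HasAntidiagonal.antidiagonal j, esym hδ r₁ L hL t x.1 (g x.2)

section

variable [IsLocallyNoetherian X] {δ : X → ℤ} (hδ : Cyc.IsDimFun X δ) (L : ℕ → X.Modules)
  (hL : ∀ i, PicF.IsInvertible (L i)) (t : (i : ℕ) → (ξ : X) → Cyc.secFibre (L i) ξ)

theorem whit_zero_index (r₁ : ℕ) (g : ℕ → AlgebraicCycle X ℤ) : whit hδ r₁ L hL t g 0 = g 0 := by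
  rw [whit, Finset.Nat.antidiagonal_zero, Finset.sum_singleton, esym_zero]
  rfl

theorem whit_zero_rank (g : ℕ → AlgebraicCycle X ℤ) : ∀ j, whit hδ 0 L hL t g j = g j
  | 0 => whit_zero_index hδ L hL t 0 g
  | j + 1 => by
    rw [whit, Finset.Nat.sum_antidiagonal_succ, esym_zero]
    simp only [esym_of_lt hδ 0 L hL t _ (Nat.succ_pos _), AddMonoidHom.zero_apply, Finset.sum_const_zero, add_zero,
      AddMonoidHom.id_apply]

theorem whit_of_lt {r₁ r₂ : ℕ} (g : ℕ → AlgebraicCycle X ℤ) (hg : ∀ i, r₂ < i → g i = 0) {j : ℕ} (hj : r₁ + r₂ < j) :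
    whit hδ r₁ L hL t g j = 0 := by
  refine Finset.sum_eq_zero fun x hx => ?_
  rw [Finset.HasAntidiagonal.mem_antidiagonal] at hx
  by_cases h : r₂ < x.2
  · rw [hg _ h, map_zero]
  · rw [esym_of_lt hδ r₁ L hL t x.1 (by omega)]
    rfl

theorem whit_succ (m : ℕ) (g : ℕ → AlgebraicCycle X ℤ) (j : ℕ) :
    whit hδ (m + 1) L hL t g (j + 1) =
      whit hδ m (fun i => L (i + 1)) (fun i => hL (i + 1)) (fun i => t (i + 1)) g (j + 1) +
        PB.c1Hom hδ (hL 0) (t 0) (whit hδ m (fun i => L (i + 1)) (fun i => hL (i + 1)) (fun i => t (i + 1)) g j) := by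
  simp only [whit]
  rw [Finset.Nat.sum_antidiagonal_succ, Finset.Nat.sum_antidiagonal_succ, map_sum, esym_zero, esym_zero, add_assoc,
    ← Finset.sum_add_distrib]
  exact congrArg _ (Finset.sum_congr rfl fun x _ => esym_succ hδ m L hL t x.1 _)

end

/-- Whitney formula with a filtered submodule. -/
theorem chern_whit [IsLocallyNoetherian X] {δ : X → ℤ} (hX : Cyc.IsSetup X δ) {r₁ : ℕ} {L : ℕ → X.Modules}
    {E₁ : X.Modules} (h : BotFilt r₁ L E₁) : ∀ (hL : ∀ i, PicF.IsInvertible (L i))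
    (t : (i : ℕ) → (ξ : X) → Cyc.secFibre (L i) ξ), (∀ i ξ, t i ξ ≠ 0) →
    ∀ {r r₂ : ℕ} (_ : r = r₁ + r₂) {E E₂ : X.Modules} {a : E₁ ⟶ E} {b : E ⟶ E₂} {hab : a ≫ b = 0}
      (_ : (ShortComplex.mk a b hab).ShortExact) (_ : FlatMod.IsFinLocFreeOfRank r₂ E₂)
      {P : Scheme.{u}} {p : P ⟶ X} {O1 : P.Modules} {q : (Scheme.Modules.pullback p).obj E ⟶ O1}
      (_ : KRR.IsProjBundle p E O1 q) [IsProper p] {δP : P → ℤ}, Cyc.IsSetup P δP → Cyc.DeltaCompat p δP δ →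
    ∀ {Q : Scheme.{u}} {p₂ : Q ⟶ X} {O₂ : Q.Modules} {q₂ : (Scheme.Modules.pullback p₂).obj E₂ ⟶ O₂}
      (_ : KRR.IsProjBundle p₂ E₂ O₂ q₂) [IsProper p₂] {δQ : Q → ℤ}, Cyc.IsSetup Q δQ → Cyc.DeltaCompat p₂ δQ δ →
    ∀ {k : ℤ} {α : AlgebraicCycle X ℤ} {γ₂ : Fin (r₂ + 1) → AlgebraicCycle X ℤ},
      Cyc.IsChernCap p₂ δ δQ O₂ r₂ k α γ₂ →
      Cyc.IsChernCap p δ δP O1 r k α fun j => whit hX.2.2 r₁ L hL t (tot γ₂) (j : ℕ) := by
  induction h with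
  | @zero L E₁ hz =>
    intro hL t ht r r₂ hr E E₂ a b hab hex hE₂ P p O1 q hP _ δP hPs hδ Q p₂ O₂ q₂ hQ _ δQ hQs hδQ k α γ₂ hγ₂
    obtain rfl : r = r₂ := by omega
    have hEr : FlatMod.IsFinLocFreeOfRank r E := by
      have := rank_ext hex (rank_zero_of_isZero hz) hE₂
      rwa [Nat.zero_add] at this
    have := chern_iso hX hEr hE₂ hz hex hP hPs hδ hQ hQs hδQ hγ₂
    simpa only [whit_zero_rank, tot_val] using this
  | @succ m L E₁ F₁ a₀ b₀ hab₀ hex₀ hF₁ ih =>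
    intro hL t ht r r₂ hr E E₂ a b hab hex hE₂ P p O1 q hP _ δP hPs hδ Q p₂ O₂ q₂ hQ _ δQ hQs hδQ k α γ₂ hγ₂
    obtain rfl : r = m + r₂ + 1 := by omega
    haveI := hPs.1
    have hEr : FlatMod.IsFinLocFreeOfRank (m + r₂ + 1) E := by
      have := rank_ext hex ((BotFilt.succ a₀ b₀ hab₀ hex₀ hF₁).rank hL) hE₂
      rwa [Nat.add_right_comm] at this
    obtain ⟨E', π, hπ, i', p', w', hS₁, hS₂⟩ := exists_quot hex₀ hex
    have hE' : FlatMod.IsFinLocFreeOfRank (m + r₂) E' := rank_ext hS₂ (hF₁.rank fun i => hL (i + 1)) hE₂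
    haveI : Coh.IsQCoh E' := (GrassShLib.isCoh_of_rank hE').1
    obtain ⟨G, ψ, O', q', hG⟩ := GrassShLib.exists_isGrass E' (GrassShLib.isCoh_of_rank hE') 1
    haveI : IsProper ψ := GrassShLib.isProper_grass hG (GrassShLib.isCoh_of_rank hE').2
    obtain ⟨δG, hδG⟩ := exists_deltaCompat ψ δ
    have hGs := isSetup_of_lft ψ hX hδG
    have hih := ih (fun i => hL (i + 1)) (fun i => t (i + 1)) (fun i => ht (i + 1)) rfl hS₂ hE₂ hG.isProjBundle hGs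
      hδG hQ hQs hδQ hγ₂
    have hα : α ∈ Cyc.Zk X δ k := fun x hx => by
      rw [← hγ₂.1]
      exact hγ₂.2.1 0 x (by simpa using hx)
    have hmain := chern_of_sub_line hX hEr hP hPs hδ hE' hG.isProjBundle hGs hδG (hL 0) hπ hS₁ hα hih (ht 0)
    convert hmain using 1
    funext j
    refine Fin.cases ?_ (fun j => ?_) j
    · rw [PB.Setting.subTuple, Fin.cons_zero, Fin.val_zero, whit_zero_index]
      exact (dif_pos (Nat.zero_le _)).trans hγ₂.1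
    · rw [PB.Setting.subTuple, Fin.cons_succ, Fin.val_succ, whit_succ]
      show _ = (if h : (j : ℕ) + 1 ≤ m + r₂ then whit hX.2.2 m (fun i => L (i + 1)) _ _ (tot γ₂) ((j : ℕ) + 1) else 0) +
        PB.c1Hom hX.2.2 (hL 0) (t 0) (whit hX.2.2 m (fun i => L (i + 1)) _ _ (tot γ₂) (j : ℕ))
      split_ifs with hj
      · rfl
      · rw [whit_of_lt hX.2.2 _ _ _ (r₂ := r₂) (tot γ₂) (fun i hi => tot_of_lt γ₂ hi) (by omega)]

theorem sum_fin_ite {r₁ r₂ j : ℕ} {M : Type*} [AddCommMonoid M] (F : ℕ → ℕ → M) (h₁ : ∀ a b, r₁ < a → F a b = 0)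
    (h₂ : ∀ a b, r₂ < b → F a b = 0) :
    (∑ a : Fin (r₁ + 1), ∑ b : Fin (r₂ + 1), if (a : ℕ) + (b : ℕ) = j then F a b else 0) =
      ∑ x ∈ Finset.HasAntidiagonal.antidiagonal j, F x.1 x.2 := by
  rw [← Finset.sum_product', ← Finset.sum_filter]
  refine Finset.sum_bij_ne_zero (fun x _ _ => ((x.1 : ℕ), (x.2 : ℕ))) ?_ ?_ ?_ ?_
  · intro x hx _
    simpa using (Finset.mem_filter.1 hx).2
  · intro x _ _ y _ _ e
    simp only [Prod.mk.injEq] at e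
    exact Prod.ext (Fin.ext e.1) (Fin.ext e.2)
  · intro x hx hne
    have h := Finset.HasAntidiagonal.mem_antidiagonal.1 hx
    have ha : x.1 ≤ r₁ := le_of_not_gt fun hh => hne (h₁ _ _ hh)
    have hb : x.2 ≤ r₂ := le_of_not_gt fun hh => hne (h₂ _ _ hh)
    exact ⟨(⟨x.1, by omega⟩, ⟨x.2, by omega⟩), by simp [h], hne, rfl⟩
  · intro x _ _
    rfl

/-- Whitney formula. -/
theorem whitney [IsLocallyNoetherian X] {δ : X → ℤ} (hX : Cyc.IsSetup X δ) {r₁ r₂ : ℕ} {E₁ E E₂ : X.Modules}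
    (hE₁ : FlatMod.IsFinLocFreeOfRank r₁ E₁) (hE : FlatMod.IsFinLocFreeOfRank (r₁ + r₂) E)
    (hE₂ : FlatMod.IsFinLocFreeOfRank r₂ E₂) {a : E₁ ⟶ E} {b : E ⟶ E₂} {hab : a ≫ b = 0}
    (hex : (ShortComplex.mk a b hab).ShortExact)
    {P₁ : Scheme.{u}} {p₁ : P₁ ⟶ X} {O₁ : P₁.Modules} {q₁ : (Scheme.Modules.pullback p₁).obj E₁ ⟶ O₁}
    (hP₁ : KRR.IsProjBundle p₁ E₁ O₁ q₁) [IsProper p₁] {δ₁ : P₁ → ℤ} (hP₁s : Cyc.IsSetup P₁ δ₁)
    (hδ₁ : Cyc.DeltaCompat p₁ δ₁ δ)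
    {P : Scheme.{u}} {p : P ⟶ X} {O1 : P.Modules} {q : (Scheme.Modules.pullback p).obj E ⟶ O1}
    (hP : KRR.IsProjBundle p E O1 q) [IsProper p] {δP : P → ℤ} (hPs : Cyc.IsSetup P δP) (hδ : Cyc.DeltaCompat p δP δ)
    {P₂ : Scheme.{u}} {p₂ : P₂ ⟶ X} {O₂ : P₂.Modules} {q₂ : (Scheme.Modules.pullback p₂).obj E₂ ⟶ O₂}
    (hP₂ : KRR.IsProjBundle p₂ E₂ O₂ q₂) [IsProper p₂] {δ₂ : P₂ → ℤ} (hP₂s : Cyc.IsSetup P₂ δ₂)
    (hδ₂ : Cyc.DeltaCompat p₂ δ₂ δ) {k : ℤ} {α : AlgebraicCycle X ℤ} {γ₂ : Fin (r₂ + 1) → AlgebraicCycle X ℤ}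
    (hγ₂ : Cyc.IsChernCap p₂ δ δ₂ O₂ r₂ k α γ₂) {ε : Fin (r₂ + 1) → Fin (r₁ + 1) → AlgebraicCycle X ℤ}
    (hε : ∀ b : Fin (r₂ + 1), Cyc.IsChernCap p₁ δ δ₁ O₁ r₁ (k - ((b : ℕ) : ℤ)) (γ₂ b) (ε b))
    {γ : Fin (r₁ + r₂ + 1) → AlgebraicCycle X ℤ} (hγ : Cyc.IsChernCap p δ δP O1 (r₁ + r₂) k α γ)
    (j : Fin (r₁ + r₂ + 1)) :
    Cyc.RatEquiv δ (k - ((j : ℕ) : ℤ)) (γ j)
      (∑ a : Fin (r₁ + 1), ∑ b : Fin (r₂ + 1), if (a : ℕ) + (b : ℕ) = (j : ℕ) then ε b a else 0) := by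
  obtain ⟨Y, π, d, δY, hπ, hδY, hfilt⟩ := exists_split hX 1 (fun _ => E₁) (fun _ => r₁) fun _ => hE₁
  haveI := hπ.proper
  haveI := hπ.flat
  have hY := isSetup_of_lft π hX hδY
  haveI := hY.1
  have hid : Cyc.DeltaCompat (𝟙 X) δ δ := fun x =>
    ⟨0, (FlatDim.resTrdegAt_preimmersion (𝟙 X) x).trans Nat.cast_zero.symm, by simp⟩
  obtain ⟨hsh, hinj⟩ := hπ.bc (𝟙 X) hX hid (PY := Y) (πY := π) (g := 𝟙 Y)
    (IsPullback.of_horiz_isIso ⟨by rw [Category.id_comp, Category.comp_id]⟩) hY hδY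
  obtain ⟨B, hB⟩ := (hfilt 0).exists_botFilt
  obtain ⟨R, pR, OR, qR, δR, hR, hRp, hRs, hRδ, hRc⟩ := chern_pullback hX hE hP hPs hδ π hY hsh hδY
  obtain ⟨R₁, pR₁, OR₁, qR₁, δR₁, hR₁, hR₁p, hR₁s, hR₁δ, hR₁c⟩ :=
    chern_pullback hX hE₁ hP₁ hP₁s hδ₁ π hY hsh hδY
  obtain ⟨R₂, pR₂, OR₂, qR₂, δR₂, hR₂, hR₂p, hR₂s, hR₂δ, hR₂c⟩ :=
    chern_pullback hX hE₂ hP₂ hP₂s hδ₂ π hY hsh hδY
  haveI := hRp
  haveI := hR₁p
  haveI := hR₂p
  have hexY := DCohLib.shortExact_pullback_of_isFlat π _ hex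
    (DCohLib.isFlat_of_flf fun x => ⟨(hE₂ x).choose, r₂, (hE₂ x).choose_spec⟩)
  have hw := chern_whit hY hB (fun i => (B i).inv) (fun i => (B i).sec) (fun i => (B i).ne) rfl hexY
    (FlagLib.rank_pullback π E₂ hE₂) hR hRs hRδ hR₂ hR₂s hR₂δ (hR₂c hγ₂)
  have h1 := chern_unique' hY (FlagLib.rank_pullback π E hE) hR hRs hRδ (ratEquiv_refl _ _) (hRc hγ) hw j
  let g := tot fun i => pullHom hsh hY.2.2 (γ₂ i)
  let F : ℕ → ℕ → AlgebraicCycle Y ℤ := fun a b =>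
    esym hY.2.2 r₁ (fun i => (B i).N) (fun i => (B i).inv) (fun i => (B i).sec) a (g b)
  have h2 : ∀ (b : Fin (r₂ + 1)) (a : Fin (r₁ + 1)), Cyc.RatEquiv δY (k - ((b : ℕ) : ℤ) + d - ((a : ℕ) : ℤ))
      (F a b) (pullHom hsh hY.2.2 (ε b a)) := fun b a => by
    have hmem : pullHom hsh hY.2.2 (γ₂ b) ∈ Cyc.Zk Y δY (k - ((b : ℕ) : ℤ) + d) := fun x hx =>
      (hR₂c hγ₂).2.1 b x fun e => hx (by omega)
    have hc := chern_of_botFilt hY hB (fun i => (B i).inv) (fun i => (B i).sec) (fun i => (B i).ne) hR₁ hR₁s hR₁δ hmem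
    have := chern_unique' hY (FlagLib.rank_pullback π E₁ hE₁) hR₁ hR₁s hR₁δ (ratEquiv_refl _ _) hc (hR₁c (hε b)) a
    simpa only [F, g, tot_val] using this
  have h4 : Cyc.RatEquivZero δY (k + d - ((j : ℕ) : ℤ))
      (∑ a : Fin (r₁ + 1), ∑ b : Fin (r₂ + 1),
        if (a : ℕ) + (b : ℕ) = (j : ℕ) then F a b - pullHom hsh hY.2.2 (ε b a) else 0) := by
    refine (ratZero hY.2.2 _).sum_mem fun a _ => (ratZero hY.2.2 _).sum_mem fun b _ => ?_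
    split_ifs with h
    · show Cyc.RatEquivZero δY _ _
      rw [show k + (d : ℤ) - ((j : ℕ) : ℤ) = k - ((b : ℕ) : ℤ) + d - ((a : ℕ) : ℤ) by rw [← h]; push_cast; ring]
      exact h2 b a
    · exact zero_mem _
  have hsum : whit hY.2.2 r₁ (fun i => (B i).N) (fun i => (B i).inv) (fun i => (B i).sec) g (j : ℕ) =
      ∑ a : Fin (r₁ + 1), ∑ b : Fin (r₂ + 1), if (a : ℕ) + (b : ℕ) = (j : ℕ) then F a b else 0 :=
    (sum_fin_ite (M := AlgebraicCycle Y ℤ) F (fun a b h => by simp [F, esym_of_lt _ _ _ _ _ _ h])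
      fun a b h => by simp [F, g, tot_of_lt _ h]).symm
  have e : (pullHom hsh hY.2.2 (γ j) - whit hY.2.2 r₁ (fun i => (B i).N) (fun i => (B i).inv) (fun i => (B i).sec) g (j : ℕ)) +
      (∑ a : Fin (r₁ + 1), ∑ b : Fin (r₂ + 1),
        if (a : ℕ) + (b : ℕ) = (j : ℕ) then F a b - pullHom hsh hY.2.2 (ε b a) else 0) =
      pullHom hsh hY.2.2 (γ j - ∑ a : Fin (r₁ + 1), ∑ b : Fin (r₂ + 1),
        if (a : ℕ) + (b : ℕ) = (j : ℕ) then ε b a else 0) := by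
    rw [hsum]
    simp only [map_sub, map_sum, apply_ite (pullHom hsh hY.2.2), map_zero]
    rw [sub_add, sub_right_inj, ← Finset.sum_sub_distrib]
    refine Finset.sum_congr rfl fun a _ => ?_
    rw [← Finset.sum_sub_distrib]
    refine Finset.sum_congr rfl fun b _ => ?_
    split_ifs <;> simp
  refine hinj (k := k - ((j : ℕ) : ℤ)) _ (fun x hx => ?_) (pullHom hsh hY.2.2 _) rfl ?_
  · simp only [Function.locallyFinsuppWithin.coe_sub, Pi.sub_apply, Function.locallyFinsuppWithin.coe_sum,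
      Finset.sum_apply]
    rw [hγ.2.1 j x hx, zero_sub, neg_eq_zero]
    refine Finset.sum_eq_zero fun a _ => Finset.sum_eq_zero fun b _ => ?_
    split_ifs with h
    · exact (hε b).2.1 a x fun e => hx (by omega)
    · rfl
  · rw [← e, show k - ((j : ℕ) : ℤ) + (d : ℤ) = k + d - ((j : ℕ) : ℤ) by ring]
    exact ratEquivZero_add h1 h4

end Groth.Agent.CycLib
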