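import Groth.Agent.CycLib.Chern.Ring
import Groth.Agent.CycLib.Chern.Whitney
import Mathlib.Algebra.Polynomial.BigOperators

/-! # Chern roots -/

set_option autoImplicit false
set_option backward.isDefEq.respectTransparency false
set_option linter.style.haveILetI false

universe u

open CategoryTheory CategoryTheory.Limits AlgebraicGeometry TopologicalSpace
open Groth.Agent.PullbackMod

noncomputable section

namespace Groth.Agent.CycLib

variable {X : Scheme.{u}} [IsLocallyNoetherian X] {δ : X → ℤ}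

open Polynomial in
/-- The Chern polynomial of a list of invertible modules. -/
def chernPoly (hX : Cyc.IsSetup X δ) (r : ℕ) (B : ℕ → SecLine X) : Polynomial (C1Ring hX) :=
  ∏ i ∈ Finset.range r, (1 + C (c1r hX (B i)) * Polynomial.X)

/-- The Chern classes of a list of invertible modules. -/
def rootSym (hX : Cyc.IsSetup X δ) (r : ℕ) (B : ℕ → SecLine X) (j : ℕ) : C1Ring hX := (chernPoly hX r B).coeff j

theorem chernPoly_succ (hX : Cyc.IsSetup X δ) (r : ℕ) (B : ℕ → SecLine X) :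
    chernPoly hX (r + 1) B = (1 + Polynomial.C (c1r hX (B 0)) * Polynomial.X) * chernPoly hX r fun i => B (i + 1) := by
  rw [chernPoly, chernPoly, Finset.prod_range_succ', mul_comm]

theorem rootSym_zero (hX : Cyc.IsSetup X δ) : ∀ (r : ℕ) (B : ℕ → SecLine X), rootSym hX r B 0 = 1
  | 0, B => by simp [rootSym, chernPoly]
  | r + 1, B => by
    have h := rootSym_zero hX r fun i => B (i + 1)
    rw [rootSym] at h ⊢
    rw [chernPoly_succ, Polynomial.mul_coeff_zero, h]
    simp

theorem rootSym_succ (hX : Cyc.IsSetup X δ) (r : ℕ) (B : ℕ → SecLine X) (j : ℕ) :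
    rootSym hX (r + 1) B (j + 1) =
      rootSym hX r (fun i => B (i + 1)) (j + 1) + c1r hX (B 0) * rootSym hX r (fun i => B (i + 1)) j := by
  simp only [rootSym, chernPoly_succ, add_mul, one_mul, mul_assoc, Polynomial.coeff_add, Polynomial.coeff_C_mul,
    Polynomial.coeff_X_mul]

theorem cls_esym (hX : Cyc.IsSetup X δ) : ∀ (r : ℕ) (B : ℕ → SecLine X) (j : ℕ) (a : AlgebraicCycle X ℤ),
    cls hX (esym hX.2.2 r (fun i => (B i).N) (fun i => (B i).inv) (fun i => (B i).sec) j a) =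
      act hX (rootSym hX r B j) (cls hX a)
  | r, B, 0, a => by rw [esym_zero, rootSym_zero, map_one]; rfl
  | 0, B, j + 1, a => by
    rw [esym_of_lt hX.2.2 _ _ _ _ _ (Nat.succ_pos j), rootSym, chernPoly, Finset.range_zero, Finset.prod_empty,
      Polynomial.coeff_one, if_neg (Nat.succ_ne_zero j), map_zero]
    exact map_zero _
  | r + 1, B, j + 1, a => by
    rw [esym_succ, map_add, rootSym_succ, map_add, map_mul, ← act_c1r hX (B 0)]
    rw [cls_esym hX r (fun i => B (i + 1)) (j + 1) a, cls_esym hX r (fun i => B (i + 1)) j a]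
    rfl

/-- Chern classes of a filtered module. -/
theorem cls_chern (hX : Cyc.IsSetup X δ) {r : ℕ} {B : ℕ → SecLine X} {E : X.Modules}
    (hf : BotFilt r (fun i => (B i).N) E) {P : Scheme.{u}} {p : P ⟶ X} {O1 : P.Modules}
    {q : (Scheme.Modules.pullback p).obj E ⟶ O1} (hP : KRR.IsProjBundle p E O1 q) [IsProper p] {δP : P → ℤ}
    (hPs : Cyc.IsSetup P δP) (hδ : Cyc.DeltaCompat p δP δ) {k : ℤ} {α : AlgebraicCycle X ℤ}
    {γ : Fin (r + 1) → AlgebraicCycle X ℤ} (hγ : Cyc.IsChernCap p δ δP O1 r k α γ) (j : Fin (r + 1)) :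
    cls hX (γ j) = act hX (rootSym hX r B j) (cls hX α) := by
  have hα : α ∈ Cyc.Zk X δ k := fun x hx => by
    rw [← hγ.1]
    exact hγ.2.1 0 x (by simpa using hx)
  rw [← cls_esym hX r B j α]
  exact cls_eq_of_ratEquiv hX (chern_unique' hX (hf.rank fun i => (B i).inv) hP hPs hδ (ratEquiv_refl _ _) hγ
    (chern_of_botFilt hX hf (fun i => (B i).inv) (fun i => (B i).sec) (fun i => (B i).ne) hP hPs hδ hα) j)

omit [IsLocallyNoetherian X] in
/-- The pullback of an invertible module with sections. -/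
def SecLine.pull {Y : Scheme.{u}} (π : Y ⟶ X) (l : SecLine X) : SecLine Y where
  N := (Scheme.Modules.pullback π).obj l.N
  inv := AmpleLib.isInvertible_pullback π l.inv
  sec η := pullFib π l.N η (l.sec (π η))
  ne _ := pullFib_ne_zero π l.N l.inv (l.ne _)

/-- A morphism along which cycles can be split. -/
structure Splitting (X : Scheme.{u}) (δ : X → ℤ) where
  /-- the source -/
  Y : Scheme.{u}
  /-- the morphism -/
  π : Y ⟶ X
  /-- the relative dimension -/
  d : ℕ
  /-- the dimension function -/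
  δY : Y → ℤ
  setup : Cyc.IsSetup Y δY
  compat : Cyc.DeltaCompat π δY δ
  proper : IsProper π
  flat : Flat π
  shift : IsShift π δY δ d
  inj : ∀ {k : ℤ} (α : AlgebraicCycle X ℤ), α ∈ Cyc.Zk X δ k → ∀ β : AlgebraicCycle Y ℤ,
    ⇑β = Cyc.pullFun π δY δ d ⇑α → Cyc.RatEquivZero δY (k + d) β → Cyc.RatEquivZero δ k α

/-- Finitely many modules can be filtered by invertible modules after splitting. -/
theorem exists_splitting (hX : Cyc.IsSetup X δ) (m : ℕ) (E : Fin m → X.Modules) (rk : Fin m → ℕ)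
    (hE : ∀ i, FlatMod.IsFinLocFreeOfRank (rk i) (E i)) :
    ∃ S : Splitting X δ, ∀ i, ∃ B : ℕ → SecLine S.Y,
      BotFilt (rk i) (fun l => (B l).N) ((Scheme.Modules.pullback S.π).obj (E i)) := by
  obtain ⟨Y, π, d, δY, hπ, hδY, hfilt⟩ := exists_split hX m E rk hE
  haveI := hπ.proper
  have hY := isSetup_of_lft π hX hδY
  have hid : Cyc.DeltaCompat (𝟙 X) δ δ := fun x =>
    ⟨0, (FlatDim.resTrdegAt_preimmersion (𝟙 X) x).trans Nat.cast_zero.symm, by simp⟩
  obtain ⟨hsh, hinj⟩ := hπ.bc (𝟙 X) hX hid (PY := Y) (πY := π) (g := 𝟙 Y)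
    (IsPullback.of_horiz_isIso ⟨by rw [Category.id_comp, Category.comp_id]⟩) hY hδY
  exact ⟨⟨Y, π, d, δY, hY, hδY, inferInstance, hπ.flat, hsh, hinj⟩, fun i => (hfilt i).exists_botFilt⟩

namespace Splitting

variable (S : Splitting X δ)

instance : IsProper S.π := S.proper
instance : Flat S.π := S.flat
instance : IsLocallyNoetherian S.Y := S.setup.1

/-- Pullback of cycles. -/
def P : AlgebraicCycle X ℤ →+ AlgebraicCycle S.Y ℤ := pullHom S.shift S.setup.2.2

theorem P_mem {k : ℤ} {a : AlgebraicCycle X ℤ} (ha : a ∈ Cyc.Zk X δ k) : S.P a ∈ Cyc.Zk S.Y S.δY (k + S.d) :=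
  fun x hx => by
    show Cyc.pullFun S.π S.δY δ S.d (⇑a) x = 0
    rw [pullFun_apply]
    split_ifs with hd
    · rw [ha (S.π x) fun e => hx (by omega), zero_mul]
    · rfl

theorem ratEquiv_of_cls {k : ℤ} {a b : AlgebraicCycle X ℤ} (ha : a ∈ Cyc.Zk X δ k) (hb : b ∈ Cyc.Zk X δ k)
    (h : cls S.setup (S.P a) = cls S.setup (S.P b)) : Cyc.RatEquiv δ k a b := by
  refine S.inj (a - b) (fun x hx => ?_) (S.P (a - b)) rfl ?_
  · rw [Function.locallyFinsuppWithin.coe_sub, Pi.sub_apply, ha x hx, hb x hx, sub_zero]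
  · rw [map_sub]
    exact ratEquiv_of_cls_eq S.setup (S.P_mem ha) (S.P_mem hb) h

theorem cls_c1 (hX : Cyc.IsSetup X δ) (l : SecLine X) {k : ℤ} {a : AlgebraicCycle X ℤ} (ha : a ∈ Cyc.Zk X δ k) :
    cls S.setup (S.P (PB.c1Hom hX.2.2 l.inv l.sec a)) =
      act S.setup (c1r S.setup (l.pull S.π)) (cls S.setup (S.P a)) := by
  rw [act_c1r]
  exact cls_eq_of_ratEquiv S.setup (ratEquiv_pull_c1Cap S.shift S.setup.2.2 hX.2.2 l.inv l.sec l.ne ha
    (l.pull S.π).sec (l.pull S.π).ne _ _ rfl rfl)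

/-- Chern classes after splitting. -/
theorem cls_chern_pull (hX : Cyc.IsSetup X δ) {r : ℕ} {E : X.Modules} (hE : FlatMod.IsFinLocFreeOfRank r E)
    {B : ℕ → SecLine S.Y} (hf : BotFilt r (fun i => (B i).N) ((Scheme.Modules.pullback S.π).obj E)) {P : Scheme.{u}}
    {p : P ⟶ X} {O1 : P.Modules} {q : (Scheme.Modules.pullback p).obj E ⟶ O1} (hP : KRR.IsProjBundle p E O1 q)
    [IsProper p] {δP : P → ℤ} (hPs : Cyc.IsSetup P δP) (hδ : Cyc.DeltaCompat p δP δ) {k : ℤ}
    {α : AlgebraicCycle X ℤ} {γ : Fin (r + 1) → AlgebraicCycle X ℤ} (hγ : Cyc.IsChernCap p δ δP O1 r k α γ)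
    (j : Fin (r + 1)) : cls S.setup (S.P (γ j)) = act S.setup (rootSym S.setup r B j) (cls S.setup (S.P α)) := by
  obtain ⟨R, pR, OR, qR, δR, hR, hRp, hRs, hRδ, hRc⟩ := chern_pullback hX hE hP hPs hδ S.π S.setup S.shift S.compat
  haveI := hRp
  exact cls_chern S.setup hf hR hRs hRδ (hRc hγ) j

end Splitting

end Groth.Agent.CycLib
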