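import Groth.Agent.CycLib.Chern.Push
import Groth.Agent.CycLib.SetupLft

/-! # Segre operations and their commutation with Chern class caps -/

set_option autoImplicit false
set_option backward.isDefEq.respectTransparency false
set_option linter.style.haveILetI false

universe u

open CategoryTheory CategoryTheory.Limits AlgebraicGeometry TopologicalSpace

noncomputable section

namespace Groth.Agent.CycLib.PB

section Cap

variable {Z : Scheme.{u}} [IsLocallyNoetherian Z] {δ : Z → ℤ} {L : Z.Modules}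
  (hδ : Cyc.IsDimFun Z δ) (hL : PicF.IsInvertible L)

/-- A cap with a first Chern class as a homomorphism. -/
def c1Hom (s : (ξ : Z) → Cyc.secFibre L ξ) : AlgebraicCycle Z ℤ →+ AlgebraicCycle Z ℤ :=
  AddMonoidHom.mk' (fun a => c1Cycle hδ hL a s) fun a b => c1Cycle_add hδ hL a b s

theorem c1Cycle_mem_Zk (s : (ξ : Z) → Cyc.secFibre L ξ) {j : ℤ} {a : AlgebraicCycle Z ℤ}
    (ha : a ∈ Cyc.Zk Z δ j) : c1Cycle hδ hL a s ∈ Cyc.Zk Z δ (j - 1) := fun x hx =>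
  c1CapFun_eq_zero_of_ne (k := j - 1) (fun ξ hξ => ha ξ fun e => hξ (by rw [e, sub_add_cancel])) s hx

theorem ratEquiv_c1Cycle (hZ : Cyc.IsSetup Z δ) (s : (ξ : Z) → Cyc.secFibre L ξ) (hs : ∀ ξ, s ξ ≠ 0) {j : ℤ}
    {a b : AlgebraicCycle Z ℤ} (h : Cyc.RatEquiv δ j a b) :
    Cyc.RatEquiv δ (j - 1) (c1Cycle hδ hL a s) (c1Cycle hδ hL b s) := by
  show Cyc.RatEquivZero δ _ (c1Hom hδ hL s a - c1Hom hδ hL s b)
  rw [← map_sub]
  exact c1Cap_ratEquivZero hZ hL (by rw [sub_add_cancel]; exact h) s hs _ rfl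

end Cap

namespace Setting

variable {X P : Scheme.{u}} {p : P ⟶ X} {O1 : P.Modules} {δP : P → ℤ} {δ : X → ℤ} {n : ℕ} (S : Setting p O1 δP δ n)
  [IsLocallyNoetherian P] [IsLocallyNoetherian X]

/-- The relation as a homomorphism. -/
def relHom (S : Setting p O1 δP δ n) (t : ℕ → (ξ : P) → Cyc.secFibre O1 ξ) :
    (Fin (n + 1 + 1) → AlgebraicCycle X ℤ) →+ AlgebraicCycle P ℤ :=
  AddMonoidHom.mk' (S.relSum t) fun a b => by
    simp only [relSum, Pi.add_apply, ← Finset.sum_add_distrib, ← smul_add]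
    refine Finset.sum_congr rfl fun i _ => congrArg _ ?_
    exact map_add (S.seqHom t i) _ _

theorem zk_zsmul {j : ℤ} {a : AlgebraicCycle X ℤ} (ha : a ∈ Cyc.Zk X δ j) (c : ℤ) : c • a ∈ Cyc.Zk X δ j :=
  fun x hx => by show c * a x = 0; rw [ha x hx, mul_zero]

theorem zk_sum {ι : Type*} (s : Finset ι) {j : ℤ} {a : ι → AlgebraicCycle X ℤ} (ha : ∀ i ∈ s, a i ∈ Cyc.Zk X δ j) :
    ∑ i ∈ s, a i ∈ Cyc.Zk X δ j := fun x hx => by
  rw [Function.locallyFinsuppWithin.coe_sum, Finset.sum_apply]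
  exact Finset.sum_eq_zero fun i hi => ha i hi x hx

include S in
/-- Chern caps are linear. -/
theorem chern_sum {ι : Type*} (s : Finset ι) (c : ι → ℤ) {k : ℤ} {α : ι → AlgebraicCycle X ℤ}
    {γ : ι → Fin (n + 1 + 1) → AlgebraicCycle X ℤ}
    (h : ∀ i ∈ s, Cyc.IsChernCap p δ δP O1 (n + 1) k (α i) (γ i)) :
    Cyc.IsChernCap p δ δP O1 (n + 1) k (∑ i ∈ s, c i • α i) fun j => ∑ i ∈ s, c i • γ i j := by
  obtain ⟨t₀, ht₀⟩ := exists_secs S.inv
  have h' := fun i hi => (S.isChernCap_iff (fun _ => t₀) fun _ => ht₀).1 (h i hi)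
  refine (S.isChernCap_iff (fun _ => t₀) fun _ => ht₀).2 ⟨Finset.sum_congr rfl fun i hi => by rw [(h' i hi).1],
    fun j => zk_sum s fun i hi => zk_zsmul ((h' i hi).2.1 j) _, ?_⟩
  have e : (fun j => ∑ i ∈ s, c i • γ i j) = ∑ i ∈ s, c i • γ i := by ext1 j; simp
  show Cyc.RatEquivZero δP (k - 1) (S.relHom (fun _ => t₀) _)
  rw [e, map_sum]
  exact (ratZero S.hP.2.2 (k - 1)).sum_mem fun i hi => by
    rw [map_zsmul]; exact ratEquivZero_zsmul S.hP.2.2 (h' i hi).2.2 _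

section C1

variable {N : X.Modules} (hN : PicF.IsInvertible N) {v : (ξ : X) → Cyc.secFibre N ξ} (hv : ∀ ξ, v ξ ≠ 0)
include hv

/-- Iterated caps commute with first Chern classes from the base. -/
theorem seq_c1 (t : ℕ → (ξ : P) → Cyc.secFibre O1 ξ) (ht : ∀ i ξ, t i ξ ≠ 0) {j : ℤ} {a : AlgebraicCycle X ℤ}
    (ha : a ∈ Cyc.Zk X δ j) : ∀ m : ℕ, Cyc.RatEquiv δP (j + n - m - 1)
      (c1Cycle S.hP.2.2 (AmpleLib.isInvertible_pullback p hN) (S.seq t a m) fun η => pullFib p N η (v (p η)))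
      (S.seq t (c1Cycle S.hX.2.2 hN a v) m)
  | 0 => by
    haveI := S.flat
    haveI := S.lft
    have e : c1Cycle S.hP.2.2 (AmpleLib.isInvertible_pullback p hN) (S.seq t a 0) (fun η => pullFib p N η (v (p η))) =
        S.seq t (c1Cycle S.hX.2.2 hN a v) 0 := by
      ext z
      exact (congrFun (pullFun_c1Cap S.isShift S.hP.2.2 S.hX.2.2 hN v hv a) z).symm
    show Cyc.RatEquivZero _ _ (_ - _)
    rw [e, sub_self]
    exact ratEquivZero_zero
  | m + 1 => by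
    have hN' := AmpleLib.isInvertible_pullback p hN
    have hv' : ∀ η, pullFib p N η (v (p η)) ≠ 0 := fun η => pullFib_ne_zero p N hN (hv _)
    have hk : S.seq t a m ∈ Cyc.Zk P δP (j + n - (m + 1 : ℕ) - 1 + 2) := by
      rw [show j + n - ((m + 1 : ℕ) : ℤ) - 1 + 2 = j + n - m by push_cast; ring]
      exact S.seq_mem_Zk t ha m
    have h1 := c1Cap_comm S.hP hN' S.inv (S.seq t a m) hk (fun η => pullFib p N η (v (p η)))
      (fun η => pullFib p N η (v (p η))) (t m) (t m) hv' hv' (ht m) (ht m)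
      (c1Cycle S.hP.2.2 hN' (S.seq t a (m + 1)) fun η => pullFib p N η (v (p η)))
      (c1Cycle S.hP.2.2 S.inv (c1Cycle S.hP.2.2 hN' (S.seq t a m) fun η => pullFib p N η (v (p η))) (t m)) rfl rfl
    have h2 := ratEquiv_c1Cycle S.hP.2.2 S.inv S.hP (t m) (ht m) (seq_c1 t ht ha m)
    rw [show j + n - (m : ℤ) - 1 - 1 = j + n - ((m + 1 : ℕ) : ℤ) - 1 by push_cast; ring] at h2
    have h3 := ratEquivZero_add h1 h2
    rwa [sub_add_sub_cancel] at h3

include S in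
/-- Chern caps commute with first Chern classes. -/
theorem chern_c1 {k : ℤ} {α : AlgebraicCycle X ℤ} {γ : Fin (n + 1 + 1) → AlgebraicCycle X ℤ}
    (hγ : Cyc.IsChernCap p δ δP O1 (n + 1) k α γ) :
    Cyc.IsChernCap p δ δP O1 (n + 1) (k - 1) (c1Cycle S.hX.2.2 hN α v) fun l => c1Cycle S.hX.2.2 hN (γ l) v := by
  obtain ⟨t₀, ht₀⟩ := exists_secs S.inv
  let t : ℕ → (ξ : P) → Cyc.secFibre O1 ξ := fun _ => t₀
  have ht : ∀ l ξ, t l ξ ≠ 0 := fun _ => ht₀
  obtain ⟨h0, hd, hrel⟩ := (S.isChernCap_iff t ht).1 hγ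
  refine (S.isChernCap_iff t ht).2 ⟨by rw [h0], fun l => ?_, ?_⟩
  · have := c1Cycle_mem_Zk S.hX.2.2 hN v (hd l)
    rwa [show k - ((l : ℕ) : ℤ) - 1 = k - 1 - ((l : ℕ) : ℤ) by ring] at this
  let C := c1Hom S.hP.2.2 (AmpleLib.isInvertible_pullback p hN) fun η => pullFib p N η (v (p η))
  have h1 : Cyc.RatEquivZero δP (k - 1 - 1) (C (S.relSum t γ)) :=
    c1Cap_ratEquivZero S.hP (AmpleLib.isInvertible_pullback p hN) (by rwa [sub_add_cancel]) _
      (fun η => pullFib_ne_zero p N hN (hv _)) _ rfl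
  have h2 : Cyc.RatEquivZero δP (k - 1 - 1)
      (C (S.relSum t γ) - S.relSum t fun l => c1Cycle S.hX.2.2 hN (γ l) v) := by
    rw [relSum, relSum, map_sum, ← Finset.sum_sub_distrib]
    refine (ratZero S.hP.2.2 (k - 1 - 1)).sum_mem fun l _ => ?_
    rw [map_zsmul, ← smul_sub]
    refine ratEquivZero_zsmul S.hP.2.2 ?_ _
    have := S.seq_c1 hN hv t ht (hd (Fin.rev l)) (l : ℕ)
    rwa [show k - ((Fin.rev l : ℕ) : ℤ) + n - (l : ℕ) - 1 = k - 1 - 1 by rw [Fin.val_rev]; omega] at this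
  have h3 := ratEquivZero_sub S.hP.2.2 h1 h2
  rwa [sub_sub_cancel] at h3

include S in
/-- Chern caps commute with powers of first Chern classes. -/
theorem chern_capSeq {k : ℤ} {α : AlgebraicCycle X ℤ} {γ : Fin (n + 1 + 1) → AlgebraicCycle X ℤ}
    (hγ : Cyc.IsChernCap p δ δP O1 (n + 1) k α γ) :
    ∀ m : ℕ, Cyc.IsChernCap p δ δP O1 (n + 1) (k - m) (capSeq S.hX.2.2 hN (fun _ => v) α m)
      fun l => capSeq S.hX.2.2 hN (fun _ => v) (γ l) m
  | 0 => by simpa [capSeq] using hγ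
  | m + 1 => by
    rw [show k - ((m + 1 : ℕ) : ℤ) = k - m - 1 by push_cast; ring]
    exact S.chern_c1 hN hv (chern_capSeq hγ m)

end C1

/-- The Segre operations. -/
def seg (S : Setting p O1 δP δ n) (t : ℕ → (ξ : P) → Cyc.secFibre O1 ξ) (m : ℕ) :
    AlgebraicCycle X ℤ →+ AlgebraicCycle X ℤ :=
  S.mapHom.comp (S.seqHom t (n + m))

theorem seg_mem (t : ℕ → (ξ : P) → Cyc.secFibre O1 ξ) {j : ℤ} {a : AlgebraicCycle X ℤ} (ha : a ∈ Cyc.Zk X δ j)
    (m : ℕ) : S.seg t m a ∈ Cyc.Zk X δ (j - m) := by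
  haveI := S.proper
  intro x hx
  show AlgebraicCycle.map p δP δ (S.seq t a (n + m)) x = 0
  classical
  obtain hfin := finite_window p (S.seq t a (n + m)) x
  rw [map_apply_eq_sum p _ x hfin.toFinset fun w hw hw' => hfin.mem_toFinset.2 ⟨hw, hw'⟩]
  refine Finset.sum_eq_zero fun w hw => ?_
  rw [hfin.mem_toFinset] at hw
  have h1 : δP w = j + n - (n + m : ℕ) := by_contra fun e => hw.2 (S.seq_mem_Zk t ha _ w e)
  rw [Set.indicator_of_mem (show w ∈ p ⁻¹' {x} from hw.1), AlgebraicCycle.mapCoeff, if_neg, Nat.cast_zero, mul_zero]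
  intro e
  rw [show p w = x from hw.1] at e
  exact hx (by push_cast at h1; omega)

theorem seg_zero (t : ℕ → (ξ : P) → Cyc.secFibre O1 ξ) (ht : ∀ i ξ, t i ξ ≠ 0) {j : ℤ} {a : AlgebraicCycle X ℤ}
    (ha : a ∈ Cyc.Zk X δ j) : S.seg t 0 a = a :=
  haveI := S.proper
  S.mapHom_seq_self t ht ha

theorem seg_ratEquivZero (t : ℕ → (ξ : P) → Cyc.secFibre O1 ξ) (ht : ∀ i ξ, t i ξ ≠ 0) {j : ℤ}
    {a : AlgebraicCycle X ℤ} (h : Cyc.RatEquivZero δ j a) (m : ℕ) : Cyc.RatEquivZero δ (j - m) (S.seg t m a) := by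
  haveI := S.proper
  have h1 := S.seq_ratEquivZero t ht h (n + m)
  rw [show j + n - ((n + m : ℕ) : ℤ) = j - m by push_cast; ring] at h1
  exact ratEquivZero_map p S.hP S.hX S.hδ h1

theorem seg_indep (t t' : ℕ → (ξ : P) → Cyc.secFibre O1 ξ) (ht : ∀ i ξ, t i ξ ≠ 0) (ht' : ∀ i ξ, t' i ξ ≠ 0)
    {j : ℤ} {a : AlgebraicCycle X ℤ} (ha : a ∈ Cyc.Zk X δ j) (m : ℕ) :
    Cyc.RatEquiv δ (j - m) (S.seg t m a) (S.seg t' m a) := by
  haveI := S.proper
  have h1 : Cyc.RatEquivZero δP _ _ := S.seq_indep t t' ht ht' ha (n + m)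
  rw [show j + n - ((n + m : ℕ) : ℤ) = j - m by push_cast; ring] at h1
  show Cyc.RatEquivZero δ (j - m) (S.mapHom (S.seq t a (n + m)) - S.mapHom (S.seq t' a (n + m)))
  rw [← map_sub]
  exact ratEquivZero_map p S.hP S.hX S.hδ h1

/-- The Segre operations invert the Chern classes. -/
theorem seg_relation {v : (ξ : P) → Cyc.secFibre O1 ξ} (hv : ∀ ξ, v ξ ≠ 0) {k : ℤ} {α : AlgebraicCycle X ℤ}
    {γ : Fin (n + 1 + 1) → AlgebraicCycle X ℤ} (hγ : Cyc.IsChernCap p δ δP O1 (n + 1) k α γ) (m : ℕ) (hm : 1 ≤ m) :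
    Cyc.RatEquivZero δ (k - m) (∑ j : Fin (n + 1 + 1),
      if (j : ℕ) ≤ m then (-1 : ℤ) ^ (j : ℕ) • S.seg (fun _ => v) (m - j) (γ j) else 0) := by
  classical
  haveI := S.proper
  let t : ℕ → (ξ : P) → Cyc.secFibre O1 ξ := fun _ => v
  have ht : ∀ l ξ, t l ξ ≠ 0 := fun _ => hv
  obtain ⟨h0, hd, hrel⟩ := (S.isChernCap_iff t ht).1 hγ
  have h1 := capSeq_ratEquivZero S.hP.2.2 S.inv S.hP t ht hrel (m - 1)
  rw [show k - 1 - ((m - 1 : ℕ) : ℤ) = k - m by omega] at h1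
  have h2 := ratEquivZero_map p S.hP S.hX S.hδ h1
  have h3 : AlgebraicCycle.map p δP δ (capSeq S.hP.2.2 S.inv t (S.relSum t γ) (m - 1)) =
      (-1 : ℤ) ^ (n + 1) • ∑ j : Fin (n + 1 + 1),
        if (j : ℕ) ≤ m then (-1 : ℤ) ^ (j : ℕ) • S.seg t (m - j) (γ j) else 0 := by
    show (S.mapHom.comp (capHom S.hP.2.2 S.inv t (m - 1))) _ = _
    rw [relSum, map_sum, Finset.smul_sum, ← Equiv.sum_comp Fin.revPerm]
    refine Finset.sum_congr rfl fun j _ => ?_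
    rw [map_zsmul, Fin.revPerm_apply, Fin.rev_rev]
    show (-1 : ℤ) ^ ((Fin.rev j : Fin (n + 1 + 1)) : ℕ) •
      AlgebraicCycle.map p δP δ (capSeq S.hP.2.2 S.inv t (capSeq S.hP.2.2 S.inv t (S.pullC (γ j)) (Fin.rev j : ℕ)) (m - 1)) = _
    have hc : capSeq S.hP.2.2 S.inv t (capSeq S.hP.2.2 S.inv t (S.pullC (γ j)) (Fin.rev j : ℕ)) (m - 1) =
        S.seq t (γ j) ((Fin.rev j : ℕ) + (m - 1)) := by
      rw [capSeq_capSeq]
      exact capSeq_congr _ _ _ _ fun l _ => by simp [t]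
    rw [hc]
    have hr : ((Fin.rev j : Fin (n + 1 + 1)) : ℕ) = n + 1 - j := by rw [Fin.val_rev]; omega
    have hj := j.2
    split_ifs with hjm
    · rw [smul_smul, hr, show n + 1 - (j : ℕ) + (m - 1) = n + (m - j) by omega]
      congr 1
      rw [← pow_add]
      conv_rhs => rw [show n + 1 + (j : ℕ) = n + 1 - j + 2 * j by omega, pow_add, pow_mul, neg_one_sq, one_pow, mul_one]
    · rw [hr, S.mapHom_seq_of_lt t (hd j) (by omega), smul_zero, smul_zero]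
  rw [h3] at h2
  have h4 := ratEquivZero_zsmul S.hX.2.2 h2 ((-1 : ℤ) ^ (n + 1))
  rwa [smul_smul, ← mul_pow, neg_one_mul, neg_neg, one_pow, one_smul] at h4

/-- A tuple killed by the Segre recursion vanishes. -/
theorem rec_zero {v : (ξ : P) → Cyc.secFibre O1 ξ} (hv : ∀ ξ, v ξ ≠ 0) {k : ℤ}
    (d : Fin (n + 1 + 1) → AlgebraicCycle X ℤ)
    (hd : ∀ l : Fin (n + 1 + 1), d l ∈ Cyc.Zk X δ (k - ((l : ℕ) : ℤ))) (h0 : Cyc.RatEquivZero δ k (d 0))
    (h : ∀ m : ℕ, 1 ≤ m → Cyc.RatEquivZero δ (k - m) (∑ l : Fin (n + 1 + 1),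
      if (l : ℕ) ≤ m then (-1 : ℤ) ^ (l : ℕ) • S.seg (fun _ => v) (m - l) (d l) else 0)) :
    ∀ (N : ℕ) (l : Fin (n + 1 + 1)), (l : ℕ) = N → Cyc.RatEquivZero δ (k - ((l : ℕ) : ℤ)) (d l) := by
  intro N
  induction N using Nat.strong_induction_on with
  | _ N ih =>
    intro l hl
    subst hl
    by_cases hz : l = 0
    · subst hz; simpa using h0
    classical
    have h1 := h l (by rcases Nat.eq_zero_or_pos (l : ℕ) with e | e; exact absurd (Fin.ext e) hz; exact e)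
    rw [← Finset.add_sum_erase _ _ (Finset.mem_univ l), if_pos le_rfl, Nat.sub_self,
      S.seg_zero _ (fun _ => hv) (hd l)] at h1
    have h2 : Cyc.RatEquivZero δ (k - ((l : ℕ) : ℤ)) (∑ i ∈ Finset.univ.erase l,
        if (i : ℕ) ≤ (l : ℕ) then (-1 : ℤ) ^ (i : ℕ) • S.seg (fun _ => v) ((l : ℕ) - i) (d i) else 0) := by
      refine (ratZero S.hX.2.2 _).sum_mem fun i hi => ?_
      split_ifs with hil
      · have hne := Finset.ne_of_mem_erase hi
        have hlt : (i : ℕ) < l := lt_of_le_of_ne hil fun e => hne (Fin.ext e)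
        refine ratEquivZero_zsmul S.hX.2.2 ?_ _
        have := S.seg_ratEquivZero (fun _ => v) (fun _ => hv) (ih i hlt i rfl) ((l : ℕ) - i)
        rwa [show k - ((i : ℕ) : ℤ) - (((l : ℕ) - i : ℕ) : ℤ) = k - ((l : ℕ) : ℤ) by omega] at this
      · exact ratEquivZero_zero
    have h3 := ratEquivZero_sub S.hX.2.2 h1 h2
    rw [add_sub_cancel_right] at h3
    have h4 := ratEquivZero_zsmul S.hX.2.2 h3 ((-1 : ℤ) ^ (l : ℕ))
    rwa [smul_smul, ← mul_pow, neg_one_mul, neg_neg, one_pow, one_smul] at h4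

section Comm

variable {Q : Scheme.{u}} {g : Q ⟶ X} {O2 : Q.Modules} {δQ : Q → ℤ} {n' : ℕ} (T : Setting g O2 δQ δ n')
  [IsLocallyNoetherian Q]

include S in
/-- Chern caps commute with Segre operations of another bundle. -/
theorem chern_seg {E : X.Modules} (hE : FlatMod.IsFinLocFreeOfRank (n + 1) E)
    {q : (Scheme.Modules.pullback p).obj E ⟶ O1} (hP : KRR.IsProjBundle p E O1 q)
    {v : (ξ : Q) → Cyc.secFibre O2 ξ} (hv : ∀ ξ, v ξ ≠ 0) (m : ℕ) {k : ℤ} {α : AlgebraicCycle X ℤ}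
    {γ : Fin (n + 1 + 1) → AlgebraicCycle X ℤ} (hγ : Cyc.IsChernCap p δ δP O1 (n + 1) k α γ) :
    Cyc.IsChernCap p δ δP O1 (n + 1) (k - m) (T.seg (fun _ => v) m α) fun l => T.seg (fun _ => v) m (γ l) := by
  haveI := T.flat
  haveI := T.proper
  haveI := T.lft
  haveI := S.proper
  obtain ⟨δR, hδR⟩ := exists_deltaCompat (pullback.snd p g) δQ
  have hR : Cyc.IsSetup (pullback p g) δR := isSetup_of_lft _ T.hP hδR
  haveI := hR.1
  have hsq := IsPullback.of_hasPullback p g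
  have S' := setting_of_isPullback hsq hE hP T.hP hR hδR
  have hf' := deltaCompat_top hsq.w T.hδ S.hδ hδR
  have hsR : IsShift (pullback.fst p g) δR δP n' :=
    isShift_square hsq T.hP S.hX S.hP hR n' (hasRelDim_of_isShift (δX := δQ) (δY := δ) T.isShift T.hδ) T.hδ S.hδ hδR
  have h1 := S.chern_pull S' T.isShift hsR hsq.w hγ (αX := T.pullC α) rfl (β := fun l => T.pullC (γ l)) fun _ => rfl
  have h2 := S'.chern_capSeq T.inv hv h1 (n' + m)
  rw [show k + (n' : ℤ) - ((n' + m : ℕ) : ℤ) = k - m by push_cast; ring] at h2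
  exact S.chern_push S' hsq T.hδ hf' h2

/-- Chern classes of two bundles commute. -/
theorem chern_comm {E : X.Modules} (hE : FlatMod.IsFinLocFreeOfRank (n + 1) E)
    {q : (Scheme.Modules.pullback p).obj E ⟶ O1} (hP : KRR.IsProjBundle p E O1 q)
    (S : Setting p O1 δP δ n) (T : Setting g O2 δQ δ n') {k : ℤ} {α : AlgebraicCycle X ℤ}
    {γ : Fin (n + 1 + 1) → AlgebraicCycle X ℤ} (hγ : Cyc.IsChernCap p δ δP O1 (n + 1) k α γ) (i : Fin (n + 1 + 1))
    {ε : Fin (n' + 1 + 1) → AlgebraicCycle X ℤ} (hε : Cyc.IsChernCap g δ δQ O2 (n' + 1) (k - ((i : ℕ) : ℤ)) (γ i) ε)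
    {φ : Fin (n' + 1 + 1) → AlgebraicCycle X ℤ} (hφ : Cyc.IsChernCap g δ δQ O2 (n' + 1) k α φ)
    (j : Fin (n' + 1 + 1)) {ψ : Fin (n + 1 + 1) → AlgebraicCycle X ℤ}
    (hψ : Cyc.IsChernCap p δ δP O1 (n + 1) (k - ((j : ℕ) : ℤ)) (φ j) ψ) :
    Cyc.RatEquiv δ (k - ((i : ℕ) : ℤ) - ((j : ℕ) : ℤ)) (ε j) (ψ i) := by
  classical
  obtain ⟨v, hv⟩ := exists_secs T.inv
  choose Ψ hΨ using fun l : Fin (n' + 1 + 1) => S.exists_chern (φ l) (hφ.2.1 l)
  have hrefl : ∀ (j : ℤ) (a : AlgebraicCycle X ℤ), Cyc.RatEquiv δ j a a := fun j a => by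
    show Cyc.RatEquivZero δ j (a - a)
    rw [sub_self]
    exact ratEquivZero_zero
  suffices h : ∀ l : Fin (n' + 1 + 1), Cyc.RatEquivZero δ (k - ((i : ℕ) : ℤ) - ((l : ℕ) : ℤ)) (ε l - Ψ l i) by
    have h1 := h j
    have h2 := S.chern_unique (hrefl _ _) (hΨ j) hψ i
    rw [show k - ((j : ℕ) : ℤ) - ((i : ℕ) : ℤ) = k - ((i : ℕ) : ℤ) - ((j : ℕ) : ℤ) by ring] at h2
    have h3 := ratEquivZero_add h1 h2
    show Cyc.RatEquivZero δ _ (ε j - ψ i)
    rwa [sub_add_sub_cancel] at h3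
  intro l
  refine T.rec_zero hv (k := k - ((i : ℕ) : ℤ)) (fun l => ε l - Ψ l i) (fun l x hx => ?_) ?_ (fun m hm => ?_) l l rfl
  · show ε l x - Ψ l i x = 0
    rw [hε.2.1 l x hx, (hΨ l).2.1 i x (fun e => hx (by omega)), sub_zero]
  · have h2 := S.chern_unique (k := k) (hrefl k α) hγ
      (γ' := Ψ 0) (by simpa [hφ.1] using hΨ 0) i
    show Cyc.RatEquivZero δ _ (ε 0 - Ψ 0 i)
    rw [hε.1]
    exact h2
  · have hT := T.seg_relation hv hφ m hm
    let s := Finset.univ.filter fun l : Fin (n' + 1 + 1) => (l : ℕ) ≤ m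
    have hc : Cyc.IsChernCap p δ δP O1 (n + 1) (k - m)
        (∑ l ∈ s, (-1 : ℤ) ^ (l : ℕ) • T.seg (fun _ => v) (m - l) (φ l))
        (fun a => ∑ l ∈ s, (-1 : ℤ) ^ (l : ℕ) • T.seg (fun _ => v) (m - l) (Ψ l a)) := by
      refine S.chern_sum s _ fun l hl => ?_
      have := S.chern_seg T hE hP hv (m - l) (hΨ l)
      rwa [show k - ((l : ℕ) : ℤ) - ((m - (l : ℕ) : ℕ) : ℤ) = k - m by
        have := (Finset.mem_filter.1 hl).2; omega] at this
    have hz : Cyc.IsChernCap p δ δP O1 (n + 1) (k - m) (0 : AlgebraicCycle X ℤ) (fun _ => 0) := by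
      simpa using S.chern_sum (∅ : Finset ℕ) (fun _ => (0 : ℤ)) (k := k - m) (α := fun _ => 0) (γ := fun _ _ => 0)
        fun _ h => absurd h (Finset.notMem_empty _)
    have h1 : Cyc.RatEquivZero δ (k - m - ((i : ℕ) : ℤ))
        (∑ l ∈ s, (-1 : ℤ) ^ (l : ℕ) • T.seg (fun _ => v) (m - l) (Ψ l i)) := by
      have h := S.chern_unique (by
        show Cyc.RatEquivZero δ (k - m) (_ - 0)
        rw [sub_zero, Finset.sum_filter]
        exact hT) hc hz i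
      simpa [Cyc.RatEquiv] using h
    rw [show k - (m : ℤ) - ((i : ℕ) : ℤ) = k - ((i : ℕ) : ℤ) - m by ring, Finset.sum_filter] at h1
    have h2 := ratEquivZero_sub S.hX.2.2 (T.seg_relation hv hε m hm) h1
    rw [← Finset.sum_sub_distrib] at h2
    convert h2 using 2 with l
    split_ifs
    · rw [map_sub, smul_sub]
    · rw [sub_zero]

end Comm

end Setting

end Groth.Agent.CycLib.PB
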