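import Groth.Agent.CycLib.Chern.ZeroMap
import Groth.Agent.CycLib.Chern.Segre
import Groth.Agent.CycLib.Closed

/-! # A sub-bundle of corank one in a projective bundle -/

set_option autoImplicit false
set_option backward.isDefEq.respectTransparency false
set_option linter.style.haveILetI false

universe u

open CategoryTheory CategoryTheory.Limits AlgebraicGeometry TopologicalSpace
open Groth.Agent.PullbackMod

noncomputable section

namespace Groth.Agent.CycLib.PB.Setting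

variable {X P Q : Scheme.{u}} {p : P ⟶ X} {O1 : P.Modules} {δP : P → ℤ} {δ : X → ℤ} {n : ℕ}
  (S : Setting p O1 δP δ (n + 1)) {ι : Q ⟶ P} [IsClosedImmersion ι] {O2 : Q.Modules}
  (T : Setting (ι ≫ p) O2 (fun y => δP (ι y)) δ n)
  [IsLocallyNoetherian P] [IsLocallyNoetherian Q] [IsLocallyNoetherian X]
  {M : P.Modules} (hM : PicF.IsInvertible M) (φ : M ⟶ O1)
  (hι : ∀ (Z : Scheme.{u}) (g : Z ⟶ P), (∃ k, k ≫ ι = g) ↔ (Scheme.Modules.pullback g).map φ = 0)

omit [IsLocallyNoetherian Q] [IsLocallyNoetherian X] in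
include S T in
/-- A top point is not on the sub-bundle. -/
theorem notMem_range_of_top {ξ : P} (hξ : δP ξ = δ (p ξ) + (n + 1 : ℕ)) : ξ ∉ Set.range ι := by
  rintro ⟨y, rfl⟩
  have := (T.delta_le y).2
  rw [Scheme.Hom.comp_apply] at this
  push_cast at hξ
  omega

omit [IsLocallyNoetherian Q] in
include S T in
/-- The fibre ideal and the coefficient generate the maximal ideal. -/
theorem maximal_sup (y : Q) (hy : δP (ι y) = δ (p (ι y)) + n) {ξ : P} (h : ξ ⤳ ι y) (hp : p ξ = p (ι y))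
    {f : P.presheaf.stalk (ι y)} (hker : RingHom.ker (ι.stalkMap y).hom = Ideal.span {f}) :
    RingHom.ker (Cyc.specMap (ι y) ξ h) ⊔ Ideal.span {f} = IsLocalRing.maximalIdeal (P.presheaf.stalk (ι y)) := by
  refine le_antisymm (sup_le (IsLocalRing.le_maximalIdeal (RingHom.ker_ne_top _)) ?_) ?_
  · rw [← hker]
    exact IsLocalRing.le_maximalIdeal (RingHom.ker_ne_top _)
  have hmax : (fibIdeal (ι ≫ p) y).IsMaximal := by
    have := Module.length_eq_one_iff.1 (T.length_fibIdeal y (by rw [Scheme.Hom.comp_apply]; exact hy))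
    exact Ideal.isMaximal_def.2 (isSimpleModule_iff_isCoatom.1 this)
  have hfe : fibIdeal (ι ≫ p) y = (fibIdeal p (ι y)).map (ι.stalkMap y).hom := by
    rw [fibIdeal, fibIdeal, Ideal.map_map, ← CommRingCat.hom_comp, ← Scheme.Hom.stalkMap_comp]
    rfl
  have hfib : fibIdeal p (ι y) ≤ RingHom.ker (Cyc.specMap (ι y) ξ h) :=
    (apply_fromSpecStalk_eq_iff p ⟨RingHom.ker (Cyc.specMap (ι y) ξ h), inferInstance⟩).1
      (by rw [fromSpecStalk_ker h]; exact hp)
  intro a ha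
  have h1 : ι.stalkMap y a ∈ IsLocalRing.maximalIdeal (Q.presheaf.stalk y) :=
    fun hu => ha (isUnit_of_map_unit (ι.stalkMap y).hom a hu)
  rw [← IsLocalRing.eq_maximalIdeal hmax, hfe] at h1
  obtain ⟨b, hb, hab⟩ := (Ideal.mem_map_iff_of_surjective _ (ι.stalkMap_surjective y)).1 h1
  have h2 : a - b ∈ Ideal.span {f} := by
    rw [← hker, RingHom.mem_ker, map_sub]
    exact sub_eq_zero.2 hab.symm
  rw [← add_sub_cancel b a]
  exact Submodule.add_mem_sup (hfib hb) h2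

/-- The rational section induced by the map. -/
def mapSec (φ : M ⟶ O1) (v : (ξ : P) → Cyc.secFibre M ξ) (w : (ξ : P) → Cyc.secFibre O1 ξ) (ξ : P) :
    Cyc.secFibre O1 ξ :=
  open scoped Classical in if fibMap φ ξ (v ξ) ≠ 0 then fibMap φ ξ (v ξ) else w ξ

omit [IsLocallyNoetherian P] [IsLocallyNoetherian Q] [IsLocallyNoetherian X] in
theorem mapSec_ne_zero (v : (ξ : P) → Cyc.secFibre M ξ) {w : (ξ : P) → Cyc.secFibre O1 ξ} (hw : ∀ ξ, w ξ ≠ 0)
    (ξ : P) : mapSec φ v w ξ ≠ 0 := by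
  unfold mapSec
  split_ifs with h
  exacts [h, hw ξ]

include S T hM hι in
open scoped Classical in
/-- The difference of the divisors of a section and of its image. -/
theorem secDiv_diff {v : (ξ : P) → Cyc.secFibre M ξ} (hv : ∀ ξ, v ξ ≠ 0) (w : (ξ : P) → Cyc.secFibre O1 ξ) {ξ : P}
    (hξ : δP ξ = δ (p ξ) + (n + 1 : ℕ)) (η : P) :
    Cyc.secDivFun δP O1 ξ (mapSec φ v w ξ) η - Cyc.secDivFun δP M ξ (v ξ) η =
      if ξ ⤳ η ∧ δP η + 1 = δP ξ ∧ η ∈ Set.range ι then 1 else 0 := by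
  by_cases hsd : ξ ⤳ η ∧ δP η + 1 = δP ξ
  swap
  · rw [Cyc.secDivFun, Cyc.secDivFun, dif_neg hsd, dif_neg hsd, sub_zero, if_neg fun h => hsd ⟨h.1, h.2.1⟩]
  obtain ⟨hs, hd⟩ := hsd
  obtain ⟨tM, htM⟩ := exists_genAt hM η
  obtain ⟨tN, htN⟩ := exists_genAt S.inv η
  have htMη : Function.Bijective fun r : P.presheaf.stalk η => r • tM := by
    have := htM η specializes_rfl
    rwa [TopCat.Presheaf.stalkSpecializes_refl] at this
  have htNη : Function.Bijective fun r : P.presheaf.stalk η => r • tN := by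
    have := htN η specializes_rfl
    rwa [TopCat.Presheaf.stalkSpecializes_refl] at this
  obtain ⟨f, hf⟩ := htNη.2 (stalkLin φ η tM)
  change f • tN = _ at hf
  have hfξ : stalkLin φ ξ (M.presheaf.stalkSpecializes hs tM) =
      P.presheaf.stalkSpecializes hs f • O1.presheaf.stalkSpecializes hs tN := by
    rw [← stalkSpecializes_stalkLin, ← hf, RefOne.stalkSpecializes_smul]
  have hu : IsUnit (P.presheaf.stalkSpecializes hs f) := by
    refine isUnit_coeff φ ι hι hM (notMem_range_of_top S T hξ) (fun ζ hζ => ?_) hfξ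
    have := htM ζ (hζ.trans hs)
    rwa [← TopCat.Presheaf.stalkSpecializes_comp M.presheaf hζ hs] at this
  obtain ⟨a, ha⟩ := exists_smul_mkF (htM ξ hs) (v ξ)
  have hra : P.residue ξ a ≠ 0 := fun e => hv ξ (ha.trans ((smul_mkF_eq_zero_iff (htM ξ hs) a).2 e))
  have hrf : P.residue ξ (P.presheaf.stalkSpecializes hs f) ≠ 0 := (hu.map (P.residue ξ).hom).ne_zero
  have hφv : fibMap φ ξ (v ξ) = (a * P.presheaf.stalkSpecializes hs f) • mkF O1 ξ (O1.presheaf.stalkSpecializes hs tN) := by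
    rw [ha, LinearMap.map_smul, fibMap_mkF, hfξ, mul_smul]
    exact congrArg _ (Submodule.Quotient.mk_smul _ _ _)
  have hne : fibMap φ ξ (v ξ) ≠ 0 := by
    rw [hφv]
    intro e
    have := (smul_mkF_eq_zero_iff (htN ξ hs) _).1 e
    rw [map_mul] at this
    exact mul_ne_zero hra hrf this
  rw [show mapSec φ v w ξ = fibMap φ ξ (v ξ) from if_pos hne, hφv, ha, secDivFun_of hs hd, secDivFun_of hs hd,
    secOrdAt_eq S.hP.2.2 hs hd htNη (htN ξ hs), secOrdAt_eq S.hP.2.2 hs hd htMη (htM ξ hs), map_mul,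
    ordAt_mul S.hP.2.2 hs hd hra hrf, add_sub_cancel_left]
  show Cyc.ordAt η ξ hs (Cyc.specMap η ξ hs f) = _
  by_cases hη : η ∈ Set.range ι
  swap
  · rw [if_neg fun h => hη h.2.2, ordAt_specMap_unit S.hP.2.2 hs hd (isUnit_coeff φ ι hι hM hη htM hf.symm)]
  rw [if_pos ⟨hs, hd, hη⟩]
  obtain ⟨y, rfl⟩ := hη
  have hle := (T.delta_le y).2
  rw [Scheme.Hom.comp_apply] at hle
  have he := S.eq_of_delta (j := δ (p ξ)) rfl (hs.map p.continuous)
  push_cast at hξ
  have hp : p ξ = p (ι y) := (he.2 (by have := he.1; omega)).symm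
  have hker := ker_stalkMap_zeroMap φ ι hι hM S.inv y htM htNη hf.symm
  have hJ := maximal_sup S T y (by rw [hp] at hξ; omega) hs hp hker
  rw [ordAt_specMap S.hP.2.2 hs hd (a := f) hrf]
  have hsimp : Ring.ord (Cyc.LocQuot (ι y) ξ hs) (Ideal.Quotient.mk _ f) = 1 := by
    rw [Ring.ord, Module.length_eq_one_iff, isSimpleModule_iff_isCoatom]
    have e : (Ideal.span {Ideal.Quotient.mk (RingHom.ker (Cyc.specMap (ι y) ξ hs)) f}) =
        (IsLocalRing.maximalIdeal (P.presheaf.stalk (ι y))).map (Ideal.Quotient.mk (RingHom.ker (Cyc.specMap (ι y) ξ hs))) := by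
      rw [← hJ, Ideal.map_sup, Ideal.map_quotient_self, bot_sup_eq, Ideal.map_span, Set.image_singleton]
    rw [e]
    refine ((Ideal.map_eq_top_or_isMaximal_of_surjective (Ideal.Quotient.mk (RingHom.ker (Cyc.specMap (ι y) ξ hs)))
      Ideal.Quotient.mk_surjective (IsLocalRing.maximalIdeal.isMaximal _)).resolve_left fun h => ?_).out
    have h' := congrArg (Ideal.comap (Ideal.Quotient.mk (RingHom.ker (Cyc.specMap (ι y) ξ hs)))) h
    rw [Ideal.comap_map_of_surjective _ Ideal.Quotient.mk_surjective, Ideal.comap_top, ← RingHom.ker_eq_comap_bot,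
      Ideal.mk_ker, sup_eq_left.2 (IsLocalRing.le_maximalIdeal (RingHom.ker_ne_top _))] at h'
    exact (IsLocalRing.maximalIdeal.isMaximal _).ne_top h'
  rw [hsimp]
  rfl

include S T hM hι in
/-- The class of the sub-bundle of corank one. -/
theorem sub_identity {v : (ξ : P) → Cyc.secFibre M ξ} (hv : ∀ ξ, v ξ ≠ 0) (w : (ξ : P) → Cyc.secFibre O1 ξ)
    (α : AlgebraicCycle X ℤ) :
    c1Cycle S.hP.2.2 S.inv (S.pullC α) (mapSec φ v w) - c1Cycle S.hP.2.2 hM (S.pullC α) v =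
      AlgebraicCycle.map ι (fun y => δP (ι y)) δP (T.pullC α) := by
  classical
  haveI := S.lft
  ext η
  show Cyc.c1CapFun δP O1 ⇑(S.pullC α) (mapSec φ v w) η - Cyc.c1CapFun δP M ⇑(S.pullC α) v η = _
  rw [Cyc.c1CapFun, Cyc.c1CapFun, ← finsum_sub_distrib (finite_support_c1 (S.pullC α) _ _) (finite_support_c1 (S.pullC α) _ _)]
  have hterm : ∀ ξ : P, S.pullC α ξ * Cyc.secDivFun δP O1 ξ (mapSec φ v w ξ) η -
      S.pullC α ξ * Cyc.secDivFun δP M ξ (v ξ) η =
      if δP ξ = δ (p ξ) + (n + 1 : ℕ) ∧ ξ ⤳ η ∧ δP η + 1 = δP ξ ∧ η ∈ Set.range ι then α (p ξ) else 0 := fun ξ => by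
    rw [S.coe_pullC, S.pullFun_eq]
    by_cases hξ : δP ξ = δ (p ξ) + (n + 1 : ℕ)
    · rw [if_pos hξ, ← mul_sub, secDiv_diff S T hM φ hι hv w hξ]
      by_cases h : ξ ⤳ η ∧ δP η + 1 = δP ξ ∧ η ∈ Set.range ι
      · rw [if_pos h, if_pos ⟨hξ, h⟩, mul_one]
      · rw [if_neg h, if_neg fun h' => h h'.2, mul_zero]
    · rw [if_neg hξ, if_neg fun h => hξ h.1, zero_mul, zero_mul, sub_zero]
  rw [finsum_congr hterm]
  by_cases hη : η ∈ Set.range ι
  swap
  · rw [map_closed_apply_of_notMem ι _ hη]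
    exact finsum_eq_zero_of_forall_eq_zero fun ξ => if_neg fun h => hη h.2.2.2
  obtain ⟨y, rfl⟩ := hη
  rw [map_closed_apply ι, T.coe_pullC, T.pullFun_eq, Scheme.Hom.comp_apply]
  have hcase : ∀ ξ : P, δP ξ = δ (p ξ) + (n + 1 : ℕ) → ξ ⤳ ι y → δP (ι y) + 1 = δP ξ →
      p ξ = p (ι y) ∧ δP (ι y) = δ (p (ι y)) + n := fun ξ h1 hs hd => by
    have he := S.eq_of_delta (j := δ (p ξ)) rfl (hs.map p.continuous)
    have hle := (T.delta_le y).2
    rw [Scheme.Hom.comp_apply] at hle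
    push_cast at h1
    have hp : p ξ = p (ι y) := (he.2 (by have := he.1; omega)).symm
    exact ⟨hp, by rw [hp] at h1; omega⟩
  split_ifs with hy
  · obtain ⟨ξ, hξs, hξp, hmax⟩ := exists_maxFib p (ι y)
    have hξ := S.isShift ξ hmax
    have hd : δP (ι y) + 1 = δP ξ := by rw [hξp] at hξ; push_cast at hξ; omega
    rw [finsum_eq_single _ ξ fun ξ' hne => if_neg fun h => hne (S.top_unique (w := ξ) (w' := ξ')
      ((hcase ξ' h.1 h.2.1 h.2.2.1).1.trans hξp.symm) hξ (by rw [h.1, (hcase ξ' h.1 h.2.1 h.2.2.1).1, hξp])),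
      if_pos ⟨hξ, hξs, hd, y, rfl⟩, hξp]
  · exact finsum_eq_zero_of_forall_eq_zero fun ξ => if_neg fun h => hy (hcase ξ h.1 h.2.1 h.2.2.1).2

include S T hι in
/-- The class of the sub-bundle of corank one, with any rational sections. -/
theorem ratEquiv_sub_identity {k : ℤ} {α : AlgebraicCycle X ℤ} (hα : α ∈ Cyc.Zk X δ k)
    {u : (ξ : P) → Cyc.secFibre O1 ξ} (hu : ∀ ξ, u ξ ≠ 0) {v : (ξ : P) → Cyc.secFibre M ξ} (hv : ∀ ξ, v ξ ≠ 0) :
    Cyc.RatEquiv δP (k + n) (c1Cycle S.hP.2.2 S.inv (S.pullC α) u - c1Cycle S.hP.2.2 hM (S.pullC α) v)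
      (AlgebraicCycle.map ι (fun y => δP (ι y)) δP (T.pullC α)) := by
  haveI := S.lft
  have hk : S.pullC α ∈ Cyc.Zk P δP (k + n + 1) := fun x hx => by
    rw [S.coe_pullC, S.pullFun_eq]
    split_ifs with h
    · exact hα _ fun e => hx (by rw [h, e]; push_cast; ring)
    · rfl
  show Cyc.RatEquivZero δP (k + n) (_ - _)
  rw [← sub_identity S T hM φ hι hv u α, sub_sub_sub_cancel_right]
  exact ratEquiv_c1Cap S.hP.2.2 S.inv hk (mapSec_ne_zero φ v hu) hu (γ := c1Cycle S.hP.2.2 S.inv (S.pullC α) (mapSec φ v u))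
    (γ' := c1Cycle S.hP.2.2 S.inv (S.pullC α) u) rfl rfl

end Groth.Agent.CycLib.PB.Setting
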