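import Groth.Agent.CycLib.C1Pull
import Groth.Agent.CycLib.DegSec
import Groth.Agent.PullbackMod.Hom

/-! # The zero scheme of a map of invertible modules -/

set_option autoImplicit false
set_option backward.isDefEq.respectTransparency false
set_option linter.style.haveILetI false

universe u

open CategoryTheory CategoryTheory.Limits AlgebraicGeometry TopologicalSpace
open Groth.Agent.PullbackMod

noncomputable section

namespace Groth.Agent.CycLib

variable {Y T : Scheme.{u}} {M N : Y.Modules} (φ : M ⟶ N)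

/-- Where the pulled back map vanishes, so does its coefficient. -/
theorem stalkMap_coeff_eq_zero (hN : PicF.IsInvertible N) (g : T ⟶ Y) (h : (Scheme.Modules.pullback g).map φ = 0)
    (t : T) {tM : M.presheaf.stalk (g t)} {tN : N.presheaf.stalk (g t)}
    (htN : Function.Bijective fun r : Y.presheaf.stalk (g t) => r • tN) {f : Y.presheaf.stalk (g t)}
    (hf : stalkLin φ (g t) tM = f • tN) : g.stalkMap t f = 0 := by
  haveI := InvExt.isQCoh_of_isInvertible hN
  refine (ProjBundleLib.bijective_pullStalk_gen g t htN).1 ?_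
  show g.stalkMap t f • pullStalk g N t tN = (0 : T.presheaf.stalk t) • pullStalk g N t tN
  rw [zero_smul, ← pullStalk_smul, ← hf, ← pullStalk_natural, (eq_zero_iff_stalk _).1 h t]
  rfl

/-- A pulled back map vanishes if its coefficient does, over a local scheme. -/
theorem map_eq_zero_of_coeff (hM : PicF.IsInvertible M) (g : T ⟶ Y) (c : T) (hc : ∀ t : T, t ⤳ c) {η : Y}
    (he : g c ⤳ η) {tM : M.presheaf.stalk η} {tN : N.presheaf.stalk η}
    (htM : ∀ ζ (h : ζ ⤳ η), Function.Bijective fun r : Y.presheaf.stalk ζ => r • M.presheaf.stalkSpecializes h tM)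
    {f : Y.presheaf.stalk η} (hf : stalkLin φ η tM = f • tN)
    (h0 : g.stalkMap c (Y.presheaf.stalkSpecializes he f) = 0) : (Scheme.Modules.pullback g).map φ = 0 := by
  haveI := InvExt.isQCoh_of_isInvertible hM
  refine (eq_zero_iff_stalk _).2 fun t => LinearMap.ext fun z => ?_
  have hgt : g t ⤳ η := ((hc t).map g.continuous).trans he
  obtain ⟨r, rfl⟩ := (ProjBundleLib.bijective_pullStalk_gen g t (htM (g t) hgt)).2 z
  show stalkLin _ t (r • _) = 0
  rw [map_smul, pullStalk_natural, ← stalkSpecializes_stalkLin, hf, RefOne.stalkSpecializes_smul, pullStalk_smul,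
    show g.stalkMap t (Y.presheaf.stalkSpecializes hgt f) = 0 from ?_, zero_smul, smul_zero]
  have e : Y.presheaf.stalkSpecializes hgt f =
      Y.presheaf.stalkSpecializes ((hc t).map g.continuous) (Y.presheaf.stalkSpecializes he f) :=
    (ConcreteCategory.congr_hom (TopCat.Presheaf.stalkSpecializes_comp Y.presheaf ((hc t).map g.continuous) he) f).symm
  rw [e, Scheme.Hom.stalkSpecializes_stalkMap_apply g t c (hc t), h0, map_zero]

variable {Q : Scheme.{u}} (ι : Q ⟶ Y) [IsClosedImmersion ι]
  (hι : ∀ (T : Scheme.{u}) (g : T ⟶ Y), (∃ k, k ≫ ι = g) ↔ (Scheme.Modules.pullback g).map φ = 0)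
include hι

/-- The key computation: a coefficient in the maximal ideal gives a point of the zero scheme. -/
theorem exists_point (hM : PicF.IsInvertible M) {η : Y} {tM : M.presheaf.stalk η} {tN : N.presheaf.stalk η}
    (htM : ∀ ζ (h : ζ ⤳ η), Function.Bijective fun r : Y.presheaf.stalk ζ => r • M.presheaf.stalkSpecializes h tM)
    {f : Y.presheaf.stalk η} (hf : stalkLin φ η tM = f • tN)
    (hfm : f ∈ IsLocalRing.maximalIdeal (Y.presheaf.stalk η)) :
    ∃ y : Q, ∃ e : ι y = η, ∀ a : Y.presheaf.stalk η, ι.stalkMap y (Y.presheaf.stalkSpecializes (specializes_of_eq e) a) = 0 →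
      a ∈ Ideal.span {f} := by
  set I := Ideal.span {f} with hI
  haveI : Nontrivial (Y.presheaf.stalk η ⧸ I) := Ideal.Quotient.nontrivial_iff.2 fun h =>
    (IsLocalRing.maximalIdeal.isMaximal _).ne_top (eq_top_iff.2 (h.symm.le.trans ((Ideal.span_singleton_le_iff_mem _).2 hfm)))
  haveI : IsLocalRing (Y.presheaf.stalk η ⧸ I) :=
    IsLocalRing.of_surjective' (Ideal.Quotient.mk I) Ideal.Quotient.mk_surjective
  let q : Y.presheaf.stalk η ⟶ CommRingCat.of (Y.presheaf.stalk η ⧸ I) := CommRingCat.ofHom (Ideal.Quotient.mk I)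
  haveI : IsLocalHom q.hom := Function.Surjective.isLocalHom (Ideal.Quotient.mk I) Ideal.Quotient.mk_surjective
  let h : Spec (CommRingCat.of (Y.presheaf.stalk η ⧸ I)) ⟶ Y := Spec.map q ≫ Y.fromSpecStalk η
  let c := IsLocalRing.closedPoint (Y.presheaf.stalk η ⧸ I)
  have hcη : h c = η :=
    (congrArg (Y.fromSpecStalk η) (IsLocalRing.comap_closedPoint q.hom)).trans Scheme.fromSpecStalk_closedPoint
  have key : ∀ (h' : Spec (CommRingCat.of (Y.presheaf.stalk η ⧸ I)) ⟶ Y) (_ : h' = h) (hc : h' c ⤳ η)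
      (a : Y.presheaf.stalk η), Scheme.stalkClosedPointTo h' (Y.presheaf.stalkSpecializes hc a) = q a := by
    rintro _ rfl hc a
    obtain ⟨U, hηU, σ, rfl⟩ := TopCat.Presheaf.exists_germ_eq Y.presheaf a
    rw [TopCat.Presheaf.germ_stalkSpecializes_apply]
    exact ConcreteCategory.congr_hom (Scheme.germ_stalkClosedPointTo_Spec_fromSpecStalk q U (hc.mem_open U.2 hηU)) σ
  have h0 : h.stalkMap c (Y.presheaf.stalkSpecializes (specializes_of_eq hcη) f) = 0 := by
    have e := key h rfl (specializes_of_eq hcη) f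
    rw [show q f = 0 from Ideal.Quotient.eq_zero_iff_mem.2 (Ideal.mem_span_singleton_self f)] at e
    refine (stalkClosedPointIso _).commRingCatIsoToRingEquiv.injective ?_
    rw [map_zero]
    exact e
  obtain ⟨k, hk⟩ := (hι _ h).2 (map_eq_zero_of_coeff φ hM h c
    (fun t => IsLocalRing.specializes_closedPoint t) (specializes_of_eq hcη) htM hf h0)
  have hky : ι (k c) = η := by rw [← Scheme.Hom.comp_apply, hk, hcη]
  refine ⟨k c, hky, fun a ha => ?_⟩
  have e := key (k ≫ ι) hk (specializes_of_eq hky) a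
  rw [Scheme.stalkClosedPointTo_comp, CommRingCat.comp_apply] at e
  exact Ideal.Quotient.eq_zero_iff_mem.1 ((e.symm.trans (congrArg _ ha)).trans (map_zero _))

/-- The ideal of the zero scheme. -/
theorem ker_stalkMap_zeroMap (hM : PicF.IsInvertible M) (hN : PicF.IsInvertible N) (y : Q)
    {tM : M.presheaf.stalk (ι y)} {tN : N.presheaf.stalk (ι y)}
    (htM : ∀ ζ (h : ζ ⤳ ι y), Function.Bijective fun r : Y.presheaf.stalk ζ => r • M.presheaf.stalkSpecializes h tM)
    (htN : Function.Bijective fun r : Y.presheaf.stalk (ι y) => r • tN)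
    {f : Y.presheaf.stalk (ι y)} (hf : stalkLin φ (ι y) tM = f • tN) :
    RingHom.ker (ι.stalkMap y).hom = Ideal.span {f} := by
  have h0 : ι.stalkMap y f = 0 :=
    stalkMap_coeff_eq_zero φ hN ι ((hι Q ι).1 ⟨𝟙 Q, Category.id_comp _⟩) y htN hf
  refine le_antisymm (fun a ha => ?_) ((Ideal.span_singleton_le_iff_mem _).2 h0)
  have hfm : f ∈ IsLocalRing.maximalIdeal (Y.presheaf.stalk (ι y)) := fun hu => by
    have := hu.map (ι.stalkMap y).hom
    rw [show (ι.stalkMap y).hom f = 0 from h0] at this
    exact not_isUnit_zero this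
  obtain ⟨y', e, h⟩ := exists_point φ ι hι hM htM hf hfm
  obtain rfl : y' = y := ι.isEmbedding.injective e
  refine h a ?_
  rw [show Y.presheaf.stalkSpecializes (specializes_of_eq e) a = a from
    ConcreteCategory.congr_hom (TopCat.Presheaf.stalkSpecializes_refl Y.presheaf _) a]
  exact ha

/-- Off the zero scheme the coefficient is a unit. -/
theorem isUnit_coeff (hM : PicF.IsInvertible M) {η : Y} (hη : η ∉ Set.range ι) {tM : M.presheaf.stalk η}
    {tN : N.presheaf.stalk η}
    (htM : ∀ ζ (h : ζ ⤳ η), Function.Bijective fun r : Y.presheaf.stalk ζ => r • M.presheaf.stalkSpecializes h tM)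
    {f : Y.presheaf.stalk η} (hf : stalkLin φ η tM = f • tN) : IsUnit f := by
  by_contra hu
  obtain ⟨y, e, -⟩ := exists_point φ ι hι hM htM hf hu
  exact hη ⟨y, e⟩

end Groth.Agent.CycLib
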